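import Mathlib.GroupTheory.PGroup
import Mathlib.GroupTheory.QuotientGroup.Basic
import Mathlib.Algebra.Group.End
import Mathlib.GroupTheory.GroupAction.Basic
import Mathlib.GroupTheory.Index
import Mathlib.GroupTheory.OrderOfElement
import Mathlib.Tactic.IntervalCases

/-!
# Odd groups of automorphisms of abelian groups of order eight or sixteen

The group has an involution with trivial stabilizer, and few fixed points.
-/

set_option autoImplicit false
set_option linter.style.haveILetI false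

namespace CfsgLib.AbTwoOne

open MulAction

universe u

variable {A : Type u} [CommGroup A] [Finite A]

/-- The elements of exponent two. -/
def twoTorsion (A : Type u) [CommGroup A] : Subgroup A := (powMonoidHom 2 : A →* A).ker

omit [Finite A] in
theorem mem_twoTorsion {y : A} : y ∈ twoTorsion A ↔ y * y = 1 := by
  rw [twoTorsion, MonoidHom.mem_ker, powMonoidHom_apply, pow_two]

/-- No fixed points, and an involution with trivial stabilizer. -/
theorem classify (E : Subgroup (MulAut A)) (hq : Nat.card A = 8 ∨ Nat.card A = 16)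
    (hodd : Odd (Nat.card E)) {x : A} (hx : orderOf x = 2)
    (hfree : ∀ α ∈ E, α x = x → α = 1) (hfix : ∀ y, (∀ α ∈ E, α y = y) → y = 1) :
    ((∀ y : A, y * y = 1) ∧ ∀ α ∈ E, ∀ y, y ≠ 1 → α y = y → α = 1) ∨
      (Nat.card A = 16 ∧ Nat.card E = 3 ∧ ∀ α ∈ E, ∀ y, y ≠ 1 → α y = y → α = 1) ∨
      (Nat.card A = 16 ∧ (∀ y : A, y * y = 1) ∧ Nat.card E = 9) := by
  classical
  set T := twoTorsion A with hT
  have hxT : x ∈ T := mem_twoTorsion.2 (by rw [← pow_two, ← hx, pow_orderOf_eq_one])
  have hx1 : x ≠ 1 := fun e => by rw [e, orderOf_one] at hx; omega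
  have hTinv : ∀ α : MulAut A, ∀ y ∈ T, α y ∈ T := fun α y hy => by
    rw [mem_twoTorsion] at hy ⊢
    rw [← map_mul, hy, map_one]
  let F : E → {y : T // y ≠ 1} := fun α => ⟨⟨(α : MulAut A) x, hTinv α.1 x hxT⟩, fun e =>
    hx1 ((α : MulAut A).injective (by rw [map_one]; exact congrArg Subtype.val e))⟩
  have hF : Function.Injective F := fun α β e => by
    have e' : (α : MulAut A) x = (β : MulAut A) x := congrArg (fun z => ((z.1 : T) : A)) e
    have h1 := hfree ((β⁻¹ * α : E) : MulAut A) (β⁻¹ * α).2 (by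
      show (β : MulAut A)⁻¹ ((α : MulAut A) x) = x
      rw [e', MulAut.inv_apply_self])
    exact (inv_mul_eq_one.1 (Subtype.ext h1 : β⁻¹ * α = 1)).symm
  haveI := Fintype.ofFinite T
  have hle : Nat.card E + 1 ≤ Nat.card T := by
    have h1 := Nat.card_le_card_of_injective F hF
    rw [Nat.card_eq_fintype_card (α := {y : T // y ≠ 1}), Fintype.card_subtype_compl,
      Fintype.card_subtype_eq, ← Nat.card_eq_fintype_card] at h1
    have := Nat.card_pos (α := T)
    omega
  have hTdvd : Nat.card T ∣ Nat.card A := T.card_subgroup_dvd_card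
  have hTA : Nat.card T = Nat.card A → ∀ y : A, y * y = 1 := fun h y =>
    mem_twoTorsion.1 (show y ∈ T by rw [(Subgroup.card_eq_iff_eq_top T).1 h]; exact Subgroup.mem_top y)
  have hT16 : Nat.card T ≤ 16 := by
    have := Nat.le_of_dvd Nat.card_pos hTdvd; omega
  have he0 : 0 < Nat.card E := Nat.card_pos
  obtain ⟨j, hj⟩ := hodd
  have hne1 : Nat.card E ≠ 1 := fun e => by
    haveI := (Nat.card_eq_one_iff_unique.1 e).1
    exact hx1 (hfix x fun α hα => by
      rw [show α = 1 from congrArg Subtype.val (Subsingleton.elim (⟨α, hα⟩ : E) 1)]; rfl)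
  have hTval : Nat.card T ∈ ({1, 2, 4, 8, 16} : Finset ℕ) := by
    have : Nat.card T ∈ Nat.divisors 16 := Nat.mem_divisors.2 ⟨hTdvd.trans (by
      rcases hq with e | e <;> rw [e] <;> norm_num), by norm_num⟩
    rwa [show Nat.divisors 16 = {1, 2, 4, 8, 16} by decide] at this
  simp only [Finset.mem_insert, Finset.mem_singleton] at hTval
  -- prime order
  have hprime : (Nat.card E).Prime →
      (∀ α ∈ E, ∀ y, y ≠ 1 → α y = y → α = 1) ∧
        Nat.card A % Nat.card E = 1 % Nat.card E ∧ Nat.card T % Nat.card E = 1 % Nat.card E := by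
    intro hp
    haveI : Fact (Nat.card E).Prime := ⟨hp⟩
    have hfree' : ∀ α ∈ E, ∀ y, y ≠ 1 → α y = y → α = 1 := by
      intro α hα y hy hay
      by_contra hα1
      refine hy (hfix y fun β hβ => ?_)
      have hgen : (⟨β, hβ⟩ : E) ∈ Subgroup.zpowers (⟨α, hα⟩ : E) :=
        mem_zpowers_of_prime_card rfl (fun e => hα1 (congrArg Subtype.val e))
      have hS : Subgroup.zpowers (⟨α, hα⟩ : E) ≤ stabilizer E y :=
        Subgroup.zpowers_le.2 hay
      exact hS hgen
    have hpG : IsPGroup (Nat.card E) E := IsPGroup.of_card (n := 1) (pow_one _).symm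
    refine ⟨hfree', ?_, ?_⟩
    · have h1 := hpG.card_modEq_card_fixedPoints A
      have h2 : fixedPoints E A = {1} := Set.ext fun y =>
        ⟨fun hy => hfix y fun α hα => hy ⟨α, hα⟩, fun hy α => by
          rw [Set.mem_singleton_iff] at hy; subst hy; exact map_one (α : MulAut A)⟩
      rw [h2, Nat.card_coe_set_eq ({1} : Set _), Set.ncard_singleton] at h1
      exact h1
    · letI : MulAction E T :=
        { smul := fun α y => ⟨(α : MulAut A) y, hTinv α.1 y y.2⟩
          one_smul := fun y => Subtype.ext rfl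
          mul_smul := fun α β y => Subtype.ext rfl }
      have h1 := hpG.card_modEq_card_fixedPoints T
      have h2 : fixedPoints E T = {1} := Set.ext fun y =>
        ⟨fun hy => Subtype.ext (hfix y fun α hα => congrArg Subtype.val (hy ⟨α, hα⟩)), fun hy α => by
          rw [Set.mem_singleton_iff] at hy; subst hy
          exact Subtype.ext (map_one (α : MulAut A))⟩
      rw [h2, Nat.card_coe_set_eq ({1} : Set _), Set.ncard_singleton] at h1
      exact h1
  have hcases : Nat.card E = 3 ∨ Nat.card E = 5 ∨ Nat.card E = 7 ∨ Nat.card E = 9 ∨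
      Nat.card E = 11 ∨ Nat.card E = 13 ∨ Nat.card E = 15 := by omega
  rcases hcases with e | e | e | e | e | e | e
  · obtain ⟨hf, hA, -⟩ := hprime (by rw [e]; decide)
    rw [e] at hA
    exact Or.inr (Or.inl ⟨by omega, e, hf⟩)
  · obtain ⟨hf, hA, hT'⟩ := hprime (by rw [e]; decide)
    rw [e] at hA hT'
    exact Or.inl ⟨hTA (by omega), hf⟩
  · obtain ⟨hf, hA, hT'⟩ := hprime (by rw [e]; decide)
    rw [e] at hA hT'
    exact Or.inl ⟨hTA (by omega), hf⟩
  · have := Nat.le_of_dvd Nat.card_pos hTdvd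
    exact Or.inr (Or.inr ⟨by omega, hTA (by omega), e⟩)
  · obtain ⟨-, hA, -⟩ := hprime (by rw [e]; decide)
    rw [e] at hA; omega
  · obtain ⟨-, hA, -⟩ := hprime (by rw [e]; decide)
    rw [e] at hA; omega
  -- fifteen automorphisms are transitive
  have := Nat.le_of_dvd Nat.card_pos hTdvd
  have hT' : Nat.card T = Nat.card A := by omega
  refine Or.inl ⟨hTA hT', fun α hα y hy hay => ?_⟩
  haveI := Fintype.ofFinite E
  have hbij : Function.Bijective F := (Fintype.bijective_iff_injective_and_card F).2 ⟨hF, by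
    rw [Fintype.card_subtype_compl, Fintype.card_subtype_eq, ← Nat.card_eq_fintype_card,
      ← Nat.card_eq_fintype_card]
    omega⟩
  obtain ⟨β, hβ⟩ := hbij.2 ⟨⟨y, (Subgroup.card_eq_iff_eq_top T).1 hT' ▸ Subgroup.mem_top y⟩,
    fun e => hy (congrArg Subtype.val e)⟩
  have hβ' : (β : MulAut A) x = y := congrArg (fun z => ((z.1 : T) : A)) hβ
  have h1 := hfree ((β : MulAut A)⁻¹ * α * β) (E.mul_mem (E.mul_mem (E.inv_mem β.2) hα) β.2) (by
    show (β : MulAut A)⁻¹ (α ((β : MulAut A) x)) = x
    rw [hβ', hay, ← hβ', MulAut.inv_apply_self])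
  calc α = (β : MulAut A) * ((β : MulAut A)⁻¹ * α * β) * (β : MulAut A)⁻¹ := by group
    _ = 1 := by rw [h1, mul_one, mul_inv_cancel]

/-- Two fixed points: modulo them the action is free and the exponent is two. -/
theorem classify_two (E : Subgroup (MulAut A)) (hq : Nat.card A = 16) (hodd : Odd (Nat.card E))
    {x z : A} (hx : orderOf x = 2) (hz : orderOf z = 2)
    (hfree : ∀ α ∈ E, α x = x → α = 1) (hzfix : ∀ α ∈ E, α z = z)
    (hfix : ∀ y, (∀ α ∈ E, α y = y) → y = 1 ∨ y = z) :
    (∀ y : A, y * y = 1 ∨ y * y = z) ∧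
      ∀ α ∈ E, ∀ y, y ≠ 1 → y ≠ z → (α y = y ∨ α y = y * z) → α = 1 := by
  classical
  have hzz : z * z = 1 := by rw [← pow_two, ← hz, pow_orderOf_eq_one]
  set Z := Subgroup.zpowers z with hZ
  have hmemZ : ∀ {y : A}, y ∈ Z ↔ y = 1 ∨ y = z := by
    intro y
    constructor
    · intro hy
      obtain ⟨k, hk, rfl⟩ :=
        (isOfFinOrder_of_finite z).mem_zpowers_iff_mem_range_orderOf.1 hy |> fun h => by
          simpa using h
      rw [hz] at hk
      interval_cases k <;> simp
    · rintro (rfl | rfl)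
      · exact one_mem _
      · exact Subgroup.mem_zpowers _
  -- an odd automorphism moving `y` by `z` fixes it
  have hodd' : ∀ α ∈ E, ∀ y, (α y = y ∨ α y = y * z) → α y = y := by
    intro α hα y hy
    rcases hy with e | e
    · exact e
    have h2 : (α ^ 2) y = y := by
      rw [pow_two, MulAut.mul_apply, e, map_mul, e, hzfix α hα, mul_assoc, hzz, mul_one]
    obtain ⟨j, hj⟩ := hodd
    have h1 : α ^ (2 * j + 1) = 1 := by
      have : (⟨α, hα⟩ : E) ^ Nat.card E = 1 := pow_card_eq_one'
      rw [hj] at this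
      exact congrArg Subtype.val this
    have h3 : ∀ k : ℕ, ((α ^ 2) ^ k) y = y := by
      intro k
      induction k with
      | zero => simp
      | succ k ih => rw [pow_succ, MulAut.mul_apply, h2, ih]
    have h4 : α = ((α ^ 2) ^ (j + 1)) := by
      rw [← pow_mul, show 2 * (j + 1) = 2 * j + 1 + 1 by ring, pow_succ, h1, one_mul]
    rw [h4]
    exact h3 _
  have hmap : ∀ α ∈ E, Z.map (α : A ≃* A).toMonoidHom = Z := by
    intro α hα
    rw [hZ, MonoidHom.map_zpowers]
    congr 1
    exact hzfix α hα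
  let Φ : E →* MulAut (A ⧸ Z) :=
    { toFun := fun α => QuotientGroup.congr Z Z (α : MulAut A) (hmap α α.2)
      map_one' := MulEquiv.ext fun q => by
        obtain ⟨y, rfl⟩ := QuotientGroup.mk_surjective q
        rfl
      map_mul' := fun α β => MulEquiv.ext fun q => by
        obtain ⟨y, rfl⟩ := QuotientGroup.mk_surjective q
        rfl }
  have hΦ : ∀ (α : E) (y : A), Φ α (y : A ⧸ Z) = (((α : MulAut A) y : A) : A ⧸ Z) :=
    fun α y => rfl
  have hrel : ∀ {a b : A}, (a : A ⧸ Z) = (b : A ⧸ Z) → b = a ∨ b = a * z := by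
    intro a b h
    rcases hmemZ.1 (QuotientGroup.eq.1 h) with e | e
    · exact Or.inl (inv_mul_eq_one.1 e).symm
    · exact Or.inr (eq_mul_of_inv_mul_eq e)
  have hxZ : x ∉ Z := fun hm => by
    rcases hmemZ.1 hm with e | e
    · rw [e, orderOf_one] at hx; omega
    · have h1 := hfix x fun α hα => by rw [e]; exact hzfix α hα
      -- then every automorphism is trivial and every element is fixed
      have hall : ∀ α ∈ E, α = 1 := fun α hα => hfree α hα (by rw [e]; exact hzfix α hα)
      have h2 : ∀ y : A, y ∈ Z := fun y => hmemZ.2 (hfix y fun α hα => by rw [hall α hα]; rfl)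
      have h3 : Z = ⊤ := Subgroup.eq_top_iff' Z |>.2 h2
      have h4 : Nat.card Z = 16 := by rw [h3, Subgroup.card_top, hq]
      rw [hZ, Nat.card_zpowers, hz] at h4
      omega
  have hcardQ : Nat.card (A ⧸ Z) = 8 := by
    have h1 := Subgroup.card_eq_card_quotient_mul_card_subgroup Z
    rw [hq, hZ, Nat.card_zpowers, hz] at h1
    rw [hZ]; omega
  have hΦinj : ∀ α : E, Φ α (x : A ⧸ Z) = (x : A ⧸ Z) → α = 1 := by
    intro α hα
    rw [hΦ] at hα
    refine Subtype.ext (hfree _ α.2 (hodd' _ α.2 x ?_))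
    exact hrel hα.symm
  have hodd2 : Odd (Nat.card Φ.range) := hodd.of_dvd_nat (Subgroup.card_range_dvd Φ)
  have hx' : orderOf (x : A ⧸ Z) = 2 := by
    refine orderOf_eq_prime (hp := ⟨Nat.prime_two⟩) ?_ fun e => hxZ ((QuotientGroup.eq_one_iff x).1 e)
    rw [← QuotientGroup.mk_pow, ← hx, pow_orderOf_eq_one]; rfl
  have key := classify Φ.range (Or.inl hcardQ) hodd2 hx'
    (by rintro _ ⟨α, rfl⟩ hα; rw [hΦinj α hα, map_one])
    (by
      intro q hq'
      obtain ⟨y, rfl⟩ := QuotientGroup.mk_surjective q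
      rw [QuotientGroup.eq_one_iff, hmemZ]
      exact hfix y fun α hα => hodd' α hα y (hrel (hq' _ ⟨⟨α, hα⟩, rfl⟩).symm))
  rcases key with ⟨hel, hfr⟩ | ⟨h16, -⟩ | ⟨h16, -⟩
  · refine ⟨fun y => hmemZ.1 ((QuotientGroup.eq_one_iff _).1 (hel (y : A ⧸ Z))), fun α hα y hy hyz hay => ?_⟩
    have hy' : (y : A ⧸ Z) ≠ 1 := fun e => by
      rcases hmemZ.1 ((QuotientGroup.eq_one_iff y).1 e) with e' | e'
      · exact hy e'
      · exact hyz e'
    have h2 := hfr _ ⟨⟨α, hα⟩, rfl⟩ _ hy' (by
      rw [hΦ, hodd' α hα y hay])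
    exact congrArg Subtype.val (hΦinj ⟨α, hα⟩ (by rw [h2]; rfl))
  · omega
  · omega

end CfsgLib.AbTwoOne
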