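import Mathlib.Algebra.BigOperators.Ring.Finset
import Mathlib.Algebra.Order.BigOperators.Group.Finset
import Mathlib.Data.Rat.Defs
import Mathlib.Algebra.Order.Field.Basic
import Mathlib.Tactic.Linarith
import Mathlib.Tactic.LinearCombination
import Mathlib.Tactic.FieldSimp
import Mathlib.Tactic.NormNum
import Mathlib.Tactic.IntervalCases

/-!
# The class equation bounds the index
-/

set_option autoImplicit false

namespace CfsgLib.AbTwoOne

open Finset

variable {ι : Type*} [DecidableEq ι]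

theorem term_ge {a : ℤ} {n L : ℕ} (ha : a < 0) (hn : L ≤ n) (hL : 0 < L) :
    (a : ℚ) ^ 3 / L ≤ (a : ℚ) ^ 3 / n := by
  have hL' : (0 : ℚ) < L := by exact_mod_cast hL
  have hn' : (L : ℚ) ≤ n := by exact_mod_cast hn
  have ha' : (a : ℚ) ^ 3 ≤ 0 := by
    have : (a : ℚ) < 0 := by exact_mod_cast ha
    exact le_of_lt (Odd.pow_neg (by decide) this)
  rw [div_le_div_iff₀ hL' (lt_of_lt_of_le hL' hn')]
  exact mul_le_mul_of_nonpos_left hn' ha'

theorem lt_of_lhs {N : ℕ} {L l c r : ℚ} (hid : (N : ℚ) * c * L = r) (hl : l ≤ L) (hc : 0 ≤ c)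
    {B : ℕ} (hB : r < (B : ℚ) * c * l) (hl0 : 0 ≤ l) : N < B := by
  by_contra h
  have h1 : (B : ℚ) ≤ N := by exact_mod_cast not_lt.1 h
  have h2 : (B : ℚ) * c * l ≤ (N : ℚ) * c * L :=
    mul_le_mul (mul_le_mul_of_nonneg_right h1 hc) hl hl0 (mul_nonneg N.cast_nonneg hc)
  linarith

theorem eq_zero_of_not_pos {t : Finset ι} (a : ι → ℤ) (n : ι → ℕ) (hn : ∀ i ∈ t, 0 < n i)
    (hone : 1 + ∑ i ∈ t, a i * (n i : ℤ) = 0) (hneg : ∀ i ∈ t, a i < 0 → 2 ≤ n i)
    (h : ∀ i ∈ t, a i ≤ 0) : False := by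
  by_cases hall : ∀ i ∈ t, a i = 0
  · rw [sum_eq_zero fun i hi => by rw [hall i hi, zero_mul]] at hone
    omega
  push Not at hall
  obtain ⟨j, hj, hj0⟩ := hall
  have hjneg : a j < 0 := lt_of_le_of_ne (h j hj) hj0
  rw [← add_sum_erase t _ hj] at hone
  have h1 : ∑ i ∈ t.erase j, a i * (n i : ℤ) ≤ 0 := sum_nonpos fun i hi =>
    mul_nonpos_of_nonpos_of_nonneg (h i (mem_of_mem_erase hi)) (Int.natCast_nonneg _)
  have h2 : a j * (n j : ℤ) ≤ -(n j : ℤ) := by
    have : a j ≤ -1 := by omega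
    nlinarith [Int.natCast_nonneg (n j)]
  have := hneg j hj hjneg
  omega

/-- The bound for `q = 8`. -/
theorem bound_eight {t : Finset ι} (a : ι → ℤ) (n : ι → ℕ) (N : ℕ)
    (hn : ∀ i ∈ t, 0 < n i) (hsq : ∑ i ∈ t, a i * a i = 7)
    (hone : 1 + ∑ i ∈ t, a i * (n i : ℤ) = 0)
    (hcong : ∀ i ∈ t, ∃ m : ℕ, (n i : ℤ) + 7 * a i = 8 * m)
    (hd : ∀ i ∈ t, a i = -1 → n i ≠ 7)
    (hid : (N : ℚ) * 7 * (1 + ∑ i ∈ t, (a i : ℚ) ^ 3 / (n i : ℚ)) = 48) : N ≤ 30 := by
  have hle : ∀ i ∈ t, a i * a i ≤ 7 := fun i hi =>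
    hsq ▸ single_le_sum (f := fun j => a j * a j) (fun j _ => mul_self_nonneg _) hi
  have hlow : ∀ i ∈ t, -2 ≤ a i := fun i hi => by
    have := hle i hi
    nlinarith
  have hn1 : ∀ i ∈ t, a i = -1 → 15 ≤ n i := fun i hi h => by
    obtain ⟨m, hm⟩ := hcong i hi
    have := hd i hi h
    rw [h] at hm
    omega
  have hn2 : ∀ i ∈ t, a i = -2 → 14 ≤ n i := fun i hi h => by
    obtain ⟨m, hm⟩ := hcong i hi
    rw [h] at hm
    omega
  set A₁ := t.filter fun i => a i = -1 with hA₁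
  set A₂ := t.filter fun i => a i = -2 with hA₂
  set A₀ := t.filter fun i => 0 < a i with hA₀
  have hbound : -(A₁.card : ℚ) / 15 - (A₂.card : ℚ) * 4 / 7 ≤
      ∑ i ∈ t, (a i : ℚ) ^ 3 / (n i : ℚ) := by
    have h1 : ∀ i ∈ t, (if a i = -1 then -(1 : ℚ) / 15 else 0) +
        (if a i = -2 then -(4 : ℚ) / 7 else 0) ≤ (a i : ℚ) ^ 3 / (n i : ℚ) := by
      intro i hi
      by_cases e1 : a i = -1
      · rw [if_pos e1, if_neg (by omega), add_zero]
        refine le_trans ?_ (term_ge (L := 15) (by omega) (hn1 i hi e1) (by norm_num))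
        rw [e1]; norm_num
      by_cases e2 : a i = -2
      · rw [if_neg e1, if_pos e2, zero_add]
        refine le_trans ?_ (term_ge (L := 14) (by omega) (hn2 i hi e2) (by norm_num))
        rw [e2]; norm_num
      rw [if_neg e1, if_neg e2, add_zero]
      have h0 : 0 ≤ a i := by have := hlow i hi; omega
      exact div_nonneg (pow_nonneg (by exact_mod_cast h0) 3) (Nat.cast_nonneg _)
    have h2 := sum_le_sum h1
    rw [sum_add_distrib, ← sum_filter, ← sum_filter, sum_const, sum_const, nsmul_eq_mul,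
      nsmul_eq_mul] at h2
    linarith
  have hcount : A₁.card + 4 * A₂.card + A₀.card ≤ 7 := by
    have h1 : ∀ i ∈ t, ((if a i = -1 then (1 : ℤ) else 0) + (if a i = -2 then (4 : ℤ) else 0)) +
        (if 0 < a i then (1 : ℤ) else 0) ≤ a i * a i := by
      intro i hi
      by_cases e1 : a i = -1
      · simp [e1]
      by_cases e2 : a i = -2
      · simp [e2]
      by_cases e0 : 0 < a i
      · rw [if_neg e1, if_neg e2, if_pos e0]; nlinarith
      · rw [if_neg e1, if_neg e2, if_neg e0]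
        have := mul_self_nonneg (a i); omega
    have h2 := sum_le_sum h1
    rw [sum_add_distrib, sum_add_distrib, ← sum_filter, ← sum_filter, ← sum_filter, sum_const,
      sum_const, sum_const, hsq] at h2
    simp only [nsmul_eq_mul, mul_one] at h2
    rw [hA₁, hA₂, hA₀]
    omega
  have hpos : 1 ≤ A₀.card := by
    rw [Nat.one_le_iff_ne_zero]
    intro h0
    rw [card_eq_zero, hA₀, filter_eq_empty_iff] at h0
    refine eq_zero_of_not_pos a n hn hone (fun i hi hai => ?_) fun i hi => not_lt.1 (h0 hi)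
    have h2 := hlow i hi
    rcases (show a i = -1 ∨ a i = -2 by omega) with e | e
    · have := hn1 i hi e; omega
    · have := hn2 i hi e; omega
  have hL : (29 : ℚ) / 105 ≤ 1 + ∑ i ∈ t, (a i : ℚ) ^ 3 / (n i : ℚ) := by
    rcases (show A₂.card = 0 ∨ A₂.card = 1 by omega) with e | e <;>
      rw [e] at hbound hcount <;> push_cast at hbound
    · have : (A₁.card : ℚ) ≤ 6 := by exact_mod_cast (show A₁.card ≤ 6 by omega)
      linarith
    · have : (A₁.card : ℚ) ≤ 2 := by exact_mod_cast (show A₁.card ≤ 2 by omega)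
      linarith
  have := lt_of_lhs hid hL (by norm_num) (B := 31) (by norm_num) (by norm_num)
  omega

/-- The bound for `q = 16`. -/
theorem bound_sixteen {t : Finset ι} (a : ι → ℤ) (n : ι → ℕ) (N : ℕ)
    (hn : ∀ i ∈ t, 0 < n i) (hsq : ∑ i ∈ t, a i * a i = 15)
    (hone : 1 + ∑ i ∈ t, a i * (n i : ℤ) = 0)
    (hcong : ∀ i ∈ t, ∃ m : ℕ, (n i : ℤ) + 15 * a i = 16 * m)
    (hd : ∀ i ∈ t, a i = -1 → n i ≠ 15)
    (hid : (N : ℚ) * 15 * (1 + ∑ i ∈ t, (a i : ℚ) ^ 3 / (n i : ℚ)) = 224) :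
    N ≤ 141 ∧ N ≠ 113 := by
  have hle : ∀ i ∈ t, a i * a i ≤ 15 := fun i hi =>
    hsq ▸ single_le_sum (f := fun j => a j * a j) (fun j _ => mul_self_nonneg _) hi
  have hlow : ∀ i ∈ t, -3 ≤ a i := fun i hi => by
    have := hle i hi
    nlinarith
  have hn1 : ∀ i ∈ t, a i = -1 → 31 ≤ n i := fun i hi h => by
    obtain ⟨m, hm⟩ := hcong i hi
    have := hd i hi h
    rw [h] at hm
    omega
  have hn2 : ∀ i ∈ t, a i = -2 → 30 ≤ n i := fun i hi h => by
    obtain ⟨m, hm⟩ := hcong i hi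
    rw [h] at hm
    omega
  have hn3 : ∀ i ∈ t, a i = -3 → 45 ≤ n i := fun i hi h => by
    obtain ⟨m, hm⟩ := hcong i hi
    rw [h] at hm
    omega
  set A₁ := t.filter fun i => a i = -1 with hA₁
  set A₂ := t.filter fun i => a i = -2 with hA₂
  set A₃ := t.filter fun i => a i = -3 with hA₃
  set A₀ := t.filter fun i => 0 < a i with hA₀
  set f : ι → ℚ := fun i => (a i : ℚ) ^ 3 / (n i : ℚ) with hf
  have hsplit : ∑ i ∈ t, f i = ∑ i ∈ A₁, f i + ∑ i ∈ A₂, f i + ∑ i ∈ A₃, f i + ∑ i ∈ A₀, f i := by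
    rw [hA₁, hA₂, hA₃, hA₀, sum_filter, sum_filter, sum_filter, sum_filter, ← sum_add_distrib,
      ← sum_add_distrib, ← sum_add_distrib]
    refine sum_congr rfl fun i hi => ?_
    have h3 := hlow i hi
    rcases (show a i = -1 ∨ a i = -2 ∨ a i = -3 ∨ a i = 0 ∨ 0 < a i by omega) with e|e|e|e|e
    · simp [e]
    · simp [e]
    · simp [e]
    · simp [e, hf]
    · rw [if_neg (by omega), if_neg (by omega), if_neg (by omega), if_pos e]; simp
  have hb1 : -(A₁.card : ℚ) / 31 ≤ ∑ i ∈ A₁, f i := by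
    refine le_trans ?_ (card_nsmul_le_sum A₁ f (-1 / 31) fun i hi => ?_)
    · rw [nsmul_eq_mul]; linarith
    · obtain ⟨hit, e⟩ := mem_filter.1 hi
      refine le_trans ?_ (term_ge (L := 31) (by omega) (hn1 i hit e) (by norm_num))
      rw [e]; norm_num
  have hb2 : -(A₂.card : ℚ) * 4 / 15 ≤ ∑ i ∈ A₂, f i := by
    refine le_trans ?_ (card_nsmul_le_sum A₂ f (-4 / 15) fun i hi => ?_)
    · rw [nsmul_eq_mul]; linarith
    · obtain ⟨hit, e⟩ := mem_filter.1 hi
      refine le_trans ?_ (term_ge (L := 30) (by omega) (hn2 i hit e) (by norm_num))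
      rw [e]; norm_num
  have hb3 : -(A₃.card : ℚ) * 3 / 5 ≤ ∑ i ∈ A₃, f i := by
    refine le_trans ?_ (card_nsmul_le_sum A₃ f (-3 / 5) fun i hi => ?_)
    · rw [nsmul_eq_mul]; linarith
    · obtain ⟨hit, e⟩ := mem_filter.1 hi
      refine le_trans ?_ (term_ge (L := 45) (by omega) (hn3 i hit e) (by norm_num))
      rw [e]; norm_num
  have hb0 : 0 ≤ ∑ i ∈ A₀, f i := sum_nonneg fun i hi => by
    obtain ⟨-, e⟩ := mem_filter.1 hi
    exact div_nonneg (pow_nonneg (by exact_mod_cast e.le) 3) (Nat.cast_nonneg _)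
  have hsqsplit : ∑ i ∈ t, a i * a i =
      (A₁.card : ℤ) + 4 * (A₂.card : ℤ) + 9 * (A₃.card : ℤ) + ∑ i ∈ A₀, a i * a i := by
    have h1 : ∀ (v : ℤ), ((t.filter fun i => a i = v).card : ℤ) * (v * v) =
        ∑ i ∈ t, if a i = v then a i * a i else 0 := fun v => by
      rw [← sum_filter, sum_congr rfl (g := fun _ => v * v) fun i hi => by rw [(mem_filter.1 hi).2],
        sum_const, nsmul_eq_mul]
    have e1 := h1 (-1)
    have e2 := h1 (-2)
    have e3 := h1 (-3)
    norm_num at e1 e2 e3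
    rw [hA₁, hA₂, hA₃, hA₀, mul_comm (4 : ℤ), mul_comm (9 : ℤ), e1, e2, e3, sum_filter,
      ← sum_add_distrib, ← sum_add_distrib, ← sum_add_distrib]
    refine sum_congr rfl fun i hi => ?_
    have h3 := hlow i hi
    rcases (show a i = -1 ∨ a i = -2 ∨ a i = -3 ∨ a i = 0 ∨ 0 < a i by omega) with e|e|e|e|e
    · simp [e]
    · simp [e]
    · simp [e]
    · simp [e]
    · rw [if_neg (by omega), if_neg (by omega), if_neg (by omega), if_pos e]; simp
  have hA₀ge : (A₀.card : ℤ) ≤ ∑ i ∈ A₀, a i * a i := by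
    simpa using card_nsmul_le_sum A₀ (fun i => a i * a i) 1 fun i hi => by
      have := (mem_filter.1 hi).2
      nlinarith
  have hpos : 1 ≤ A₀.card := by
    rw [Nat.one_le_iff_ne_zero]
    intro h0
    rw [card_eq_zero, hA₀, filter_eq_empty_iff] at h0
    refine eq_zero_of_not_pos a n hn hone (fun i hi hai => ?_) fun i hi => not_lt.1 (h0 hi)
    have h2 := hlow i hi
    rcases (show a i = -1 ∨ a i = -2 ∨ a i = -3 by omega) with e | e | e
    · have := hn1 i hi e; omega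
    · have := hn2 i hi e; omega
    · have := hn3 i hi e; omega
  rw [hsq] at hsqsplit
  have hcount : A₁.card + 4 * A₂.card + 9 * A₃.card ≤ 14 := by omega
  change (N : ℚ) * 15 * (1 + ∑ i ∈ t, f i) = 224 at hid
  have hgood : (21 : ℚ) / 158 ≤ 1 + ∑ i ∈ t, f i → N ≤ 141 ∧ N ≠ 113 := fun hL => by
    have := lt_of_lhs hid hL (by norm_num) (B := 113) (by norm_num) (by norm_num)
    omega
  by_cases hexc : A₁.card = 1 ∧ A₂.card = 1 ∧ A₃.card = 1
  swap
  · refine hgood ?_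
    have h2 : A₂.card ≤ 3 := by omega
    have h3 : A₃.card ≤ 1 := by omega
    have key : (A₁.card : ℚ) / 31 + (A₂.card : ℚ) * 4 / 15 + (A₃.card : ℚ) * 3 / 5 ≤ 137 / 158 := by
      generalize A₁.card = x at hcount hexc ⊢
      generalize A₂.card = y at hcount hexc h2 ⊢
      generalize A₃.card = z at hcount hexc h3 ⊢
      have hx : x ≤ 14 := by omega
      interval_cases z <;> interval_cases y <;> interval_cases x <;> norm_num <;> omega
    linarith
  obtain ⟨h1, h2, h3⟩ := hexc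
  have h0 : A₀.card = 1 ∧ ∑ i ∈ A₀, a i * a i = 1 := by omega
  obtain ⟨i₁, hi₁⟩ := card_eq_one.1 h1
  obtain ⟨i₂, hi₂⟩ := card_eq_one.1 h2
  obtain ⟨i₃, hi₃⟩ := card_eq_one.1 h3
  obtain ⟨i₀, hi₀⟩ := card_eq_one.1 h0.1
  obtain ⟨m₁, ea₁⟩ := mem_filter.1 (show i₁ ∈ A₁ by rw [hi₁]; exact mem_singleton_self _)
  obtain ⟨m₂, ea₂⟩ := mem_filter.1 (show i₂ ∈ A₂ by rw [hi₂]; exact mem_singleton_self _)
  obtain ⟨m₃, ea₃⟩ := mem_filter.1 (show i₃ ∈ A₃ by rw [hi₃]; exact mem_singleton_self _)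
  obtain ⟨m₀, ea₀'⟩ := mem_filter.1 (show i₀ ∈ A₀ by rw [hi₀]; exact mem_singleton_self _)
  have ea₀ : a i₀ = 1 := by
    have := h0.2
    rw [hi₀, sum_singleton] at this
    nlinarith
  rw [hi₁, hi₂, hi₃, hi₀, sum_singleton, sum_singleton, sum_singleton, sum_singleton] at hsplit
  rw [hsplit] at hid hgood
  have hz1 := hn1 i₁ m₁ ea₁
  have hz2 := hn2 i₂ m₂ ea₂
  have hz3 := hn3 i₃ m₃ ea₃
  have hp0 : (0 : ℚ) ≤ f i₀ := by simp only [hf, ea₀]; positivity
  have hf1 : (-1 : ℚ) / 31 ≤ f i₁ := by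
    refine le_trans ?_ (term_ge (L := 31) (by omega) hz1 (by norm_num)); rw [ea₁]; norm_num
  have hf2 : (-4 : ℚ) / 15 ≤ f i₂ := by
    refine le_trans ?_ (term_ge (L := 30) (by omega) hz2 (by norm_num)); rw [ea₂]; norm_num
  have hf3 : (-3 : ℚ) / 5 ≤ f i₃ := by
    refine le_trans ?_ (term_ge (L := 45) (by omega) hz3 (by norm_num)); rw [ea₃]; norm_num
  by_cases e3 : n i₃ = 45
  swap
  · refine hgood ?_
    have : 61 ≤ n i₃ := by
      obtain ⟨m, hm⟩ := hcong i₃ m₃
      rw [ea₃] at hm; omega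
    have hf3' : (-27 : ℚ) / 61 ≤ f i₃ := by
      refine le_trans ?_ (term_ge (L := 61) (by omega) this (by norm_num)); rw [ea₃]; norm_num
    linarith
  by_cases e2 : n i₂ = 30
  swap
  · refine hgood ?_
    have : 46 ≤ n i₂ := by
      obtain ⟨m, hm⟩ := hcong i₂ m₂
      rw [ea₂] at hm; omega
    have hf2' : (-8 : ℚ) / 46 ≤ f i₂ := by
      refine le_trans ?_ (term_ge (L := 46) (by omega) this (by norm_num)); rw [ea₂]; norm_num
    linarith
  have hn' : n i₀ = n i₁ + 194 := by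
    have hsub : t = (A₁ ∪ A₂ ∪ A₃ ∪ A₀) ∪ t.filter fun i => a i = 0 := by
      ext i
      simp only [hA₁, hA₂, hA₃, hA₀, mem_union, mem_filter]
      constructor
      · intro hi
        have h3 := hlow i hi
        rcases (show a i = -1 ∨ a i = -2 ∨ a i = -3 ∨ a i = 0 ∨ 0 < a i by omega) with e|e|e|e|e <;>
          simp [hi, e]
      · rintro ((((h|h)|h)|h)|h) <;> exact h.1
    have e : ∑ i ∈ t, a i * (n i : ℤ) = a i₁ * n i₁ + a i₂ * n i₂ + a i₃ * n i₃ + a i₀ * n i₀ := by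
      have : ∑ i ∈ t, a i * (n i : ℤ) = ∑ i ∈ A₁, a i * (n i : ℤ) + ∑ i ∈ A₂, a i * (n i : ℤ) +
          ∑ i ∈ A₃, a i * (n i : ℤ) + ∑ i ∈ A₀, a i * (n i : ℤ) := by
        rw [hA₁, hA₂, hA₃, hA₀, sum_filter, sum_filter, sum_filter, sum_filter, ← sum_add_distrib,
          ← sum_add_distrib, ← sum_add_distrib]
        refine sum_congr rfl fun i hi => ?_
        have h3 := hlow i hi
        rcases (show a i = -1 ∨ a i = -2 ∨ a i = -3 ∨ a i = 0 ∨ 0 < a i by omega) with e|e|e|e|e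
        · simp [e]
        · simp [e]
        · simp [e]
        · simp [e]
        · rw [if_neg (by omega), if_neg (by omega), if_neg (by omega), if_pos e]; simp
      rw [this, hi₁, hi₂, hi₃, hi₀, sum_singleton, sum_singleton, sum_singleton, sum_singleton]
    rw [e, ea₁, ea₂, ea₃, ea₀, e2, e3] at hone
    omega
  constructor
  · by_cases hb : n i₁ ≤ 31
    · have hlt := lt_of_lhs hid (l := (1 : ℚ) - 4 / 15 - 3 / 5 - 1 / 31 + 1 / 225) (B := 142)
        (by
          have h4 : (1 : ℚ) / 225 ≤ f i₀ := by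
            simp only [hf, ea₀, Int.cast_one, one_pow]
            rw [div_le_div_iff₀ (by norm_num) (by exact_mod_cast hn i₀ m₀)]
            exact_mod_cast (show 1 * n i₀ ≤ 1 * 225 by omega)
          linarith) (by norm_num) (by norm_num) (by norm_num)
      omega
    · have hlt := lt_of_lhs hid (l := (1 : ℚ) - 4 / 15 - 3 / 5 - 1 / 47) (B := 142)
        (by
          have h4 : (-1 : ℚ) / 47 ≤ f i₁ := by
            refine le_trans ?_ (term_ge (L := 47) (by omega) (by obtain ⟨m, hm⟩ := hcong i₁ m₁; rw [ea₁] at hm; omega) (by norm_num))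
            rw [ea₁]; norm_num
          linarith) (by norm_num) (by norm_num) (by norm_num)
      omega
  · intro hN
    simp only [hf, ea₁, ea₂, ea₃, ea₀, e2, e3, hn', hN] at hid
    push_cast at hid
    have hx : (0 : ℚ) < n i₁ := by exact_mod_cast (show 0 < n i₁ by omega)
    field_simp at hid
    have key : (n i₁ + 97) * (n i₁ + 97) = 173824 := by
      have : ((n i₁ : ℚ) + 97) * ((n i₁ : ℚ) + 97) = 173824 := by nlinarith
      exact_mod_cast this
    have hb : n i₁ + 97 < 417 := by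
      by_contra h
      have := Nat.mul_le_mul (not_lt.1 h) (not_lt.1 h)
      omega
    have hc : 416 < n i₁ + 97 := by
      by_contra h
      have := Nat.mul_le_mul (not_lt.1 h) (not_lt.1 h)
      omega
    omega

end CfsgLib.AbTwoOne
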