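import Cfsg.Agent.Blocks.Section
import Cfsg.Agent.Blocks.LocalPrincipal
import Cfsg.Agent.Blocks.Principal
import Cfsg.Agent.BlocksB.PrincipalGapValues
import Cfsg.Agent.BlocksB.FrobeniusSylow.IndexThree

/-!
# The column of an involution of an abelian Sylow 2-subgroup with 2-nilpotent centralizer
-/

set_option autoImplicit false
set_option linter.style.haveILetI false
set_option linter.unusedSectionVars false

namespace CfsgLib.AbTwoOne

open Cfsg Finset CfsgLib.Block CfsgLib.Block.Chr CfsgLib.Char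
open scoped ComplexConjugate
open scoped Classical

universe u

variable {G : Type u} [Group G] [Fintype G]

local notation "C{" x "}" => Subgroup.centralizer ({x} : Set G)

variable {M : Ideal AlgInt} [M.IsPrime]

/-- The value at an involution is an integer congruent to the degree modulo two. -/
theorem exists_int_parity (χ : IrrCharacter G) {t : G} (ht : orderOf t = 2) :
    ∃ z : ℤ, (χ : G → ℂ) t = (z : ℂ) ∧ (Odd z ↔ Odd (charDegree (χ : G → ℂ))) := by
  obtain ⟨k, hk⟩ := FrobeniusSylow.exists_restrict_mult (Subgroup.zpowers t) χ 1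
  refine ⟨2 * (k : ℤ) - (charDegree (χ : G → ℂ) : ℤ), ?_, ?_⟩
  · have hmem : t ∈ Subgroup.zpowers t := Subgroup.mem_zpowers t
    have hne : (1 : Subgroup.zpowers t) ≠ ⟨t, hmem⟩ := fun h => by
      have h' : (1 : G) = t := congrArg Subtype.val h
      rw [← h', orderOf_one] at ht
      omega
    have huniv : (univ : Finset (Subgroup.zpowers t)) = {1, ⟨t, hmem⟩} := by
      symm
      refine eq_univ_of_card _ ?_
      rw [card_pair hne, ← Nat.card_eq_fintype_card, Nat.card_zpowers, ht]
    rw [Nat.card_zpowers, ht, huniv, sum_pair hne] at hk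
    simp only [MonoidHom.one_apply, Units.val_one, map_one, mul_one, OneMemClass.coe_one,
      (irr_one χ).1] at hk
    push_cast at hk ⊢
    linear_combination -hk
  · rw [Int.odd_sub]
    have h2 : ¬ Odd (2 * (k : ℤ)) := Int.not_odd_iff_even.2 (even_two_mul _)
    rw [iff_false_left h2, Int.even_coe_nat, Nat.not_even_iff_odd]

/-- The values of the principal block on an abelian Sylow subgroup do not vanish. -/
theorem apply_ne_zero {p : ℕ} [Fact p.Prime] (hM : IsPModular p M) {P : Subgroup G}
    (hidx : ¬ p ∣ P.index) {x : G} (hPx : P ≤ C{x}) {χ : IrrCharacter G}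
    (hχ : χ ∈ principalBlock M G) : (χ : G → ℂ) x ≠ 0 := by
  intro h0
  have h1 := (show SameBlock M (fun _ : G => (1 : ℂ)) (χ : G → ℂ) from hχ) x
  simp only [centralChar, h0, mul_zero, zero_div, sub_zero, mul_one, div_one] at h1
  rw [memLocalIdeal_natCast_iff hM] at h1
  exact hidx (h1.trans (Subgroup.index_dvd_of_le hPx))

/-- **The norm of the column of an involution with a 2-nilpotent centralizer.** -/
theorem sum_sq_column (hM : IsPModular 2 M) [Fintype (IrrCharacter G)]
    (P : Sylow 2 G) {x : G} (hx : orderOf x = 2) (hPx : (P : Subgroup G) ≤ C{x})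
    (hnpc : HasNormalPComplement 2 ↥C{x}) :
    ∑ χ ∈ univ.filter (· ∈ principalBlock M G), (χ : G → ℂ) x * (χ : G → ℂ) x =
      (Nat.card P : ℂ) := by
  haveI : Fact (Nat.Prime 2) := ⟨Nat.prime_two⟩
  letI := irrFintype (G := ↥C{x})
  have h1 : ¬ 2 ∣ orderOf (1 : C{x}) := by rw [orderOf_one]; norm_num
  obtain ⟨S, N, hN, hNS⟩ := hnpc
  haveI := hN
  have hidx : N.index = Nat.card S := hNS.symm.index_eq_card
  obtain ⟨k, hk⟩ := IsPGroup.iff_card.1 S.isPGroup'
  have hNodd : ¬ 2 ∣ Nat.card N := fun hd => S.not_dvd_index (hNS.index_eq_card.symm ▸ hd)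
  have h2 := principal_section_kernel hM (k := 1) (by rw [hx, pow_one]) (1 : C{x}) 1 h1 h1
  rw [principal_complement_sum hM N hNodd ⟨k, by rw [hidx, hk]⟩ h1] at h2
  rw [show Nat.card P = 2 ^ (Nat.card ↥C{x}).factorization 2 by
    rw [← (P.subtype hPx).card_eq_multiplicity, Sylow.coe_subtype]
    exact (Nat.card_congr (Subgroup.subgroupOfEquivOfLe hPx).toEquiv).symm]
  rw [← h2]
  refine sum_congr rfl fun χ _ => ?_
  obtain ⟨z, hz, -⟩ := exists_int_parity χ hx
  rw [OneMemClass.coe_one, mul_one, hz, map_intCast]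

/-- All degrees odd forces the count. -/
theorem card_of_odd {ι : Type*} [Fintype ι] (a : ι → ℤ) (hodd : ∀ i, Odd (a i)) :
    ((∑ i, a i * a i = 8) → Fintype.card ι = 8) ∧
      ((∑ i, a i * a i = 16) → Fintype.card ι = 8 ∨ Fintype.card ι = 16) := by
  have hge : ∀ i, 1 ≤ a i * a i := fun i => by
    have := mul_self_pos.2 (show a i ≠ 0 from fun h => by simpa [h] using hodd i); omega
  have hcard : ∀ s : Finset ι, (s.card : ℤ) ≤ ∑ i ∈ s, a i * a i := fun s => by
    simpa using card_nsmul_le_sum s (fun i => a i * a i) 1 fun i _ => hge i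
  have hbig : ∀ i, a i * a i ≠ 1 → a i * a i = 9 ∨ 25 ≤ a i * a i := fun i h1 => by
    obtain ⟨m, hm⟩ := hodd i
    have h0 : m ≠ 0 ∧ m ≠ -1 := ⟨fun e => h1 (by rw [hm, e]; norm_num),
      fun e => h1 (by rw [hm, e]; norm_num)⟩
    have : m = 1 ∨ m = -2 ∨ 2 ≤ m ∨ m ≤ -3 := by omega
    rcases this with e | e | e | e
    · left; rw [hm, e]; norm_num
    · left; rw [hm, e]; norm_num
    · right; nlinarith
    · right; nlinarith
  have hall : (∀ i, a i * a i = 1) → ∑ i, a i * a i = Fintype.card ι := fun h => by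
    rw [sum_congr rfl fun i _ => h i, sum_const, card_univ, nsmul_eq_mul, mul_one]
  by_cases h : ∀ i, a i * a i = 1
  · rw [hall h]
    exact ⟨fun e => by exact_mod_cast e, fun e => Or.inr (by exact_mod_cast e)⟩
  obtain ⟨i, hi⟩ : ∃ i, a i * a i ≠ 1 := not_forall.1 h
  have hsplit := add_sum_erase univ (fun j => a j * a j) (mem_univ i)
  have hrest := hcard (univ.erase i)
  have h9 := hbig i hi
  refine ⟨fun e => ?_, fun e => Or.inl ?_⟩
  · omega
  have hi9 : a i * a i = 9 := by
    rcases h9 with h9 | h9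
    · exact h9
    · omega
  have hone : ∀ j ∈ univ.erase i, a j * a j = 1 := fun j hj => by
    by_contra hj1
    have := single_le_sum (fun l _ => mul_self_nonneg (a l)) hj
    rcases hbig j hj1 with h' | h' <;> omega
  rw [sum_congr rfl hone, sum_const, nsmul_eq_mul, mul_one, card_erase_of_mem (mem_univ i),
    card_univ] at hsplit
  have hpos : 0 < Fintype.card ι := Fintype.card_pos_iff.2 ⟨i⟩
  omega

end CfsgLib.AbTwoOne
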