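import Mathlib.GroupTheory.Sylow
import Mathlib.GroupTheory.Perm.Basic
import Mathlib.GroupTheory.SpecificGroups.Cyclic
import Mathlib.GroupTheory.Index
import Mathlib.GroupTheory.IndexNormal
import Mathlib.Data.Finite.Perm
import Mathlib.GroupTheory.Commutator.Basic

/-!
# Eigen elements of commuting involutory endomorphisms, and a small permutation fact
-/

set_option autoImplicit false
set_option linter.style.haveILetI false

namespace CfsgLib.AbTwoOne

universe u

/-- Commuting involutory endomorphisms of an abelian group of odd order are diagonalisable. -/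
theorem eigen_closure {A : Type u} [CommGroup A] [Finite A] (hodd : ¬ 2 ∣ Nat.card A)
    {ι : Type*} (φ : ι → A →* A) (hsq : ∀ i a, φ i (φ i a) = a)
    (hcomm : ∀ i j a, φ i (φ j a) = φ j (φ i a)) (T : Finset ι) :
    Subgroup.closure {x : A | ∀ i ∈ T, φ i x = x ∨ φ i x = x⁻¹} = ⊤ := by
  classical
  induction T using Finset.induction_on with
  | empty => simp
  | @insert j T hj ih =>
    rw [eq_top_iff, ← ih, Subgroup.closure_le]
    intro x hx
    set K := Subgroup.closure {y : A | ∀ i ∈ insert j T, φ i y = y ∨ φ i y = y⁻¹}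
    have h1 : x * φ j x ∈ K := Subgroup.subset_closure fun i hi => by
      rcases Finset.mem_insert.1 hi with rfl | hi
      · left; rw [map_mul, hsq, mul_comm]
      · rcases hx i hi with e | e
        · left; rw [map_mul, hcomm, e]
        · right; rw [map_mul, hcomm, e, map_inv, mul_inv]
    have h2 : x * (φ j x)⁻¹ ∈ K := Subgroup.subset_closure fun i hi => by
      rcases Finset.mem_insert.1 hi with rfl | hi
      · right; rw [map_mul, map_inv, hsq, mul_inv_rev, inv_inv]
      · rcases hx i hi with e | e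
        · left; rw [map_mul, map_inv, hcomm, e]
        · right; rw [map_mul, map_inv, hcomm, e, map_inv, mul_inv]
    have h3 : x ^ 2 ∈ K := by
      have := K.mul_mem h1 h2
      rwa [mul_mul_mul_comm, mul_inv_cancel, mul_one, ← pow_two] at this
    obtain ⟨m, hm⟩ : ∃ m, Nat.card A = 2 * m + 1 :=
      Nat.odd_iff.2 (Nat.two_dvd_ne_zero.1 hodd)
    have h4 : x = (x ^ 2) ^ (m + 1) := by
      rw [← pow_mul, show 2 * (m + 1) = Nat.card A + 1 by omega, pow_succ, pow_card_eq_one',
        one_mul]
    rw [SetLike.mem_coe, h4]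
    exact K.pow_mem h3 _

/-- Some eigen element is moved by a given nontrivial involutory endomorphism. -/
theorem exists_eigen {A : Type u} [CommGroup A] [Finite A] (hodd : ¬ 2 ∣ Nat.card A)
    {ι : Type*} [Finite ι] (φ : ι → A →* A) (hsq : ∀ i a, φ i (φ i a) = a)
    (hcomm : ∀ i j a, φ i (φ j a) = φ j (φ i a)) {i₀ : ι} (hne : ∃ a, φ i₀ a ≠ a) :
    ∃ x : A, φ i₀ x ≠ x ∧ ∀ i, φ i x = x ∨ φ i x = x⁻¹ := by
  haveI := Fintype.ofFinite ι
  by_contra h
  obtain ⟨a, ha⟩ := hne
  have hle : Subgroup.closure {x : A | ∀ i ∈ (Finset.univ : Finset ι), φ i x = x ∨ φ i x = x⁻¹} ≤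
      (φ i₀).eqLocus (MonoidHom.id A) := by
    rw [Subgroup.closure_le]
    intro x hx
    by_contra hne
    exact h ⟨x, hne, fun i => hx i (Finset.mem_univ i)⟩
  rw [eigen_closure hodd φ hsq hcomm] at hle
  exact ha (hle (Subgroup.mem_top a))

/-- Groups of order dividing fifteen are abelian. -/
theorem comm_of_dvd_fifteen {H : Type u} [Group H] [Finite H] (h : Nat.card H ∣ 15) :
    ∀ a b : H, a * b = b * a := by
  have h15 : Nat.card H ∈ Nat.divisors 15 := Nat.mem_divisors.2 ⟨h, by norm_num⟩
  rw [show Nat.divisors 15 = {1, 3, 5, 15} by decide] at h15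
  simp only [Finset.mem_insert, Finset.mem_singleton] at h15
  have hcyc : ∀ p : ℕ, p.Prime → Nat.card H = p → ∀ a b : H, a * b = b * a := fun p hp he => by
    haveI : Fact p.Prime := ⟨hp⟩
    haveI := isCyclic_of_prime_card he
    exact fun a b => (IsCyclic.commGroup (α := H)).mul_comm a b
  rcases h15 with e | e | e | e
  · haveI := (Nat.card_eq_one_iff_unique.1 e).1
    exact fun a b => Subsingleton.elim _ _
  · exact hcyc 3 Nat.prime_three e
  · exact hcyc 5 (by decide) e
  haveI : Fact (Nat.Prime 5) := ⟨by decide⟩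
  obtain ⟨σ, hσ⟩ := exists_prime_orderOf_dvd_card' (G := H) 5 (by rw [e]; norm_num)
  set N := Subgroup.zpowers σ with hN
  have hcN : Nat.card N = 5 := by rw [hN, Nat.card_zpowers, hσ]
  have hidx : N.index = 3 := by
    have := N.card_mul_index
    rw [hcN, e] at this; omega
  haveI : N.Normal := Subgroup.normal_of_index_eq_minFac_card (by rw [hidx, e]; decide +kernel)
  have hker : ∀ g : H, MulAut.conjNormal (H := N) g = 1 := by
    intro g
    rw [← orderOf_eq_one_iff]
    have h1 : orderOf (MulAut.conjNormal (H := N) g) ∣ Nat.card H :=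
      (orderOf_map_dvd _ g).trans (orderOf_dvd_natCard g)
    have h2 : orderOf (MulAut.conjNormal (H := N) g) ∣ 4 := by
      refine (orderOf_dvd_natCard _).trans ?_
      rw [IsCyclic.card_mulAut, hcN, Nat.totient_prime (by decide)]
    rw [e] at h1
    exact Nat.eq_one_of_dvd_coprimes (by norm_num : Nat.Coprime 15 4) h1 h2
  have hσc : σ ∈ Subgroup.center H := Subgroup.mem_center_iff.2 fun g => by
    have h1 : ((MulAut.conjNormal (H := N) g) ⟨σ, Subgroup.mem_zpowers σ⟩ : H) = σ := by
      rw [hker g]; rfl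
    rw [MulAut.conjNormal_apply] at h1
    exact mul_inv_eq_iff_eq_mul.1 h1
  have hle : N ≤ Subgroup.center H := Subgroup.zpowers_le.2 hσc
  have hci : (Subgroup.center H).index ∣ 3 := hidx ▸ Subgroup.index_dvd_of_le hle
  rcases (Nat.dvd_prime Nat.prime_three).1 hci with hc | hc
  · rw [Subgroup.index_eq_one] at hc
    exact fun a b => (Subgroup.mem_center_iff.1 (hc ▸ Subgroup.mem_top a) b).symm
  · haveI : IsCyclic (H ⧸ Subgroup.center H) :=
      haveI : Fact (Nat.Prime 3) := ⟨by decide⟩
      isCyclic_of_prime_card (α := H ⧸ Subgroup.center H) (p := 3) hc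
    exact fun a b => (MonoidHom.isMulCommutative_of_isCyclic_of_ker_le_center
      (QuotientGroup.mk' (Subgroup.center H)) (le_of_eq (QuotientGroup.ker_mk' _))).is_comm.comm a b

/-- An odd group of permutations of at most five points, transitive or not, is abelian. -/
theorem comm_of_perm {W α : Type u} [Group W] [Finite W] [Finite α] (hW : ¬ 2 ∣ Nat.card W)
    (hα : Nat.card α ≤ 5) (f : W →* Equiv.Perm α) (a b : W) : f (a * b) = f (b * a) := by
  have h1 : Nat.card f.range ∣ Nat.card W := Subgroup.card_range_dvd f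
  have h2 : Nat.card f.range ∣ Nat.factorial 5 := by
    refine (Subgroup.card_subgroup_dvd_card f.range).trans ?_
    rw [Nat.card_perm]
    exact Nat.factorial_dvd_factorial hα
  have h15 : Nat.card f.range ∣ 15 := by
    have hc : Nat.Coprime (Nat.card f.range) 8 := by
      rw [show (8 : ℕ) = 2 ^ 3 by norm_num]
      exact ((Nat.prime_two.coprime_iff_not_dvd).2 fun h => hW (h.trans h1)).symm.pow_right 3
    exact hc.dvd_of_dvd_mul_right (h2.trans (by norm_num [Nat.factorial]))
  have := comm_of_dvd_fifteen h15 ⟨f a, a, rfl⟩ ⟨f b, b, rfl⟩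
  rw [map_mul, map_mul]
  exact congrArg Subtype.val this

end CfsgLib.AbTwoOne
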