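import Cfsg.Agent.BlocksB.RankOneInvolution.Setup
import Cfsg.Agent.BlocksB.RankOneInvolution.Tools
import Cfsg.Agent.S1220

/-!
# The action on the cosets of `M = W N(P)`

`M` is strongly embedded, hence transitive on the cosets other than itself. The orbits of `W` then
give `|G : M| = 1 + q s c`, and for small index `W` is abelian and centralised by `P`: otherwise an
element of `W` would move at most half of the points, and any two of its conjugates would commute.
-/

set_option autoImplicit false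
set_option linter.style.haveILetI false
set_option linter.unusedSectionVars false

namespace CfsgLib.AbTwoOne

open Cfsg Subgroup MulAction

universe u

variable {G : Type u} [Group G] [Finite G] {P : Subgroup G}

local notation "C{" x "}" => Subgroup.centralizer ({x} : Set G)
local notation "N(" V ")" => Subgroup.normalizer (SetLike.coe V)

/-- `N(P)` is transitive on the involutions of `P`. -/
def Trans (P : Subgroup G) : Prop :=
  ∀ u ∈ P, u ≠ 1 → ∀ v ∈ P, v ≠ 1 → ∃ n ∈ N(P), n * u * n⁻¹ = v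

theorem Free.smul_smul_W (h : Free P) {p w : G} (hp : p ∈ P) (hw : w ∈ W P)
    {α : Type*} [MulAction G α] (x : α) :
    ∃ w' ∈ W P, p • w • x = w' • p • x :=
  ⟨p * w * p⁻¹, h.conj_P_W hp hw, by rw [smul_smul, smul_smul]; simp⟩

/-- `|M| = |W| q (q - 1)`. -/
theorem Free.card_bigM (h : Free P) (htr : Trans P) :
    Nat.card (bigM P) = Nat.card (W P) * (Nat.card P * (Nat.card P - 1)) := by
  classical
  haveI := Fintype.ofFinite P
  obtain ⟨v₀, hv₀, hv₀1⟩ := h.exists_ne_one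
  choose n hn hne using fun u : {u : P // u ≠ 1} => htr v₀ hv₀ hv₀1 u.1 u.1.2
    (fun e => u.2 (Subtype.ext e))
  let f : W P × P × {u : P // u ≠ 1} → bigM P := fun x =>
    ⟨(x.1 : G) * x.2.1 * n x.2.2,
      mul_mem (mul_mem (h.W_le_bigM x.1.2) (h.P_le_bigM x.2.1.2))
        (h.normalizer_le_bigM (hn _))⟩
  have hinj : Function.Injective f := by
    rintro ⟨w, p, u⟩ ⟨w', p', u'⟩ he
    have he' : (w : G) * p * n u = (w' : G) * p' * n u' := congrArg Subtype.val he
    have hconj : ∀ (a : W P) (b : P) (c : {u : P // u ≠ 1}),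
        ((a : G) * b * n c) * v₀ * ((a : G) * b * n c)⁻¹ =
          ((a : G) * ((c.1 : G) * (a : G)⁻¹ * (c.1 : G)⁻¹)) * (c.1 : G) := by
      intro a b c
      calc _ = (a : G) * b * (n c * v₀ * (n c)⁻¹) * (b : G)⁻¹ * (a : G)⁻¹ := by group
        _ = (a : G) * ((b : G) * (c.1 : G)) * (b : G)⁻¹ * (a : G)⁻¹ := by rw [hne c]; group
        _ = (a : G) * ((c.1 : G) * (b : G)) * (b : G)⁻¹ * (a : G)⁻¹ := by
          rw [h.comm b.2 c.1.2]
        _ = _ := by group
    have hm : ∀ (a : W P) (c : {u : P // u ≠ 1}),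
        (a : G) * ((c.1 : G) * (a : G)⁻¹ * (c.1 : G)⁻¹) ∈ W P := fun a c =>
      mul_mem a.2 (h.conj_P_W c.1.2 (inv_mem a.2))
    have h1 := hconj w p u
    rw [he', hconj w' p' u'] at h1
    have hu : u = u' :=
      Subtype.ext (Subtype.ext (h.eq_of_W_mul (hm w' u') (hm w u) u'.1.2 u.1.2 h1).2.symm)
    subst hu
    obtain ⟨e1, e2⟩ := h.eq_of_W_mul w.2 w'.2 p.2 p'.2 (mul_right_cancel he')
    obtain rfl : w = w' := Subtype.ext e1
    obtain rfl : p = p' := Subtype.ext e2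
    rfl
  have hsurj : Function.Surjective f := by
    rintro ⟨m, hm⟩
    obtain ⟨w, hw, k, hk, rfl⟩ := h.mem_bigM_iff.1 hm
    have hkP : k * v₀ * k⁻¹ ∈ P := (mem_normalizer_iff.1 hk _).1 hv₀
    let u : {u : P // u ≠ 1} := ⟨⟨_, hkP⟩, fun e => hv₀1 (conj_eq_one_iff.1 (congrArg Subtype.val e))⟩
    have hcent : (n u)⁻¹ * k ∈ C{v₀} := mem_centralizer_singleton_iff.2 (by
      calc (n u)⁻¹ * k * v₀ = (n u)⁻¹ * (k * v₀ * k⁻¹) * k := by group
        _ = (n u)⁻¹ * (n u * v₀ * (n u)⁻¹) * k := by rw [hne u]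
        _ = _ := by group)
    obtain ⟨a, ha, p, hp, he⟩ := (h.exists_complement hv₀ hv₀1).2 _ hcent
    refine ⟨⟨⟨w * (n u * a * (n u)⁻¹), mul_mem hw (h.conj_W (hn u) (h.K_le_W hv₀ hv₀1 ha))⟩,
      ⟨n u * p * (n u)⁻¹, (mem_normalizer_iff.1 (hn u) p).1 hp⟩, u⟩, Subtype.ext ?_⟩
    show w * (n u * a * (n u)⁻¹) * (n u * p * (n u)⁻¹) * n u = w * k
    calc _ = w * (n u * (a * p)) := by group
      _ = _ := by rw [← he]; group
  rw [← Nat.card_congr (Equiv.ofBijective f ⟨hinj, hsurj⟩), Nat.card_prod, Nat.card_prod]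
  congr 2
  rw [Nat.card_eq_fintype_card, Nat.card_eq_fintype_card, Fintype.card_subtype_compl,
    Fintype.card_subtype_eq]

theorem Free.stronglyEmbedded (h : Free P) (hM : bigM P ≠ ⊤) : IsStronglyEmbedded (bigM P) := by
  haveI : Fact (Nat.Prime 2) := ⟨Nat.prime_two⟩
  refine ⟨hM, ?_, fun g hg => ?_⟩
  · obtain ⟨v, hv, hv1⟩ := h.exists_ne_one
    rw [even_iff_two_dvd, ← h.orderOf_eq hv hv1]
    exact Subgroup.orderOf_dvd_natCard _ (h.P_le_bigM hv)
  · rw [← Nat.not_even_iff_odd, even_iff_two_dvd]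
    intro hd
    obtain ⟨z, hz⟩ := exists_prime_orderOf_dvd_card'
      (G := ↥(bigM P ⊓ (bigM P).map (MulAut.conj g).toMonoidHom)) 2 hd
    rw [← orderOf_coe] at hz
    obtain ⟨t, ht, hte⟩ := mem_map.1 z.2.2
    have hte' : g * t * g⁻¹ = (z : G) := hte
    have ho : orderOf t = 2 := by
      rw [← hz, ← hte', show g * t * g⁻¹ = (MulAut.conj g) t from rfl, MulEquiv.orderOf_eq]
    exact hg (h.mem_of_conj ht ho (hte' ▸ z.2.1))

theorem Free.transitive (h : Free P) (hM : bigM P ≠ ⊤) {g₁ g₂ : G} (h1 : g₁ ∉ bigM P)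
    (h2 : g₂ ∉ bigM P) : ∃ m ∈ bigM P, g₂⁻¹ * (m * g₁) ∈ bigM P := by
  rcases Cfsg.Agent.S1220.result (bigM P) (h.stronglyEmbedded hM) with ht | ⟨hs, -⟩
  · exact ht g₁ g₂ h1 h2
  exfalso
  rcases hs h.sylow with hc | ⟨m, -, ⟨e⟩⟩
  · obtain ⟨g, hg⟩ := hc.exists_generator
    have h1 : orderOf g = Nat.card P := by
      rw [orderOf_eq_card_of_forall_mem_zpowers hg]; rfl
    have h2 : orderOf g ∣ 2 :=
      orderOf_dvd_of_pow_eq_one (Subtype.ext (by
        simp only [pow_two, Subgroup.coe_mul, Subgroup.coe_one]; exact h.sq _ g.2))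
    have := Nat.le_of_dvd two_pos h2
    rcases h.card with e | e <;> omega
  · haveI : NeZero (2 ^ m) := ⟨by positivity⟩
    have h1 : orderOf (e.symm (QuaternionGroup.a (n := 2 ^ m) 1)) = 2 * 2 ^ m := by
      rw [MulEquiv.orderOf_eq, QuaternionGroup.orderOf_a_one]
    have h2 : orderOf (e.symm (QuaternionGroup.a (n := 2 ^ m) 1)) ∣ 2 :=
      orderOf_dvd_of_pow_eq_one (Subtype.ext (by
        simp only [pow_two, Subgroup.coe_mul, Subgroup.coe_one]
        exact h.sq _ (e.symm (QuaternionGroup.a 1)).2))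
    rw [h1] at h2
    have h3 := Nat.le_of_dvd two_pos h2
    have : 2 ^ m = 1 := by have := Nat.one_le_two_pow (n := m); omega
    have hc : Nat.card (h.sylow : Subgroup G) = 4 := by
      rw [Nat.card_congr e.toEquiv, Nat.card_eq_fintype_card, QuaternionGroup.card, this]
    have hc' : Nat.card P = 4 := hc
    rcases h.card with e | e <;> omega

theorem mk_ne_base {g : G} (hg : g ∉ bigM P) : (g : G ⧸ bigM P) ≠ ((1 : G) : G ⧸ bigM P) :=
  fun e => hg (by have := QuotientGroup.eq.1 e.symm; simpa using this)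

theorem smul_base {g : G} (hg : g ∈ bigM P) :
    g • ((1 : G) : G ⧸ bigM P) = ((1 : G) : G ⧸ bigM P) := by
  show ((g * 1 : G) : G ⧸ bigM P) = _
  rw [mul_one, QuotientGroup.eq, mul_one]
  exact inv_mem hg

theorem Free.exists_smul (h : Free P) (hM : bigM P ≠ ⊤) {x y : G ⧸ bigM P}
    (hx : x ≠ ((1 : G) : G ⧸ bigM P)) (hy : y ≠ ((1 : G) : G ⧸ bigM P)) :
    ∃ m ∈ bigM P, m • x = y := by
  revert hx hy
  refine QuotientGroup.induction_on x fun g₁ => QuotientGroup.induction_on y fun g₂ => ?_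
  intro hx hy
  obtain ⟨m, hm, hmg⟩ := h.transitive hM (g₁ := g₁) (g₂ := g₂)
    (fun h' => hx (QuotientGroup.eq.2 (by simpa using inv_mem h')))
    (fun h' => hy (QuotientGroup.eq.2 (by simpa using inv_mem h')))
  refine ⟨m, hm, ?_⟩
  show ((m * g₁ : G) : G ⧸ bigM P) = _
  exact (QuotientGroup.eq.2 hmg).symm

/-- `|G : M| = 1 + q s c` with `c` the length of an orbit of `W`. -/
theorem Free.index_eq (h : Free P) (htr : Trans P) (hM : bigM P ≠ ⊤) {g : G}
    (hg : g ∉ bigM P) :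
    ∃ s : ℕ, s ∣ Nat.card P - 1 ∧ Odd (orbit (W P) (g : G ⧸ bigM P)).ncard ∧
      (bigM P).index = 1 + Nat.card P * s * (orbit (W P) (g : G ⧸ bigM P)).ncard := by
  haveI : Fact (Nat.Prime 2) := ⟨Nat.prime_two⟩
  set Ω := G ⧸ bigM P with hΩ
  set b : Ω := ((1 : G) : G ⧸ bigM P) with hb
  set a : Ω := (g : G ⧸ bigM P) with ha
  have hab : a ≠ b := mk_ne_base hg
  have horb : orbit (bigM P) a = {b}ᶜ := by
    ext y
    constructor
    · rintro ⟨m, rfl⟩ hy
      refine hab ?_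
      have hy' : (m : G) • a = b := hy
      rw [← inv_smul_smul (m : G) a, hy']
      exact smul_base (inv_mem m.2)
    · intro hy
      obtain ⟨m, hm, hme⟩ := h.exists_smul hM hab hy
      exact ⟨⟨m, hm⟩, hme⟩
  have hdM : Nat.card (stabilizer (bigM P) a) * ((bigM P).index - 1) = Nat.card (bigM P) := by
    rw [← (stabilizer (bigM P) a).card_mul_index, index_stabilizer, horb, Set.ncard_compl,
      Set.ncard_singleton, Subgroup.index_eq_card]
  have hdW : Nat.card (stabilizer (W P) a) * (orbit (W P) a).ncard = Nat.card (W P) := by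
    rw [← (stabilizer (W P) a).card_mul_index, index_stabilizer]
  set c := (orbit (W P) a).ncard with hc
  set dW := Nat.card (stabilizer (W P) a) with hdWdef
  set dM := Nat.card (stabilizer (bigM P) a) with hdMdef
  have hWn : ((W P).subgroupOf (bigM P)).Normal := by
    refine ⟨fun w hw m => ?_⟩
    exact (mem_normalizer_iff.1 (h.bigM_le_normalizer m.2) _).1 hw
  set V := (W P).subgroupOf (bigM P) with hV
  have hcardV : Nat.card V = Nat.card (W P) :=
    Nat.card_congr (Subgroup.subgroupOfEquivOfLe h.W_le_bigM).toEquiv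
  have hVidx : V.index = Nat.card P * (Nat.card P - 1) := by
    have := V.card_mul_index
    rw [hcardV, h.card_bigM htr] at this
    exact Nat.eq_of_mul_eq_mul_left Nat.card_pos this
  set r := V.relIndex (stabilizer (bigM P) a) with hr
  have hrdvd : r ∣ Nat.card P * (Nat.card P - 1) := hVidx ▸ relIndex_dvd_index_of_normal V _
  have hdr : dW * r = dM := by
    have h1 := (V.subgroupOf (stabilizer (bigM P) a)).card_mul_index
    have h2 : Nat.card (V.subgroupOf (stabilizer (bigM P) a)) = dW := by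
      refine Nat.card_congr ?_
      exact
        { toFun := fun x => ⟨⟨((x : stabilizer (bigM P) a) : bigM P), x.2⟩,
            (x : stabilizer (bigM P) a).2⟩
          invFun := fun x => ⟨⟨⟨(x : W P), h.W_le_bigM (x : W P).2⟩, x.2⟩, (x : W P).2⟩
          left_inv := fun x => rfl
          right_inv := fun x => rfl }
    rw [h2] at h1
    exact h1
  have hdModd : ¬ 2 ∣ dM := by
    intro hd
    obtain ⟨z, hz⟩ := exists_prime_orderOf_dvd_card' (G := stabilizer (bigM P) a) 2 hd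
    rw [← orderOf_coe, ← orderOf_coe] at hz
    have hz2 : ((z : bigM P) : G) • a = a := z.2
    have h1 : g⁻¹ * ((z : bigM P) : G) * g ∈ bigM P := by
      have h3 : ((((z : bigM P) : G) * g : G) : G ⧸ bigM P) = (g : G ⧸ bigM P) := hz2
      have := QuotientGroup.eq.1 h3.symm
      simpa [mul_assoc] using this
    refine hg (inv_mem_iff.1 (h.mem_of_conj (g := g⁻¹) (z : bigM P).2 hz ?_))
    simpa using h1
  have hcodd : Odd c := by
    rw [← Nat.not_even_iff_odd, even_iff_two_dvd]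
    exact fun hd => h.not_dvd_card_W (hdW ▸ hd.mul_left _)
  have hrodd : ¬ 2 ∣ r := fun hd => hdModd (hdr ▸ hd.mul_left _)
  have hr1 : r ∣ Nat.card P - 1 := by
    refine Nat.Coprime.dvd_of_dvd_mul_left ?_ hrdvd
    obtain ⟨k, hk, -⟩ := h.card_eq_pow
    rw [hk]
    exact ((Nat.prime_two.coprime_iff_not_dvd).2 hrodd).symm.pow_right k
  obtain ⟨s, hs⟩ := hr1
  refine ⟨s, ⟨r, by rw [hs, mul_comm]⟩, hcodd, ?_⟩
  have key : dW * r * ((bigM P).index - 1) = dW * r * (Nat.card P * s * c) := by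
    rw [hdr, hdM, h.card_bigM htr, ← hdW, hs, ← hdr]
    ring
  have hpos : 0 < dW * r := by rw [hdr]; exact Nat.card_pos
  have := Nat.eq_of_mul_eq_mul_left hpos key
  have h1 : (bigM P).index ≠ 0 := Subgroup.index_ne_zero_of_finite
  omega

/-- An element of `M` fixing all points is trivial. -/
theorem Free.eq_one_of_fix (h : Free P) (hM : bigM P ≠ ⊤) {x : G}
    (hx : ∀ y : G ⧸ bigM P, x • y = y) : x = 1 := by
  refine h.core_bigM hM fun e => ?_
  have h1 := QuotientGroup.eq.1 (show ((x * e⁻¹ : G) : G ⧸ bigM P) = (e⁻¹ : G) from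
    hx ((e⁻¹ : G) : G ⧸ bigM P)).symm
  simpa [mul_assoc] using h1

theorem Free.smul_W_normal (h : Free P) {m w : G} (hm : m ∈ bigM P) (hw : w ∈ W P) :
    m⁻¹ * w * m ∈ W P := by
  simpa using (mem_normalizer_iff.1 (h.bigM_le_normalizer (inv_mem hm)) w).1 hw

theorem Free.W_eq_bot_of_orbit (h : Free P) (hM : bigM P ≠ ⊤) {g : G} (hg : g ∉ bigM P)
    (hc : (orbit (W P) (g : G ⧸ bigM P)).ncard = 1) : W P = ⊥ := by
  refine (Subgroup.eq_bot_iff_forall _).2 fun w hw => h.eq_one_of_fix hM fun y => ?_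
  rcases eq_or_ne y ((1 : G) : G ⧸ bigM P) with rfl | hy
  · exact smul_base (h.W_le_bigM hw)
  obtain ⟨m, hm, rfl⟩ := h.exists_smul hM (mk_ne_base hg) hy
  obtain ⟨y, hy'⟩ := Set.ncard_eq_one.1 hc
  have h1 : ∀ w' ∈ W P, w' • (g : G ⧸ bigM P) = (g : G ⧸ bigM P) := fun w' hw' => by
    have e1 : w' • (g : G ⧸ bigM P) ∈ orbit (W P) (g : G ⧸ bigM P) := ⟨⟨w', hw'⟩, rfl⟩
    have e2 := mem_orbit_self (M := W P) (g : G ⧸ bigM P)
    rw [hy'] at e1 e2
    exact e1.trans e2.symm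
  rw [show w • m • (g : G ⧸ bigM P) = m • (m⁻¹ * w * m) • (g : G ⧸ bigM P) by
    rw [smul_smul, smul_smul]; group, h1 _ (h.smul_W_normal hm hw)]

/-- With orbits of length three or five `W` is abelian. -/
theorem Free.W_comm_of_orbit (h : Free P) (hM : bigM P ≠ ⊤) {g : G} (hg : g ∉ bigM P)
    (hc : (orbit (W P) (g : G ⧸ bigM P)).ncard ≤ 5) : ∀ a ∈ W P, ∀ b ∈ W P, a * b = b * a := by
  intro a ha b hb
  have hcard : Nat.card (orbit (W P) (g : G ⧸ bigM P)) ≤ 5 := by rwa [Nat.card_coe_set_eq]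
  suffices hall : ∀ y : G ⧸ bigM P, (a * b) • y = (b * a) • y by
    rw [← mul_inv_eq_one]
    exact h.eq_one_of_fix hM fun y => by rw [mul_smul, hall, smul_inv_smul]
  intro y
  rcases eq_or_ne y ((1 : G) : G ⧸ bigM P) with rfl | hy
  · rw [smul_base (h.W_le_bigM (mul_mem ha hb)), smul_base (h.W_le_bigM (mul_mem hb ha))]
  obtain ⟨m, hm, rfl⟩ := h.exists_smul hM (mk_ne_base hg) hy
  let a' : W P := ⟨m⁻¹ * a * m, h.smul_W_normal hm ha⟩
  let b' : W P := ⟨m⁻¹ * b * m, h.smul_W_normal hm hb⟩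
  have h1 := comm_of_perm h.not_dvd_card_W hcard
    (MulAction.toPermHom (W P) (orbit (W P) (g : G ⧸ bigM P))) a' b'
  have h2 : (m⁻¹ * a * m * (m⁻¹ * b * m)) • (g : G ⧸ bigM P) =
      (m⁻¹ * b * m * (m⁻¹ * a * m)) • (g : G ⧸ bigM P) :=
    congrArg Subtype.val (Equiv.Perm.ext_iff.1 h1 ⟨_, mem_orbit_self _⟩)
  calc (a * b) • m • (g : G ⧸ bigM P)
      = m • (m⁻¹ * a * m * (m⁻¹ * b * m)) • (g : G ⧸ bigM P) := by
        rw [smul_smul, smul_smul]; group
    _ = m • (m⁻¹ * b * m * (m⁻¹ * a * m)) • (g : G ⧸ bigM P) := by rw [h2]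
    _ = (b * a) • m • (g : G ⧸ bigM P) := by rw [smul_smul, smul_smul]; group

end CfsgLib.AbTwoOne
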