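import Cfsg.Agent.BlocksB.RankOneInvolution.Columns
import Cfsg.Agent.BlocksB.RankOneInvolution.Orbit
import Cfsg.Agent.BlocksB.ClassSum

/-!
# The column of an involution and the class equation
-/

set_option autoImplicit false
set_option linter.style.haveILetI false
set_option linter.unusedSectionVars false

namespace CfsgLib.AbTwoOne

open Cfsg Finset CfsgLib.Block CfsgLib.Block.Chr CfsgLib.Char
open scoped ComplexConjugate
open scoped Classical

universe u

variable {G : Type u} [Group G] [Fintype G] {P : Subgroup G} {M : Ideal AlgInt} [M.IsPrime]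

local notation "C{" x "}" => Subgroup.centralizer ({x} : Set G)

theorem Free.npc (h : Free P) {v : G} (hv : v ∈ P) (hv1 : v ≠ 1) :
    HasNormalPComplement 2 ↥C{v} := by
  haveI : Fact (Nat.Prime 2) := ⟨Nat.prime_two⟩
  have hle := h.le_centralizer hv
  haveI := CfsgLib.Solvable.pPrimeCore_normal (G := ↥C{v}) 2
  refine ⟨h.sylow.subtype hle, pPrimeCore 2 ↥C{v}, inferInstance,
    Subgroup.isComplement'_of_disjoint_and_mul_eq_univ ?_ ?_⟩
  · rw [Subgroup.disjoint_def]
    intro x hx hxP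
    by_contra hx1
    have hxP' : (x : G) ∈ P := hxP
    have ho := h.orderOf_eq hxP' (fun e => hx1 (Subtype.ext e))
    exact odd_orderOf (not_dvd_card_K v) (g := (x : G)) ⟨x, hx, rfl⟩ (by rw [ho])
  · refine Set.eq_univ_of_forall fun g => ?_
    obtain ⟨k, ⟨k', hk', rfl⟩, p, hp, he⟩ := (h.exists_complement hv hv1).2 _ g.2
    exact Set.mem_mul.2 ⟨k', hk', ⟨p, hle hp⟩, hp, Subtype.ext he.symm⟩

variable [Fintype (IrrCharacter G)]

local notation "B₀" => Finset.univ.filter (· ∈ principalBlock M G)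

/-- The data of the column. -/
structure Col (P : Subgroup G) (a : IrrCharacter G → ℤ) : Prop where
  val : ∀ (χ : IrrCharacter G), ∀ v ∈ P, v ≠ 1 → (χ : G → ℂ) v = (a χ : ℂ)

theorem exists_col (h : Free P) (htr : Trans P) : ∃ a : IrrCharacter G → ℤ, Col P a := by
  obtain ⟨v₀, hv₀, hv₀1⟩ := h.exists_ne_one
  choose a ha _ using fun χ : IrrCharacter G => exists_int_parity χ (h.orderOf_eq hv₀ hv₀1)
  refine ⟨a, ⟨fun χ v hv hv1 => ?_⟩⟩
  obtain ⟨n, -, rfl⟩ := htr v₀ hv₀ hv₀1 v hv hv1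
  rw [isClassFunction_irr χ v₀ n, ha]

variable {a : IrrCharacter G → ℤ}

theorem Col.sum_sq (hc : Col P a) (h : Free P) (hM : IsPModular 2 M) :
    ∑ χ ∈ B₀, a χ * a χ = (Nat.card P : ℤ) := by
  obtain ⟨v, hv, hv1⟩ := h.exists_ne_one
  have h1 := sum_sq_column hM h.sylow (h.orderOf_eq hv hv1) (h.le_centralizer hv) (h.npc hv hv1)
  rw [sum_congr rfl fun χ _ => by rw [hc.val χ v hv hv1]] at h1
  exact_mod_cast h1

theorem Col.one (hc : Col P a) (h : Free P) : a (oneIrr G) = 1 := by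
  obtain ⟨v, hv, hv1⟩ := h.exists_ne_one
  exact_mod_cast ((oneIrr_apply (G := G) v).symm.trans (hc.val (oneIrr G) v hv hv1)).symm

theorem Col.odd_apply (hc : Col P a) (h : Free P) (hM : IsPModular 2 M) {g : G}
    (hg : ¬ 2 ∣ orderOf g) : ∑ χ ∈ B₀, (a χ : ℂ) * (χ : G → ℂ) g = 0 := by
  obtain ⟨v, hv, hv1⟩ := h.exists_ne_one
  haveI : Fact (Nat.Prime 2) := ⟨Nat.prime_two⟩
  have h1 := weak_orth hM (isIntClass_blockCoeff (M := M) (B := principalBlock M G)
    isPBlock_principalBlock) hg (h := v) (by rw [h.orderOf_eq hv hv1])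
  rw [← h1]
  refine sum_congr rfl fun χ _ => ?_
  rw [hc.val χ v hv hv1, map_intCast, mul_comm]

theorem Col.sum_degree (hc : Col P a) (h : Free P) (hM : IsPModular 2 M) :
    ∑ χ ∈ B₀, a χ * (charDegree (χ : G → ℂ) : ℤ) = 0 := by
  have h1 := hc.odd_apply h hM (g := 1) (by rw [orderOf_one]; norm_num)
  rw [sum_congr rfl fun χ _ => by rw [(irr_one χ).1]] at h1
  exact_mod_cast h1

theorem Col.even_apply (hc : Col P a) (h : Free P) (hM : IsPModular 2 M) {g : G}
    (hg : 2 ∣ orderOf g) : ∑ χ ∈ B₀, (a χ : ℂ) * (χ : G → ℂ) g = (Nat.card P : ℂ) := by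
  haveI : Fact (Nat.Prime 2) := ⟨Nat.prime_two⟩
  obtain ⟨x, y, hxy, hcomm, -, -, hne, hy, ⟨k, hk⟩, -, -⟩ :=
    CfsgLib.Block.exists_pPart Nat.prime_two g
  obtain ⟨e, he⟩ := h.two_group_le (IsPGroup.of_card (p := 2) (n := k)
    (show Nat.card (Subgroup.zpowers x) = 2 ^ k by rw [Nat.card_zpowers, hk]))
  have hv : e * x * e⁻¹ ∈ P := he x (Subgroup.mem_zpowers x)
  have hv1 : e * x * e⁻¹ ≠ 1 := fun h' => hne hg (conj_eq_one_iff.1 h')
  have hy' : e * y * e⁻¹ ∈ K (e * x * e⁻¹) :=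
    (h.exists_complement hv hv1).1 _ (conj_mem_centralizer
      (Subgroup.mem_centralizer_singleton_iff.2 hcomm.eq.symm)) (by
      rwa [show e * y * e⁻¹ = (MulAut.conj e) y from rfl, MulEquiv.orderOf_eq])
  have hkey : ∀ χ ∈ B₀, (χ : G → ℂ) g = (a χ : ℂ) := fun χ hχ => by
    rw [← isClassFunction_irr χ g e,
      show e * g * e⁻¹ = e * x * e⁻¹ * (e * y * e⁻¹) by rw [← hxy]; group,
      principal_apply_mul_core hM (k := 1) (by rw [h.orderOf_eq hv hv1, pow_one]) hy'
        (mem_filter.1 hχ).2, hc.val χ _ hv hv1]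
  rw [sum_congr rfl fun χ hχ => by rw [hkey χ hχ]]
  exact_mod_cast hc.sum_sq h hM

/-- Outside `M` the product of `u` with a conjugate of `u` has odd order. -/
theorem Free.odd_of_not_mem (h : Free P) {u g : G} (hu : u ∈ P) (hu1 : u ≠ 1)
    (hg : g ∉ bigM P) : ¬ 2 ∣ orderOf (g * u * g⁻¹ * u) := by
  intro hd
  set t := g * u * g⁻¹ with ht
  have huu := h.sq u hu
  have htt : t * t = 1 := by
    rw [ht, show g * u * g⁻¹ * (g * u * g⁻¹) = g * (u * u) * g⁻¹ by group, huu, mul_one,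
      mul_inv_cancel]
  have hconjd : SemiconjBy u (t * u) (t * u)⁻¹ := by
    show u * (t * u) = (t * u)⁻¹ * u
    rw [mul_inv_rev, inv_eq_of_mul_eq_one_right htt, h.inv_eq hu]
    group
  obtain ⟨k, hk⟩ := hd
  have hd0 : 0 < orderOf (t * u) := orderOf_pos _
  set z := (t * u) ^ k with hz
  have hz2 : z * z = 1 := by
    rw [hz, ← pow_add, show k + k = orderOf (t * u) by omega, pow_orderOf_eq_one]
  have hz1 : z ≠ 1 := fun e => by
    have := orderOf_dvd_of_pow_eq_one e
    have := Nat.le_of_dvd (by omega) this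
    omega
  have hzo : orderOf z = 2 :=
    orderOf_eq_prime (hp := ⟨Nat.prime_two⟩) (by rw [pow_two, hz2]) hz1
  have hzinv : z⁻¹ = z := inv_eq_of_mul_eq_one_right hz2
  have hzu : u * z = z * u := by
    have h1 : u * z = ((t * u)⁻¹) ^ k * u := hconjd.pow_right k
    rw [h1, inv_pow, ← hz, hzinv]
  have hztu : z * (t * u) = (t * u) * z := (Commute.pow_self (t * u) k).eq
  have hzM : z ∈ bigM P :=
    h.centralizer_le_bigM hu hu1 (Subgroup.mem_centralizer_singleton_iff.2 hzu.symm)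
  have htz : t * z = z * t := by
    apply mul_right_cancel (b := u)
    calc t * z * u = t * (u * z) := by rw [hzu]; group
      _ = t * u * z := by group
      _ = z * (t * u) := hztu.symm
      _ = z * t * u := by group
  have htM : t ∈ bigM P :=
    h.centralizer_invol_le hzM hzo (Subgroup.mem_centralizer_singleton_iff.2 htz)
  exact hg (h.mem_of_conj (h.P_le_bigM hu) (h.orderOf_eq hu hu1) htM)

/-- The number of `g` with `g u g⁻¹ u` of even order. -/
theorem Free.card_even (h : Free P) (htr : Trans P) {u : G} (hu : u ∈ P) (hu1 : u ≠ 1) :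
    (univ.filter fun g : G => 2 ∣ orderOf (g * u * g⁻¹ * u)).card + Nat.card (W P) * Nat.card P =
      Nat.card (bigM P) := by
  set T : Finset G := (univ : Finset (W P × P)).image (fun x => (x.1 : G) * x.2) with hT
  have hTcard : T.card = Nat.card (W P) * Nat.card P := by
    rw [hT, card_image_of_injective, card_univ, ← Nat.card_eq_fintype_card, Nat.card_prod]
    intro x y he
    obtain ⟨e1, e2⟩ := h.eq_of_W_mul x.1.2 y.1.2 x.2.2 y.2.2 he
    exact Prod.ext (Subtype.ext e1) (Subtype.ext e2)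
  have hkey : ∀ g ∈ bigM P, (¬ 2 ∣ orderOf (g * u * g⁻¹ * u)) ↔ g ∈ T := by
    intro g hg
    constructor
    · intro hodd
      obtain ⟨w, hw, n, hn, rfl⟩ := h.mem_bigM_iff.1 hg
      have hu' : n * u * n⁻¹ ∈ P := (Subgroup.mem_normalizer_iff.1 hn u).1 hu
      set u' := n * u * n⁻¹ with hu'def
      have he : w * n * u * (w * n)⁻¹ * u = (w * (u' * w⁻¹ * u'⁻¹)) * (u' * u) := by
        rw [hu'def]; group
      set w₁ := w * (u' * w⁻¹ * u'⁻¹) with hw₁def
      have hw₁ : w₁ ∈ W P := mul_mem hw (h.conj_P_W hu' (inv_mem hw))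
      have hp : u' * u ∈ P := mul_mem hu' hu
      have hp1 : u' * u = 1 := by
        set p := u' * u with hpdef
        have hdd : (w₁ * p) * (w₁ * p) ∈ W P := by
          have : (w₁ * p) * (w₁ * p) = w₁ * (p * w₁ * p⁻¹) * (p * p) := by group
          rw [this, h.sq p hp, mul_one]
          exact mul_mem hw₁ (h.conj_P_W hp hw₁)
        obtain ⟨m, hm⟩ : Odd (orderOf (w₁ * p)) := by
          rw [← Nat.not_even_iff_odd, even_iff_two_dvd, ← he]; exact hodd
        have h1 : w₁ * p ∈ W P := by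
          have h2 := pow_orderOf_eq_one (w₁ * p)
          rw [hm, pow_succ, pow_mul, pow_two] at h2
          rw [eq_inv_of_mul_eq_one_right h2]
          exact inv_mem (pow_mem hdd m)
        exact (h.eq_of_W_mul h1 hw₁ (one_mem P) hp (by rw [mul_one])).2.symm
      have hcu : n ∈ C{u} := Subgroup.mem_centralizer_singleton_iff.2
        (mul_inv_eq_iff_eq_mul.1 ((mul_eq_one_iff_eq_inv.1 hp1).trans (h.inv_eq hu)))
      obtain ⟨k, hk, p, hpP, rfl⟩ := (h.exists_complement hu hu1).2 n hcu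
      exact mem_image.2 ⟨(⟨w * k, mul_mem hw (h.K_le_W hu hu1 hk)⟩, ⟨p, hpP⟩), mem_univ _,
        mul_assoc _ _ _⟩
    · intro hgT
      obtain ⟨⟨w, p⟩, -, rfl⟩ := mem_image.1 hgT
      have he : (w : G) * p * u * ((w : G) * p)⁻¹ * u = (w : G) * (u * (w : G)⁻¹ * u⁻¹) := by
        calc (w : G) * p * u * ((w : G) * p)⁻¹ * u
            = (w : G) * ((p : G) * u) * (p : G)⁻¹ * (w : G)⁻¹ * u := by group
          _ = (w : G) * (u * (p : G)) * (p : G)⁻¹ * (w : G)⁻¹ * u := by rw [h.comm p.2 hu]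
          _ = (w : G) * (u * (w : G)⁻¹ * u) := by group
          _ = _ := by rw [h.inv_eq hu]
      show ¬ 2 ∣ orderOf ((w : G) * p * u * ((w : G) * p)⁻¹ * u)
      rw [he]
      exact odd_orderOf h.not_dvd_card_W (mul_mem w.2 (h.conj_P_W hu (inv_mem w.2)))
  have hsplit : (univ.filter fun g : G => g ∈ bigM P) =
      (univ.filter fun g : G => 2 ∣ orderOf (g * u * g⁻¹ * u)) ∪ T := by
    ext g
    simp only [mem_union, mem_filter, mem_univ, true_and]
    constructor
    · intro hg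
      by_cases hd : 2 ∣ orderOf (g * u * g⁻¹ * u)
      · exact Or.inl hd
      · exact Or.inr ((hkey g hg).1 hd)
    · rintro (hd | hgT)
      · by_contra hg
        exact h.odd_of_not_mem hu hu1 hg hd
      · obtain ⟨⟨w, p⟩, -, rfl⟩ := mem_image.1 hgT
        exact mul_mem (h.W_le_bigM w.2) (h.P_le_bigM p.2)
  have hdisj : Disjoint (univ.filter fun g : G => 2 ∣ orderOf (g * u * g⁻¹ * u)) T := by
    rw [Finset.disjoint_left]
    intro g hg hgT
    have hgM : g ∈ bigM P := by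
      obtain ⟨⟨w, p⟩, -, rfl⟩ := mem_image.1 hgT
      exact mul_mem (h.W_le_bigM w.2) (h.P_le_bigM p.2)
    exact (hkey g hgM).2 hgT (mem_filter.1 hg).2
  rw [← hTcard, ← card_union_of_disjoint hdisj, ← hsplit, Nat.card_eq_fintype_card,
    Fintype.card_subtype]

/-- **The class equation.** -/
theorem Col.class_equation (hc : Col P a) (h : Free P) (hM : IsPModular 2 M) (htr : Trans P) :
    ((bigM P).index : ℚ) * ((Nat.card P : ℚ) - 1) *
      (∑ χ ∈ B₀, (a χ : ℚ) ^ 3 / (charDegree (χ : G → ℂ) : ℚ)) =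
      (Nat.card P : ℚ) * ((Nat.card P : ℚ) - 2) := by
  obtain ⟨u, hu, hu1⟩ := h.exists_ne_one
  set q := Nat.card P with hq
  set S := univ.filter fun g : G => 2 ∣ orderOf (g * u * g⁻¹ * u) with hS
  have e1 : ∑ g : G, ∑ χ ∈ B₀, (a χ : ℂ) * (χ : G → ℂ) (g * u * g⁻¹ * u) =
      (q : ℂ) * (S.card : ℂ) := by
    rw [← sum_filter_add_sum_filter_not univ fun g : G => 2 ∣ orderOf (g * u * g⁻¹ * u),
      sum_congr rfl fun g hg => hc.even_apply h hM (mem_filter.1 hg).2,
      sum_congr rfl fun g hg => hc.odd_apply h hM (mem_filter.1 hg).2, sum_const, sum_const_zero,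
      add_zero, nsmul_eq_mul, mul_comm]
  have e2 : ∑ g : G, ∑ χ ∈ B₀, (a χ : ℂ) * (χ : G → ℂ) (g * u * g⁻¹ * u) =
      (Nat.card G : ℂ) * ∑ χ ∈ B₀, (a χ : ℂ) ^ 3 / (charDegree (χ : G → ℂ) : ℂ) := by
    rw [sum_comm, mul_sum]
    refine sum_congr rfl fun χ _ => ?_
    rw [← mul_sum]
    have h1 := CfsgLib.BlocksB.sum_conj_mul χ.2 u u
    rw [hc.val χ u hu hu1, (irr_one χ).1] at h1
    have hn : (charDegree (χ : G → ℂ) : ℂ) ≠ 0 := Nat.cast_ne_zero.2 (irr_one χ).2.ne'
    field_simp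
    linear_combination (a χ : ℂ) * h1
  rw [e2] at e1
  have e3 : (Nat.card G : ℚ) *
      (∑ χ ∈ B₀, (a χ : ℚ) ^ 3 / (charDegree (χ : G → ℂ) : ℚ)) = (q : ℚ) * (S.card : ℚ) := by
    apply Rat.cast_injective (α := ℂ)
    push_cast
    exact e1
  have hcnt := h.card_even htr hu hu1
  rw [← hS, h.card_bigM htr, ← hq] at hcnt
  have hG : Nat.card G = (bigM P).index * (Nat.card (W P) * (q * (q - 1))) := by
    rw [← h.card_bigM htr, mul_comm, Subgroup.card_mul_index]
  have hq2 : 8 ≤ q := by rcases h.card with e | e <;> omega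
  have hcnt' : (S.card : ℚ) + (Nat.card (W P) : ℚ) * q =
      (Nat.card (W P) : ℚ) * (q * ((q : ℚ) - 1)) := by
    have := congrArg (Nat.cast (R := ℚ)) hcnt
    push_cast [Nat.cast_sub (by omega : 1 ≤ q)] at this
    exact this
  rw [hG] at e3
  push_cast [Nat.cast_sub (by omega : 1 ≤ q)] at e3
  have hW : (Nat.card (W P) : ℚ) ≠ 0 := Nat.cast_ne_zero.2 Nat.card_pos.ne'
  have hq0 : (q : ℚ) ≠ 0 := Nat.cast_ne_zero.2 (by omega)
  refine mul_left_cancel₀ (mul_ne_zero hW hq0) ?_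
  linear_combination e3 + (q : ℚ) * hcnt'

/-- The trivial multiplicity in the restriction to `P`. -/
theorem Col.congr (hc : Col P a) (h : Free P) (χ : IrrCharacter G) :
    ∃ m : ℕ, (charDegree (χ : G → ℂ) : ℤ) + ((Nat.card P : ℤ) - 1) * a χ =
      (Nat.card P : ℤ) * m := by
  obtain ⟨m, hm⟩ := FrobeniusSylow.exists_restrict_mult P χ 1
  refine ⟨m, ?_⟩
  simp only [MonoidHom.one_apply, Units.val_one, map_one, mul_one] at hm
  rw [← add_sum_erase univ _ (mem_univ (1 : P)), OneMemClass.coe_one, (irr_one χ).1,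
    sum_congr rfl fun (v : P) hv => hc.val χ (v : G) v.2 fun e => (mem_erase.1 hv).1 (Subtype.ext e),
    sum_const,
    card_erase_of_mem (mem_univ _), card_univ, ← Nat.card_eq_fintype_card, nsmul_eq_mul,
    Nat.cast_sub Nat.card_pos, Nat.cast_one] at hm
  have : (((Nat.card P : ℤ) * m : ℤ) : ℂ) =
      (((charDegree (χ : G → ℂ) : ℤ) + ((Nat.card P : ℤ) - 1) * a χ : ℤ) : ℂ) := by
    push_cast
    exact hm
  exact_mod_cast this.symm

end CfsgLib.AbTwoOne
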