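import Cfsg.Agent.SL2C.AbChar
import Mathlib.RepresentationTheory.Character
import Mathlib.LinearAlgebra.Transvection.Basic
import Mathlib.LinearAlgebra.Projection
import Mathlib.LinearAlgebra.Trace

/-!
# A representation in which an elementary abelian group has one line for each nontrivial character
-/

set_option autoImplicit false
set_option linter.style.haveILetI false
set_option linter.unusedSectionVars false

namespace CfsgLib.AbTwoOne

open Finset Module CfsgLib.SL2C
open scoped Classical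

universe u v

variable {G : Type u} [Group G] {V : Type v} [AddCommGroup V] [Module ℂ V] [FiniteDimensional ℂ V]

/-- The projection of a linear character of a subgroup. -/
noncomputable def proj (H : Subgroup G) [Fintype H] (ρ : Representation ℂ G V) (ψ : H →* ℂˣ) :
    Module.End ℂ V :=
  (Fintype.card H : ℂ)⁻¹ • ∑ a : H, ((ψ a⁻¹ : ℂˣ) : ℂ) • ρ (a : G)

theorem hom_inv_eq_one {A : Type u} [Group A] {ψ : A →* ℂˣ} : ψ⁻¹ = 1 ↔ ψ = 1 := by
  constructor
  · intro h
    refine MonoidHom.ext fun a => inv_injective ?_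
    have := DFunLike.congr_fun h a
    rw [MonoidHom.inv_apply, MonoidHom.one_apply] at this
    rw [this, MonoidHom.one_apply, inv_one]
  · rintro rfl
    ext a
    simp

section Proj

variable {H : Subgroup G} [Fintype H] {ρ : Representation ℂ G V}

theorem apply_mul_proj (hH : ∀ a b : H, a * b = b * a) (ψ : H →* ℂˣ) (b : H) :
    ρ (b : G) * proj H ρ ψ = ((ψ b : ℂˣ) : ℂ) • proj H ρ ψ := by
  rw [proj, mul_smul_comm, smul_comm ((ψ b : ℂˣ) : ℂ)]
  congr 1
  rw [mul_sum, Finset.smul_sum]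
  refine Fintype.sum_equiv (Equiv.mulLeft b) _ _ fun a => ?_
  show ρ (b : G) * (((ψ a⁻¹ : ℂˣ) : ℂ) • ρ (a : G)) =
    ((ψ b : ℂˣ) : ℂ) • ((ψ (b * a)⁻¹ : ℂˣ) : ℂ) • ρ ((b * a : H) : G)
  rw [mul_smul_comm, ← map_mul, smul_smul, ← Units.val_mul, ← map_mul, Subgroup.coe_mul,
    mul_inv_rev, hH a⁻¹ b⁻¹, mul_inv_cancel_left]

theorem proj_mul (hH : ∀ a b : H, a * b = b * a) (ψ φ : H →* ℂˣ) :
    proj H ρ ψ * proj H ρ φ = if ψ = φ then proj H ρ φ else 0 := by
  conv_lhs => arg 1; rw [proj]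
  rw [smul_mul_assoc, sum_mul]
  have h1 : ∀ a : H, ((ψ a⁻¹ : ℂˣ) : ℂ) • ρ (a : G) * proj H ρ φ =
      (((φ * ψ⁻¹) a : ℂˣ) : ℂ) • proj H ρ φ := fun a => by
    rw [smul_mul_assoc, apply_mul_proj hH, smul_smul, ← Units.val_mul, map_inv, mul_comm,
      MonoidHom.mul_apply, MonoidHom.inv_apply]
  rw [sum_congr rfl fun a _ => h1 a, ← sum_smul, sum_char, smul_smul]
  have hc : (Fintype.card H : ℂ) ≠ 0 := Nat.cast_ne_zero.2 Fintype.card_ne_zero
  by_cases h : ψ = φ
  · subst h
    rw [if_pos (mul_inv_cancel ψ), if_pos rfl, inv_mul_cancel₀ hc, one_smul]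
  · rw [if_neg fun e => h (mul_inv_eq_one.1 e).symm, if_neg h, mul_zero, zero_smul]

theorem proj_idem (hH : ∀ a b : H, a * b = b * a) (ψ : H →* ℂˣ) :
    IsIdempotentElem (proj H ρ ψ) := by
  rw [IsIdempotentElem, proj_mul hH, if_pos rfl]

theorem sum_proj (hH : ∀ a b : H, a * b = b * a) : ∑ ψ : H →* ℂˣ, proj H ρ ψ = 1 := by
  simp only [proj, ← smul_sum]
  rw [sum_comm]
  simp only [← sum_smul]
  rw [sum_congr rfl fun a _ => by rw [sum_dual hH a⁻¹], sum_eq_single 1, inv_one, if_pos rfl,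
    OneMemClass.coe_one, map_one, smul_smul,
    inv_mul_cancel₀ (Nat.cast_ne_zero.2 Fintype.card_ne_zero), one_smul]
  · intro a _ ha
    rw [if_neg (fun e => ha (inv_eq_one.1 e)), zero_smul]
  · intro h; exact absurd (mem_univ _) h

theorem commute_proj {g : G} (hg : ∀ a : H, g * a = a * g) (ψ : H →* ℂˣ) :
    Commute (ρ g) (proj H ρ ψ) := by
  refine Commute.smul_right (Commute.sum_right _ _ _ fun a _ => Commute.smul_right ?_ _) _
  show ρ g * ρ (a : G) = ρ (a : G) * ρ g
  rw [← map_mul, hg a, map_mul]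

theorem trace_proj (ψ : H →* ℂˣ) :
    LinearMap.trace ℂ V (proj H ρ ψ) =
      (Fintype.card H : ℂ)⁻¹ * ∑ a : H, ((ψ a⁻¹ : ℂˣ) : ℂ) * ρ.character (a : G) := by
  rw [proj, map_smul, map_sum, smul_eq_mul]
  congr 1
  exact sum_congr rfl fun a _ => by rw [map_smul, smul_eq_mul]; rfl

theorem trace_proj_nat (hH : ∀ a b : H, a * b = b * a) (ψ : H →* ℂˣ) :
    LinearMap.trace ℂ V (proj H ρ ψ) =
      (finrank ℂ (LinearMap.range (proj H ρ ψ)) : ℂ) :=
  (LinearMap.IsIdempotentElem.isProj_range _ (proj_idem hH ψ)).trace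

end Proj

/-- Invariant sums over a set without common fixed point of commuting involutions are even. -/
theorem even_sum {S ι : Type*} [Fintype S] [Fintype ι] (φ : ι → S → S)
    (hsq : ∀ i s, φ i (φ i s) = s) (hcomm : ∀ i j s, φ i (φ j s) = φ j (φ i s)) (m : S → ℕ)
    (hm : ∀ i s, m (φ i s) = m s) (good : Finset S) (hgood : ∀ i, ∀ s ∈ good, φ i s ∈ good)
    (hfix : ∀ s ∈ good, ∃ i, φ i s ≠ s) : Even (∑ s ∈ good, m s) := by
  have key : ∀ T : Finset ι, (∑ s ∈ good, (m s : ZMod 2)) =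
      ∑ s ∈ good.filter (fun s => ∀ i ∈ T, φ i s = s), (m s : ZMod 2) := by
    intro T
    induction T using Finset.induction_on with
    | empty => simp
    | @insert j T hj ih =>
      rw [ih, ← sum_filter_add_sum_filter_not (good.filter fun s => ∀ i ∈ T, φ i s = s)
        (fun s => φ j s = s)]
      have h0 : ∑ s ∈ (good.filter fun s => ∀ i ∈ T, φ i s = s).filter (fun s => ¬ φ j s = s),
          (m s : ZMod 2) = 0 := by
        refine sum_involution (fun s _ => φ j s) (fun s _ => ?_) (fun s hs _ => ?_) (fun s hs => ?_)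
          fun s _ => hsq j s
        · rw [hm]; exact CharTwo.add_self_eq_zero _
        · exact (mem_filter.1 hs).2
        · simp only [mem_filter] at hs ⊢
          refine ⟨⟨hgood j s hs.1.1, fun i hi => by rw [hcomm, hs.1.2 i hi]⟩, fun e => hs.2 ?_⟩
          rw [hsq] at e; exact e.symm
      rw [h0, add_zero, filter_filter]
      refine sum_congr (filter_congr fun s _ => ?_) fun _ _ => rfl
      simp only [mem_insert, forall_eq_or_imp]
      exact and_comm
  have h1 := key univ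
  rw [show good.filter (fun s => ∀ i ∈ (univ : Finset ι), φ i s = s) = ∅ by
    refine filter_false_of_mem fun s hs h => ?_
    obtain ⟨i, hi⟩ := hfix s hs
    exact hi (h i (mem_univ i)), sum_empty, ← Nat.cast_sum] at h1
  exact ZMod.natCast_eq_zero_iff_even.1 h1

/-- The hypotheses on the representation. -/
structure Lines (P : Subgroup G) (ρ : Representation ℂ G V) : Prop where
  comm : ∀ a b : P, a * b = b * a
  char : ∀ v ∈ P, v ≠ 1 → ρ.character v = -1
  dim : finrank ℂ V + 1 = Nat.card P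
  faithful : ∀ g : G, ρ g = 1 → g = 1

variable {P : Subgroup G} [Fintype P] {ρ : Representation ℂ G V}

theorem Lines.trace_eq (L : Lines P ρ) (ψ : P →* ℂˣ) :
    LinearMap.trace ℂ V (proj P ρ ψ) = if ψ = 1 then 0 else 1 := by
  rw [trace_proj]
  have h1 : ∀ a : P, ((ψ a⁻¹ : ℂˣ) : ℂ) * ρ.character (a : G) =
      (if a = 1 then (Fintype.card P : ℂ) else 0) - ((ψ⁻¹) a : ℂˣ) := by
    intro a
    by_cases ha : a = 1
    · subst ha
      rw [if_pos rfl, OneMemClass.coe_one, inv_one, map_one, Units.val_one, one_mul,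
        Representation.char_one, map_one, Units.val_one, ← Nat.card_eq_fintype_card, ← L.dim]
      push_cast; ring
    · rw [if_neg ha, L.char a a.2 (fun e => ha (Subtype.ext e)), map_inv, MonoidHom.inv_apply]
      ring
  rw [sum_congr rfl fun a _ => h1 a, sum_sub_distrib, sum_ite_eq' univ (1 : P),
    if_pos (mem_univ _), sum_char]
  have hc : (Fintype.card P : ℂ) ≠ 0 := Nat.cast_ne_zero.2 Fintype.card_ne_zero
  by_cases h : ψ = 1
  · rw [if_pos (hom_inv_eq_one.2 h), if_pos h, sub_self, mul_zero]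
  · rw [if_neg (mt hom_inv_eq_one.1 h), if_neg h, sub_zero, inv_mul_cancel₀ hc]

theorem Lines.proj_one (L : Lines P ρ) : proj P ρ (1 : P →* ℂˣ) = 0 :=
  LinearMap.IsIdempotentElem.eq_zero_of_trace_eq_zero (proj_idem L.comm 1) (by rw [L.trace_eq, if_pos rfl])

theorem Lines.proj_ne_zero (L : Lines P ρ) {ψ : P →* ℂˣ} (h : ψ ≠ 1) : proj P ρ ψ ≠ 0 := by
  intro e
  have := L.trace_eq ψ
  rw [e, map_zero, if_neg h] at this
  exact zero_ne_one this

theorem Lines.exists_rank_one (L : Lines P ρ) {ψ : P →* ℂˣ} (h : ψ ≠ 1) :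
    ∃ (e : V) (φ : Module.Dual ℂ V), φ e = 1 ∧ ∀ x, proj P ρ ψ x = φ x • e := by
  set π := proj P ρ ψ with hπ
  have hr : finrank ℂ (LinearMap.range π) = 1 := by
    have := trace_proj_nat (ρ := ρ) L.comm ψ
    rw [L.trace_eq, if_neg h] at this
    exact_mod_cast this.symm
  obtain ⟨⟨e, he⟩, he0, hspan⟩ := finrank_eq_one_iff'.1 hr
  have he0' : e ≠ 0 := fun e' => he0 (Subtype.ext e')
  obtain ⟨g, hg⟩ := (LinearMap.toSpanSingleton ℂ V e).exists_leftInverse_of_injective
    (LinearMap.ker_toSpanSingleton ℂ he0')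
  have hge : g e = 1 := by
    have := LinearMap.congr_fun hg 1
    simpa using this
  have hπe : π e = e := (LinearMap.IsIdempotentElem.isProj_range _ (proj_idem L.comm ψ)).map_id e he
  refine ⟨e, g.comp π, by rw [LinearMap.comp_apply, hπe, hge], fun x => ?_⟩
  obtain ⟨c, hc⟩ := hspan ⟨π x, LinearMap.mem_range_self π x⟩
  have hc' : c • e = π x := congrArg Subtype.val hc
  rw [LinearMap.comp_apply, ← hc', map_smul, hge, smul_eq_mul, mul_one]

theorem Lines.exists_scalar (L : Lines P ρ) {f : Module.End ℂ V} (ψ : P →* ℂˣ)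
    (hf : Commute f (proj P ρ ψ)) : ∃ s : ℂ, f * proj P ρ ψ = s • proj P ρ ψ := by
  by_cases h : ψ = 1
  · exact ⟨0, by subst h; rw [L.proj_one, mul_zero, smul_zero]⟩
  obtain ⟨e, φ, hφe, hπ⟩ := L.exists_rank_one h
  refine ⟨φ (f e), LinearMap.ext fun x => ?_⟩
  have h1 : proj P ρ ψ (f e) = f (proj P ρ ψ e) := (LinearMap.congr_fun hf.eq e).symm
  rw [hπ, hπ, hφe, one_smul] at h1
  rw [Module.End.mul_apply, LinearMap.smul_apply, hπ, map_smul]
  conv_lhs => rw [← h1]
  rw [smul_smul, smul_smul, mul_comm]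

theorem Lines.det_add (L : Lines P ρ) {ψ : P →* ℂˣ} (h : ψ ≠ 1) (t : ℂ) :
    LinearMap.det (1 + t • proj P ρ ψ) = 1 + t := by
  obtain ⟨e, φ, hφe, hπ⟩ := L.exists_rank_one h
  have h1 : (1 : Module.End ℂ V) + t • proj P ρ ψ = LinearMap.transvection (t • φ) e := by
    refine LinearMap.ext fun x => ?_
    show x + t • proj P ρ ψ x = x + (t • φ) x • e
    rw [hπ, LinearMap.smul_apply, smul_eq_mul, smul_smul]
  rw [h1, LinearMap.transvection.det, LinearMap.smul_apply, hφe, smul_eq_mul, mul_one]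

/-- Elements centralising `P` commute. -/
theorem Lines.comm_of_centralizes (L : Lines P ρ) {g h : G} (hg : ∀ a : P, g * a = a * g)
    (hh : ∀ a : P, h * a = a * h) : g * h = h * g := by
  have key : ρ (g * h) = ρ (h * g) := by
    rw [← mul_one (ρ (g * h)), ← mul_one (ρ (h * g)), ← sum_proj (ρ := ρ) L.comm, mul_sum, mul_sum]
    refine sum_congr rfl fun ψ _ => ?_
    obtain ⟨s, hs⟩ := L.exists_scalar ψ (commute_proj hg ψ)
    obtain ⟨r, hr⟩ := L.exists_scalar ψ (commute_proj hh ψ)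
    rw [map_mul, map_mul, mul_assoc, hr, mul_smul_comm, hs, mul_assoc, hs, mul_smul_comm, hr,
      smul_smul, smul_smul, mul_comm]
  have h1 : ρ (g * h * (h * g)⁻¹) = 1 := by
    rw [map_mul, key, ← map_mul, mul_inv_cancel, map_one]
  exact mul_inv_eq_one.1 (L.faithful _ h1)

/-- The commutator of two elements centralising a hyperplane of `P`. -/
theorem Lines.commutator_eq_one (L : Lines P ρ) (χ : P →* ℂˣ)
    (hχ : ∀ a, χ a = 1 ∨ χ a = -1) {x y c : G} (hc : c * (y * x) = x * y)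
    (hx : ∀ a : P, χ a = 1 → x * a = a * x) (hy : ∀ a : P, χ a = 1 → y * a = a * y)
    (hcP : ∀ a : P, c * a = a * c) (hxc : x * c = c * x) (hyc : y * c = c * y) {m : ℕ}
    (hm : Odd m) (hcm : c ^ m = 1) : c = 1 := by
  refine L.faithful c ?_
  rw [← mul_one (ρ c), ← sum_proj (ρ := ρ) L.comm, mul_sum]
  refine sum_congr rfl fun ψ _ => ?_
  by_cases hψ : ψ = 1
  · subst hψ; rw [L.proj_one, mul_zero]
  set π := proj P ρ ψ with hπ
  set π' := proj P ρ (ψ * χ) with hπ'
  obtain ⟨z, hz⟩ := L.exists_scalar ψ (commute_proj hcP ψ)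
  obtain ⟨z', hz'⟩ := L.exists_scalar (ψ * χ) (commute_proj hcP (ψ * χ))
  suffices z = 1 by rw [hz, this, one_smul]
  have hπ0 := L.proj_ne_zero hψ
  have hroot : ∀ (w : ℂ) (σ : Module.End ℂ V), ρ c * σ = w • σ → σ ≠ 0 → w ^ m = 1 := by
    intro w σ hw hσ
    have hk : ∀ k : ℕ, ρ (c ^ k) * σ = w ^ k • σ := by
      intro k
      induction k with
      | zero => simp
      | succ k ih => rw [pow_succ', map_mul, mul_assoc, ih, mul_smul_comm, hw, smul_smul, pow_succ]
    have := hk m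
    rw [hcm, map_one, one_mul] at this
    exact (smul_left_injective ℂ hσ (show w ^ m • σ = (1 : ℂ) • σ by rw [one_smul]; exact this.symm))
  have hne : ψ ≠ ψ * χ ∨ χ = 1 := by
    by_cases h : χ = 1
    · exact Or.inr h
    · exact Or.inl fun e => h (MonoidHom.ext fun a => by
        have := DFunLike.congr_fun e a
        simpa using this)
  rcases hne with hne | h1
  swap
  · -- `χ = 1`: both centralise `P`
    have hall : ∀ a : P, χ a = 1 := fun a => by rw [h1]; rfl
    have := L.comm_of_centralizes (fun a => hx a (hall a)) (fun a => hy a (hall a))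
    have hc1 : c = 1 := by rw [this] at hc; exact mul_eq_right.1 hc
    rw [hc1, map_one, one_mul] at hz
    exact (smul_left_injective ℂ hπ0 (show z • π = (1 : ℂ) • π by rw [one_smul]; exact hz.symm))
  obtain ⟨Q, hQ⟩ : ∃ Q, Q = π + π' := ⟨_, rfl⟩
  have h00 : π * π' = 0 := by rw [hπ, hπ', proj_mul L.comm, if_neg hne]
  have h00' : π' * π = 0 := by rw [hπ, hπ', proj_mul L.comm, if_neg hne.symm]
  have hQQ : Q * Q = Q := by
    rw [hQ, mul_add, add_mul, add_mul, h00, h00', add_zero, zero_add,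
      (proj_idem (ρ := ρ) L.comm ψ).eq, (proj_idem (ρ := ρ) L.comm (ψ * χ)).eq]
  have hQg : ∀ g : G, (∀ a : P, χ a = 1 → g * a = a * g) → Commute (ρ g) Q := by
    intro g hg
    rw [hQ, hπ, hπ', proj, proj, ← smul_add, ← sum_add_distrib]
    refine Commute.smul_right (Commute.sum_right _ _ _ fun a _ => ?_) _
    rw [← add_smul]
    rcases hχ a with e | e
    · refine Commute.smul_right ?_ _
      show ρ g * ρ (a : G) = ρ (a : G) * ρ g
      rw [← map_mul, hg a e, map_mul]
    · have : ((ψ a⁻¹ : ℂˣ) : ℂ) + (((ψ * χ) a⁻¹ : ℂˣ) : ℂ) = 0 := by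
        rw [MonoidHom.mul_apply, map_inv χ, e]; simp
      rw [this, zero_smul]
      exact Commute.zero_right _
  let D : G → ℂ := fun g => LinearMap.det (1 - Q + Q * ρ g)
  have hD : ∀ g g' : G, (∀ a : P, χ a = 1 → g * a = a * g) → D (g * g') = D g * D g' := by
    intro g g' hg
    show LinearMap.det _ = LinearMap.det _ * LinearMap.det _
    rw [← map_mul]
    congr 1
    have hgQ : ρ g * Q = Q * ρ g := (hQg g hg).eq
    have e1 : (1 - Q) * (1 - Q) = 1 - Q := by rw [sub_mul, mul_sub, mul_sub, hQQ]; noncomm_ring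
    have e2 : (1 - Q) * (Q * ρ g') = 0 := by rw [← mul_assoc, sub_mul, one_mul, hQQ, sub_self,
      zero_mul]
    have e3 : Q * ρ g * (1 - Q) = 0 := by
      rw [mul_sub, mul_one, mul_assoc Q (ρ g) Q, hgQ, ← mul_assoc, hQQ, sub_self]
    have e4 : Q * ρ g * (Q * ρ g') = Q * ρ (g * g') := by
      rw [map_mul, ← mul_assoc, mul_assoc Q (ρ g) Q, hgQ, ← mul_assoc, hQQ, mul_assoc]
    rw [add_mul, mul_add, mul_add, e1, e2, e3, e4]
    abel
  have hcH : ∀ a : P, χ a = 1 → c * a = a * c := fun a _ => hcP a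
  have hD0 : ∀ g : G, (∀ a : P, χ a = 1 → g * a = a * g) → D g ≠ 0 := by
    intro g hg h0
    have h1 := hD g g⁻¹ hg
    rw [mul_inv_cancel, h0, zero_mul] at h1
    simp only [D, map_one, mul_one, sub_add_cancel] at h1
    exact one_ne_zero h1
  have hDc : D c = 1 := by
    have h1 := hD c (y * x) hcH
    rw [hc, hD x y hx, hD y x hy, mul_comm (D y)] at h1
    exact mul_right_cancel₀ (mul_ne_zero (hD0 x hx) (hD0 y hy)) (by rw [one_mul]; exact h1.symm)
  have hsplit : 1 - Q + Q * ρ c = (1 + (z - 1) • π) * (1 + (z' - 1) • π') := by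
    rw [← (hQg c hcH).eq, hQ, mul_add, hπ, hπ', hz, hz', ← hπ, ← hπ', add_mul, one_mul, mul_add,
      mul_one, smul_mul_smul_comm, h00, smul_zero, add_zero, sub_smul, sub_smul, one_smul, one_smul]
    abel
  have hzz : z * z' = 1 ∨ z = 1 := by
    have h1 : D c = LinearMap.det ((1 + (z - 1) • π) * (1 + (z' - 1) • π')) := by
      rw [← hsplit]
    rw [hDc, map_mul, hπ, L.det_add hψ, add_sub_cancel] at h1
    by_cases h2 : ψ * χ = 1
    · rw [hπ', h2, L.proj_one, smul_zero, add_zero, map_one, mul_one] at h1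
      exact Or.inr h1.symm
    · rw [hπ', L.det_add h2, add_sub_cancel] at h1
      exact Or.inl h1.symm
  rcases hzz with hzz | hzz
  swap
  · exact hzz
  have hzm := hroot z π hz hπ0
  by_cases hzz' : z = z'
  · subst hzz'
    obtain ⟨j, rfl⟩ := hm
    rwa [pow_succ, pow_mul, pow_two, hzz, one_pow, one_mul] at hzm
  have hdiag : ∀ g : G, (∀ a : P, χ a = 1 → g * a = a * g) → g * c = c * g →
      ∃ s : ℂ, ρ g * π = s • π := by
    intro g hg hgc
    refine L.exists_scalar ψ ?_
    have h1 : Commute (ρ g) ((z - z') • π) := by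
      have e : (z - z') • π = ρ c * Q - z' • Q := by
        rw [hQ, mul_add, hπ, hπ', hz, hz', sub_smul, smul_add]; abel
      rw [e]
      refine Commute.sub_right (Commute.mul_right ?_ (hQg g hg)) ((hQg g hg).smul_right _)
      show ρ g * ρ c = ρ c * ρ g
      rw [← map_mul, hgc, map_mul]
    have h2 := h1.smul_right (z - z')⁻¹
    rwa [smul_smul, inv_mul_cancel₀ (sub_ne_zero.2 hzz'), one_smul] at h2
  obtain ⟨s, hs⟩ := hdiag x hx hxc
  obtain ⟨r, hr⟩ := hdiag y hy hyc
  have e1 : ρ (x * y) * π = (s * r) • π := by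
    rw [map_mul, mul_assoc, hr, mul_smul_comm, hs, smul_smul, mul_comm]
  have e2 : ρ (y * x) * π = (s * r) • π := by
    rw [map_mul, mul_assoc, hs, mul_smul_comm, hr, smul_smul]
  have e3 : ρ (x * y) * π = (s * r) • (z • π) := by
    rw [← hc, map_mul, mul_assoc, e2, mul_smul_comm, hz]
  have hsr : (s * r) • π ≠ 0 := by
    intro h0
    rw [← e2] at h0
    have : π = 0 := by
      rw [← one_mul π, ← map_one ρ, ← inv_mul_cancel (y * x), map_mul, mul_assoc, h0, mul_zero]
    exact hπ0 this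
  refine smul_left_injective ℂ hsr (show z • (s * r) • π = (1 : ℂ) • (s * r) • π from ?_)
  rw [one_smul, smul_comm, ← e3, e1]

/-- An abelian group of odd order on which `P` acts without fixed points is trivial. -/
theorem Lines.eq_bot_of_abelian [Finite G] (L : Lines P ρ) (hsq : ∀ a : P, a * a = 1)
    (hPeven : Even (Nat.card P)) {A : Subgroup G}
    (hA : ∀ a b : A, a * b = b * a) (hodd : Odd (Nat.card A))
    (hinv : ∀ v ∈ P, ∀ a ∈ A, v * a * v⁻¹ ∈ A)
    (htr : ∀ u ∈ P, u ≠ 1 → ∀ w ∈ P, w ≠ 1 →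
      ∃ n ∈ Subgroup.normalizer (A : Set G), n * u * n⁻¹ = w)
    (hfix : ∀ a ∈ A, (∀ v ∈ P, v * a * v⁻¹ = a) → a = 1) : A = ⊥ := by
  haveI : Fintype A := Fintype.ofFinite A
  let cj : P → A →* A := fun v =>
    MonoidHom.mk' (fun a => ⟨(v : G) * a * (v : G)⁻¹, hinv v v.2 a a.2⟩) fun a b => Subtype.ext (by
      show (v : G) * ((a : G) * b) * (v : G)⁻¹ = (v : G) * a * (v : G)⁻¹ * ((v : G) * b * (v : G)⁻¹)
      group)
  have hcjmul : ∀ v w : P, (cj v).comp (cj w) = cj (v * w) := fun v w =>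
    MonoidHom.ext fun a => Subtype.ext (by
      show (v : G) * ((w : G) * a * (w : G)⁻¹) * (v : G)⁻¹ =
        ((v : G) * w) * a * ((v : G) * w)⁻¹
      group)
  let k : (A →* ℂˣ) → ℕ := fun ψ => finrank ℂ (LinearMap.range (proj A ρ ψ))
  have hk : ∀ ψ, LinearMap.trace ℂ V (proj A ρ ψ) = (k ψ : ℂ) := trace_proj_nat hA
  have hkinv : ∀ (v : P) (ψ : A →* ℂˣ), k (ψ.comp (cj v)) = k ψ := by
    intro v ψ
    have h1 : LinearMap.trace ℂ V (proj A ρ (ψ.comp (cj v))) =
        LinearMap.trace ℂ V (proj A ρ ψ) := by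
      rw [trace_proj, trace_proj]
      congr 1
      have hbij : Function.Bijective (cj v) :=
        Finite.injective_iff_bijective.1 fun a b h => Subtype.ext (by
          exact mul_left_cancel (mul_right_cancel (congrArg Subtype.val h :
            (v : G) * a * (v : G)⁻¹ = (v : G) * b * (v : G)⁻¹)))
      refine Fintype.sum_equiv (Equiv.ofBijective _ hbij) _ _ fun a => ?_
      show ((ψ (cj v a⁻¹) : ℂˣ) : ℂ) * ρ.character (a : G) =
        ((ψ (cj v a)⁻¹ : ℂˣ) : ℂ) * ρ.character ((v : G) * a * (v : G)⁻¹)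
      rw [map_inv (cj v), Representation.char_conj]
    rw [hk, hk] at h1
    exact_mod_cast h1
  have hnofix : ∀ ψ : A →* ℂˣ, ψ ≠ 1 → ∃ v : P, ψ.comp (cj v) ≠ ψ := by
    intro ψ hψ
    by_contra hall
    push Not at hall
    refine hψ (MonoidHom.ext fun a => ?_)
    letI : CommGroup A := { (inferInstance : Group A) with mul_comm := hA }
    let N : A := ∏ v : P, cj v a
    have hN : (N : G) = (1 : G) := by
      refine hfix _ N.2 fun w hw => ?_
      have h1 : cj ⟨w, hw⟩ N = N := by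
        show cj ⟨w, hw⟩ (∏ v : P, cj v a) = ∏ v : P, cj v a
        rw [map_prod]
        refine Fintype.prod_equiv (Equiv.mulLeft ⟨w, hw⟩) _ _ fun v => ?_
        exact DFunLike.congr_fun (hcjmul ⟨w, hw⟩ v) a
      exact congrArg Subtype.val h1
    have h2 : ψ a ^ Nat.card P = 1 := by
      have h3 : ψ N = 1 := by rw [show N = 1 from Subtype.ext hN, map_one]
      rw [show ψ N = ∏ v : P, ψ a by
        show ψ (∏ v : P, cj v a) = _
        rw [map_prod]
        exact prod_congr rfl fun v _ => DFunLike.congr_fun (hall v) a, prod_const, card_univ,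
        ← Nat.card_eq_fintype_card] at h3
      exact h3
    have h4 : ψ a ^ Nat.card A = 1 := by rw [← map_pow, pow_card_eq_one', map_one]
    have hcop : Nat.Coprime (Nat.card P) (Nat.card A) := by
      refine Nat.coprime_of_dvd fun p hp hpP hpA => ?_
      have hp2 : p = 2 := by
        haveI : Fact p.Prime := ⟨hp⟩
        obtain ⟨x, hx⟩ := exists_prime_orderOf_dvd_card' (G := P) p hpP
        have := orderOf_dvd_of_pow_eq_one (x := x) (n := 2) (by rw [pow_two, hsq])
        exact (Nat.prime_dvd_prime_iff_eq hp Nat.prime_two).1 (hx ▸ this)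
      subst hp2
      exact (Nat.not_even_iff_odd.2 hodd) (even_iff_two_dvd.2 hpA)
    rw [MonoidHom.one_apply, ← orderOf_eq_one_iff]
    exact Nat.eq_one_of_dvd_coprimes hcop (orderOf_dvd_of_pow_eq_one h2)
      (orderOf_dvd_of_pow_eq_one h4)
  have heven : Even (∑ ψ ∈ univ.erase (1 : A →* ℂˣ), k ψ) := by
    refine even_sum (fun (v : P) (ψ : A →* ℂˣ) => ψ.comp (cj v)) (fun v ψ => ?_)
      (fun v w ψ => ?_) k (fun v ψ => hkinv v ψ) _ (fun v ψ hψ => ?_)
      fun ψ hψ => hnofix ψ (mem_erase.1 hψ).1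
    · rw [MonoidHom.comp_assoc, hcjmul, hsq]
      exact MonoidHom.ext fun a => congrArg ψ (Subtype.ext (by
        show ((1 : P) : G) * a * ((1 : P) : G)⁻¹ = a; simp))
    · rw [MonoidHom.comp_assoc, MonoidHom.comp_assoc, hcjmul, hcjmul, L.comm]
    · refine mem_erase.2 ⟨fun e => (mem_erase.1 hψ).1 ?_, mem_univ _⟩
      have h1 : (ψ.comp (cj v)).comp (cj v) = ψ := by
        rw [MonoidHom.comp_assoc, hcjmul, hsq]
        exact MonoidHom.ext fun a => congrArg ψ (Subtype.ext (by
          show ((1 : P) : G) * a * ((1 : P) : G)⁻¹ = a; simp))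
      rw [e] at h1
      exact h1.symm
  have hsum : ∑ ψ : A →* ℂˣ, k ψ = finrank ℂ V := by
    have h1 := congrArg (LinearMap.trace ℂ V) (sum_proj (ρ := ρ) hA)
    rw [map_sum, sum_congr rfl fun ψ _ => hk ψ, LinearMap.trace_one] at h1
    exact_mod_cast h1
  set e := proj A ρ (1 : A →* ℂˣ) with he
  have he0 : e ≠ 0 := by
    intro h0
    have h1 := hk 1
    rw [← he, h0, map_zero] at h1
    have h2 : k 1 = 0 := by exact_mod_cast h1.symm
    rw [← add_sum_erase univ k (mem_univ 1), h2, zero_add] at hsum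
    rw [hsum] at heven
    obtain ⟨i, hi⟩ := heven
    obtain ⟨j, hj⟩ := hPeven
    have := L.dim
    omega
  have hconj : ∀ n ∈ Subgroup.normalizer (A : Set G), ρ n * e = e * ρ n := by
    intro n hn
    rw [he, proj, mul_smul_comm, smul_mul_assoc, mul_sum, sum_mul]
    congr 1
    have hmem : ∀ a : A, n * (a : G) * n⁻¹ ∈ A := fun a =>
      (Subgroup.mem_normalizer_iff.1 hn _).1 a.2
    have hbij : Function.Bijective (fun a : A => (⟨_, hmem a⟩ : A)) :=
      Finite.injective_iff_bijective.1 fun a b h => Subtype.ext (by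
        exact mul_left_cancel (mul_right_cancel (congrArg Subtype.val h :
          n * (a : G) * n⁻¹ = n * (b : G) * n⁻¹)))
    refine Fintype.sum_equiv (Equiv.ofBijective _ hbij) _ _ fun a => ?_
    simp only [MonoidHom.one_apply, Units.val_one, one_smul, Equiv.ofBijective_apply]
    rw [← map_mul, ← map_mul]
    group
  have hcom : ∀ v : P, Commute e (ρ (v : G)) := fun v => (hconj _ (by
    rw [Subgroup.mem_normalizer_iff]
    intro a
    refine ⟨hinv v v.2 a, fun h => ?_⟩
    have := hinv _ (P.inv_mem v.2) _ h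
    simpa [mul_assoc] using this)).symm
  let T : P → ℂ := fun v => LinearMap.trace ℂ V (ρ (v : G) * e)
  obtain ⟨t, ht⟩ : ∃ t : ℂ, ∀ v : P, v ≠ 1 → T v = t := by
    by_cases hu : ∃ u : P, u ≠ 1
    · obtain ⟨u, hu1⟩ := hu
      refine ⟨T u, fun v hv => ?_⟩
      obtain ⟨n, hn, hnu⟩ := htr u u.2 (fun e' => hu1 (Subtype.ext e')) v v.2
        (fun e' => hv (Subtype.ext e'))
      show LinearMap.trace ℂ V (ρ (v : G) * e) = LinearMap.trace ℂ V (ρ (u : G) * e)
      have e1 : ρ (n * u * n⁻¹) * e = ρ n * (ρ (u : G) * e * ρ n⁻¹) := by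
        rw [map_mul, map_mul]
        simp only [mul_assoc]
        rw [hconj _ (inv_mem hn)]
      rw [← hnu, e1, LinearMap.trace_mul_comm, mul_assoc, ← map_mul, inv_mul_cancel, map_one,
        mul_one]
    · push Not at hu
      exact ⟨0, fun v hv => absurd (hu v) hv⟩
  obtain ⟨s, hs⟩ : ∃ s : ℂ, e = s • (1 : Module.End ℂ V) := by
    refine ⟨(Fintype.card P : ℂ)⁻¹ * ((k 1 : ℂ) - t), ?_⟩
    conv_lhs => rw [← mul_one e, ← sum_proj (ρ := ρ) L.comm, mul_sum]
    rw [← sum_proj (ρ := ρ) L.comm, smul_sum]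
    refine sum_congr rfl fun ψ _ => ?_
    by_cases hψ : ψ = 1
    · subst hψ; rw [L.proj_one, mul_zero, smul_zero]
    have hce : Commute e (proj P ρ ψ) := by
      refine Commute.smul_right (Commute.sum_right _ _ _ fun a _ => Commute.smul_right ?_ _) _
      exact hcom a
    obtain ⟨r, hr⟩ := L.exists_scalar ψ hce
    rw [hr]
    congr 1
    have h1 : LinearMap.trace ℂ V (e * proj P ρ ψ) = r := by
      rw [hr, map_smul, L.trace_eq, if_neg hψ, smul_eq_mul, mul_one]
    rw [← h1, proj, mul_smul_comm, mul_sum, map_smul, map_sum, smul_eq_mul]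
    congr 1
    have h2 : ∀ a : P, LinearMap.trace ℂ V (e * (((ψ a⁻¹ : ℂˣ) : ℂ) • ρ (a : G))) =
        (if a = 1 then (k 1 : ℂ) - t else 0) + t * (((ψ⁻¹) a : ℂˣ) : ℂ) := by
      intro a
      rw [mul_smul_comm, map_smul, (hcom a).eq, smul_eq_mul, map_inv, MonoidHom.inv_apply]
      by_cases ha : a = 1
      · subst ha
        rw [if_pos rfl, OneMemClass.coe_one, map_one ρ, one_mul, he, hk]
        simp
      · rw [if_neg ha, show LinearMap.trace ℂ V (ρ (a : G) * e) = t from ht a ha]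
        ring
    rw [sum_congr rfl fun a _ => h2 a, sum_add_distrib, ← mul_sum, sum_char,
      if_neg (mt hom_inv_eq_one.1 hψ), mul_zero, add_zero,
      sum_ite_eq' univ (1 : P),
      if_pos (mem_univ _)]
  have hs1 : s = 1 := by
    have h1 := (proj_idem (ρ := ρ) hA 1).eq
    rw [← he, hs, smul_mul_smul_comm, one_mul] at h1
    have hs0 : s ≠ 0 := fun h0 => he0 (by rw [hs, h0, zero_smul])
    have hV : (1 : Module.End ℂ V) ≠ 0 := fun h0 => he0 (by rw [hs, h0, smul_zero])
    have h2 : s * s = s := smul_left_injective ℂ hV h1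
    exact (mul_eq_left₀ hs0).1 h2
  refine (Subgroup.eq_bot_iff_forall _).2 fun a ha => L.faithful a ?_
  have h1 := apply_mul_proj (ρ := ρ) hA (1 : A →* ℂˣ) ⟨a, ha⟩
  rw [← he, hs, hs1, one_smul, mul_one, MonoidHom.one_apply, Units.val_one, one_smul] at h1
  exact h1

end CfsgLib.AbTwoOne
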