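import Cfsg.Agent.BlocksB.RankOneInvolution.Orbit

/-!
# Small index: the centralizers of involutions are abelian

When `W` is abelian with `q` orbits of prime length `c` and `P` moves it, a product of two eigen
elements fixes more than half of the `1 + q c` points.  Two of its conjugates then fix a common
point, lie in the `W` belonging to it, and commute; so they generate an odd normal subgroup.
-/

set_option autoImplicit false
set_option linter.style.haveILetI false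
set_option linter.unusedSectionVars false

namespace CfsgLib.AbTwoOne

open Cfsg Subgroup MulAction

universe u

variable {G : Type u} [Group G] [Finite G] {P : Subgroup G}

local notation "C{" x "}" => Subgroup.centralizer ({x} : Set G)
local notation "N(" V ")" => Subgroup.normalizer (SetLike.coe V)

/-- Distinct elements of `P` send a point to distinct orbits of `W`. -/
theorem Free.orbit_inj (h : Free P) {g : G} (hg : g ∉ bigM P) {w w' p p' : G} (hw : w ∈ W P)
    (hw' : w' ∈ W P) (hp : p ∈ P) (hp' : p' ∈ P)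
    (he : w • p • (g : G ⧸ bigM P) = w' • p' • (g : G ⧸ bigM P)) : p = p' := by
  haveI : Fact (Nat.Prime 2) := ⟨Nat.prime_two⟩
  by_contra hne
  set a : G ⧸ bigM P := (g : G ⧸ bigM P) with ha
  have hu : p'⁻¹ * p ∈ P := mul_mem (inv_mem hp') hp
  have hu1 : p'⁻¹ * p ≠ 1 := fun e => hne (inv_mul_eq_one.1 e).symm
  set u := p'⁻¹ * p with hudef
  have hua : u • a = (p'⁻¹ * (w⁻¹ * w') * p') • a := by
    calc u • a = p'⁻¹ • w⁻¹ • (w • p • a) := by
          rw [hudef, smul_smul, smul_smul, smul_smul]; group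
      _ = p'⁻¹ • w⁻¹ • (w' • p' • a) := by rw [he]
      _ = _ := by rw [smul_smul, smul_smul, smul_smul]; group
  have hmem : p'⁻¹ * (w⁻¹ * w') * p' ∈ W P := by
    simpa using h.conj_P_W (inv_mem hp') (mul_mem (inv_mem hw) hw')
  have hinv : ∀ y : orbit (W P) a, u • (y : G ⧸ bigM P) ∈ orbit (W P) a := by
    rintro ⟨_, ⟨x, rfl⟩⟩
    refine ⟨⟨u * x * u⁻¹, h.conj_P_W hu x.2⟩ * ⟨_, hmem⟩, ?_⟩
    show (u * x * u⁻¹ * (p'⁻¹ * (w⁻¹ * w') * p')) • a = u • (x : G) • a
    rw [mul_smul, ← hua, smul_smul, smul_smul]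
    group
  let σ : Equiv.Perm (orbit (W P) a) :=
    Function.Involutive.toPerm (fun y => ⟨u • (y : G ⧸ bigM P), hinv y⟩)
      fun y => Subtype.ext (show u • u • (y : G ⧸ bigM P) = y by
        rw [smul_smul, h.sq u hu, one_smul])
  haveI := Fintype.ofFinite (orbit (W P) a)
  have hodd : ¬ 2 ∣ Fintype.card (orbit (W P) a) := by
    intro hd
    rw [← Nat.card_eq_fintype_card, Nat.card_coe_set_eq, ← index_stabilizer] at hd
    exact h.not_dvd_card_W (hd.trans (Subgroup.index_dvd_card _))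
  obtain ⟨⟨_, ⟨x, rfl⟩⟩, hy⟩ := Equiv.Perm.exists_fixed_point_of_prime (p := 2) (n := 1) hodd
    (σ := σ) (Equiv.ext fun y => by
      rw [pow_one, pow_two]; exact Subtype.ext (show u • u • (y : G ⧸ bigM P) = y by
        rw [smul_smul, h.sq u hu, one_smul]))
  have hy' : u • (x : G) • a = (x : G) • a := congrArg Subtype.val hy
  have h1 : ((x : G) * g)⁻¹ * u * ((x : G) * g) ∈ bigM P := by
    have h3 : ((u * ((x : G) * g) : G) : G ⧸ bigM P) = (((x : G) * g : G) : G ⧸ bigM P) := hy'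
    have := QuotientGroup.eq.1 h3.symm
    simpa [mul_assoc] using this
  have h2 := h.mem_of_conj (g := ((x : G) * g)⁻¹) (h.P_le_bigM hu) (h.orderOf_eq hu hu1)
    (by simpa using h1)
  rw [inv_mem_iff] at h2
  exact hg (by simpa using mul_mem (inv_mem (h.W_le_bigM x.2)) h2)

/-- An element of `M` fixing points in two of these orbits lies in `W`. -/
theorem Free.mem_W_of_fix (h : Free P) {g : G} (hg : g ∉ bigM P) {y : G} (hy : y ∈ bigM P)
    {w₁ w₂ p₁ p₂ : G} (hw₁ : w₁ ∈ W P) (hw₂ : w₂ ∈ W P) (hp₁ : p₁ ∈ P) (hp₂ : p₂ ∈ P)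
    (hne : p₁ ≠ p₂)
    (h1 : y • w₁ • p₁ • (g : G ⧸ bigM P) = w₁ • p₁ • (g : G ⧸ bigM P))
    (h2 : y • w₂ • p₂ • (g : G ⧸ bigM P) = w₂ • p₂ • (g : G ⧸ bigM P)) : y ∈ W P := by
  set a : G ⧸ bigM P := (g : G ⧸ bigM P) with ha
  obtain ⟨w, hw, n, hn, rfl⟩ := h.mem_bigM_iff.1 hy
  set u := p₂ * p₁⁻¹ with hudef
  have hu : u ∈ P := mul_mem hp₂ (inv_mem hp₁)
  have hu1 : u ≠ 1 := fun e => hne (mul_inv_eq_one.1 e).symm
  have hu' : n * u * n⁻¹ ∈ P := (mem_normalizer_iff.1 hn u).1 hu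
  have hW : ∀ z ∈ W P, (w * n) * z * (w * n)⁻¹ ∈ W P := fun z hz =>
    (mem_normalizer_iff.1 (h.bigM_le_normalizer hy) z).1 hz
  -- both sides describe the image of the first point under `y u y⁻¹`
  set u' := n * u * n⁻¹ with hu'def
  have hA : ((w * n) * u * (w * n)⁻¹) • w₁ • p₁ • a =
      (w * (u' * w⁻¹ * u'⁻¹) * (u' * w₁ * u'⁻¹)) • (u' * p₁) • a := by
    rw [smul_smul, smul_smul, smul_smul, hu'def]; group
  have hB : ((w * n) * u * (w * n)⁻¹) • w₁ • p₁ • a =
      ((w * n) * (u * w₁ * u⁻¹ * w₂⁻¹) * (w * n)⁻¹ * w₂) • p₂ • a := by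
    have e1 : (w * n)⁻¹ • w₁ • p₁ • a = w₁ • p₁ • a := inv_smul_eq_iff.2 h1.symm
    have e2 : (w * n)⁻¹ • w₂ • p₂ • a = w₂ • p₂ • a := inv_smul_eq_iff.2 h2.symm
    have e3 : u • w₁ • p₁ • a = (u * w₁ * u⁻¹ * w₂⁻¹) • w₂ • p₂ • a := by
      rw [smul_smul, smul_smul, smul_smul, smul_smul, hudef]; group
    calc _ = (w * n) • u • ((w * n)⁻¹ • w₁ • p₁ • a) := by rw [mul_smul, mul_smul]
      _ = (w * n) • (u * w₁ * u⁻¹ * w₂⁻¹) • w₂ • p₂ • a := by rw [e1, e3]
      _ = (w * n) • (u * w₁ * u⁻¹ * w₂⁻¹) • (w * n)⁻¹ • w₂ • p₂ • a := by rw [e2]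
      _ = _ := by simp only [smul_smul]; group
  have hWA : w * (u' * w⁻¹ * u'⁻¹) * (u' * w₁ * u'⁻¹) ∈ W P :=
    mul_mem (mul_mem hw (h.conj_P_W hu' (inv_mem hw))) (h.conj_P_W hu' hw₁)
  have hWB : (w * n) * (u * w₁ * u⁻¹ * w₂⁻¹) * (w * n)⁻¹ * w₂ ∈ W P :=
    mul_mem (hW _ (mul_mem (h.conj_P_W hu hw₁) (inv_mem hw₂))) hw₂
  have heq : u' * p₁ = p₂ := h.orbit_inj hg hWA hWB (mul_mem hu' hp₁) hp₂ (hA.symm.trans hB)
  have huu : n * u * n⁻¹ = u := by
    rw [← hu'def, hudef, ← heq]; group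
  have hnc : n ∈ C{u} := mem_centralizer_singleton_iff.2 (mul_inv_eq_iff_eq_mul.1 huu)
  obtain ⟨k, hk, p, hp, rfl⟩ := (h.exists_complement hu hu1).2 n hnc
  have hkW := h.K_le_W hu hu1 hk
  have h3 : (w * k * (p * w₁ * p⁻¹)) • (p * p₁) • a = w₁ • p₁ • a := by
    rw [← h1]; simp only [smul_smul]; group
  have h4 : p * p₁ = p₁ := h.orbit_inj hg (mul_mem (mul_mem hw hkW) (h.conj_P_W hp hw₁)) hw₁
    (mul_mem hp hp₁) hp₁ h3
  rw [mul_eq_right.1 h4, mul_one]
  exact mul_mem hw hkW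

/-- With `q` orbits of prime length and `W` abelian, `P` centralises `W`. -/
theorem Free.centralises (h : Free P) (htr : Trans P) (hM : bigM P ≠ ⊤) {g : G}
    (hg : g ∉ bigM P) (hcomm : ∀ a ∈ W P, ∀ b ∈ W P, a * b = b * a)
    (hcp : (orbit (W P) (g : G ⧸ bigM P)).ncard.Prime)
    (hN : (bigM P).index = 1 + Nat.card P * (orbit (W P) (g : G ⧸ bigM P)).ncard) :
    ∀ w ∈ W P, ∀ v ∈ P, v * w * v⁻¹ = w := by
  classical
  haveI : Fact (Nat.Prime 2) := ⟨Nat.prime_two⟩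
  letI : CommGroup (W P) :=
    { (inferInstance : Group (W P)) with mul_comm := fun a b => Subtype.ext (hcomm a a.2 b b.2) }
  intro w hw v hv
  by_contra hne
  set a : G ⧸ bigM P := (g : G ⧸ bigM P) with ha
  set c := (orbit (W P) a).ncard with hc
  let φ : P → W P →* W P := fun p =>
    MonoidHom.mk' (fun x => ⟨p.1 * x * (p.1)⁻¹, h.conj_P_W p.2 x.2⟩) fun x y => Subtype.ext (by
      show p.1 * ((x : G) * y) * (p.1)⁻¹ = p.1 * x * (p.1)⁻¹ * (p.1 * y * (p.1)⁻¹)
      group)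
  have hsq : ∀ p x, φ p (φ p x) = x := fun p x => Subtype.ext (by
    show p.1 * (p.1 * x * (p.1)⁻¹) * (p.1)⁻¹ = x
    rw [h.inv_eq p.2, ← mul_assoc, ← mul_assoc, h.sq _ p.2, one_mul, mul_assoc, h.sq _ p.2,
      mul_one])
  have hcm : ∀ p p' x, φ p (φ p' x) = φ p' (φ p x) := fun p p' x => Subtype.ext (by
    show p.1 * (p'.1 * x * (p'.1)⁻¹) * (p.1)⁻¹ = p'.1 * (p.1 * x * (p.1)⁻¹) * (p'.1)⁻¹
    rw [h.inv_eq p.2, h.inv_eq p'.2]
    calc p.1 * (p'.1 * x * p'.1) * p.1 = (p.1 * p'.1) * x * (p'.1 * p.1) := by group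
      _ = (p'.1 * p.1) * x * (p.1 * p'.1) := by rw [h.comm p.2 p'.2]
      _ = _ := by group)
  obtain ⟨x, hxv, hxe⟩ := exists_eigen h.not_dvd_card_W φ hsq hcm (i₀ := (⟨v, hv⟩ : P))
    ⟨⟨w, hw⟩, fun e => hne (congrArg Subtype.val e)⟩
  -- the eigen element as an element of `G`
  have hodd2 : ∀ z : W P, (z : W P) = z⁻¹ → z = 1 := by
    intro z hz
    have h1 : orderOf z ∣ 2 := orderOf_dvd_of_pow_eq_one (by
      rw [pow_two]; nth_rewrite 2 [hz]; exact mul_inv_cancel z)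
    refine orderOf_eq_one_iff.1 (Nat.eq_one_of_dvd_coprimes ?_ (orderOf_dvd_natCard z) h1)
    exact ((Nat.prime_two.coprime_iff_not_dvd).2 h.not_dvd_card_W).symm
  have hxinv : φ ⟨v, hv⟩ x = x⁻¹ := (hxe _).resolve_left hxv
  have hx1 : x ≠ 1 := fun e => hxv (by rw [e, map_one])
  obtain ⟨v₁, hv₁, hv₁fix⟩ : ∃ p : P, p ≠ 1 ∧ φ p x = x := by
    obtain ⟨p, hp, hpv⟩ : ∃ p : P, p ≠ 1 ∧ p ≠ ⟨v, hv⟩ := by
      by_contra hall
      push Not at hall
      haveI := Fintype.ofFinite P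
      have h2 : Fintype.card P ≤ 2 := by
        rw [← Finset.card_univ]
        refine (Finset.card_le_card (t := {1, ⟨v, hv⟩}) fun p _ => ?_).trans Finset.card_le_two
        by_cases hp : p = 1
        · simp [hp]
        · simp [hall p hp]
      rw [← Nat.card_eq_fintype_card] at h2
      rcases h.card with e | e <;> omega
    rcases hxe p with e | e
    · exact ⟨p, hp, e⟩
    refine ⟨p * ⟨v, hv⟩, fun e' => hpv ?_, Subtype.ext ?_⟩
    · rw [mul_eq_one_iff_eq_inv] at e'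
      rw [e']; exact Subtype.ext (h.inv_eq hv)
    · have e1 : p.1 * (x : G) * (p.1)⁻¹ = (x : G)⁻¹ := congrArg Subtype.val e
      have e2 : v * (x : G) * v⁻¹ = (x : G)⁻¹ := congrArg Subtype.val hxinv
      show p.1 * v * (x : G) * (p.1 * v)⁻¹ = (x : G)
      calc p.1 * v * (x : G) * (p.1 * v)⁻¹ = p.1 * (v * (x : G) * v⁻¹) * (p.1)⁻¹ := by group
        _ = p.1 * (x : G)⁻¹ * (p.1)⁻¹ := by rw [e2]
        _ = (p.1 * (x : G) * (p.1)⁻¹)⁻¹ := by group
        _ = _ := by rw [e1, inv_inv]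
  -- a second eigen element, with another kernel
  obtain ⟨n, hn, hnv⟩ := htr v₁.1 v₁.2 (fun e => hv₁ (Subtype.ext e)) v hv
    (fun e => hxv (Subtype.ext (by show v * (x : G) * v⁻¹ = x; rw [e]; simp)))
  let x₂ : W P := ⟨n * x * n⁻¹, h.conj_W hn x.2⟩
  have hx₂e : ∀ p : P, φ p x₂ = x₂ ∨ φ p x₂ = x₂⁻¹ := by
    intro p
    let q : P := ⟨n⁻¹ * p.1 * n, by simpa using (mem_normalizer_iff.1 (inv_mem hn) p.1).1 p.2⟩
    have hq : p.1 * (n * x * n⁻¹) * (p.1)⁻¹ = n * (q.1 * x * (q.1)⁻¹) * n⁻¹ := by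
      show _ = n * (n⁻¹ * p.1 * n * x * (n⁻¹ * p.1 * n)⁻¹) * n⁻¹
      group
    rcases hxe q with e | e
    · left
      have e1 : q.1 * (x : G) * (q.1)⁻¹ = (x : G) := congrArg Subtype.val e
      exact Subtype.ext (show p.1 * (n * x * n⁻¹) * (p.1)⁻¹ = n * x * n⁻¹ by rw [hq, e1])
    · right
      have e1 : q.1 * (x : G) * (q.1)⁻¹ = (x : G)⁻¹ := congrArg Subtype.val e
      exact Subtype.ext (show p.1 * (n * x * n⁻¹) * (p.1)⁻¹ = (n * x * n⁻¹)⁻¹ by
        rw [hq, e1]; group)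
  have hx₂v : φ ⟨v, hv⟩ x₂ = x₂ := Subtype.ext (by
    show v * (n * x * n⁻¹) * v⁻¹ = n * x * n⁻¹
    have e1 : v₁.1 * (x : G) * (v₁.1)⁻¹ = (x : G) := congrArg Subtype.val hv₁fix
    calc v * (n * x * n⁻¹) * v⁻¹ = n * (v₁.1 * x * (v₁.1)⁻¹) * n⁻¹ := by rw [← hnv]; group
      _ = _ := by rw [e1])
  have hx₂1 : x₂ ≠ 1 := fun e => hx1 (Subtype.ext (by
    have : n * (x : G) * n⁻¹ = 1 := congrArg Subtype.val e
    simpa using this))
  set D := stabilizer (W P) a with hD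
  have hDfix : ∀ d ∈ D, ∀ w' : W P, d • w' • a = w' • a := fun d hd w' => by
    rw [smul_smul, mul_comm, mul_smul, hd]
  -- membership in `D` of the conjugates gives fixed orbits
  have hfix : ∀ (z : W P) (p : P), φ p z ∈ D → ∀ w' : W P,
      (z : G) • (w' : G) • p.1 • a = (w' : G) • p.1 • a := by
    intro z p hz w'
    have e1 : (p.1 * (z : G) * (p.1)⁻¹) • (p.1 * (w' : G) * (p.1)⁻¹) • a =
        (p.1 * (w' : G) * (p.1)⁻¹) • a := hDfix _ hz ⟨_, h.conj_P_W p.2 w'.2⟩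
    have e2 : (z : G) • (w' : G) • p.1 • a =
        p.1⁻¹ • (p.1 * (z : G) * (p.1)⁻¹) • (p.1 * (w' : G) * (p.1)⁻¹) • a := by
      simp only [smul_smul]; rw [h.inv_eq p.2]
      calc ((z : G) * ((w' : G) * p.1)) • a
          = (p.1 * p.1 * (z : G) * (p.1 * p.1) * (w' : G) * p.1) • a := by
            rw [h.sq _ p.2]; group
        _ = _ := by group
    rw [e2, e1]
    simp only [smul_smul]
    rw [h.inv_eq p.2]
    calc (p.1 * (p.1 * (w' : G) * p.1)) • a = (p.1 * p.1 * (w' : G) * p.1) • a := by group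
      _ = _ := by rw [h.sq _ p.2, one_mul]
  -- all nonbase points
  have hcover : ∀ y : G ⧸ bigM P, y ≠ ((1 : G) : G ⧸ bigM P) →
      ∃ (w' : W P) (p : P), (w' : G) • p.1 • a = y := by
    let F : orbit (W P) a × P → {y : G ⧸ bigM P // y ≠ ((1 : G) : G ⧸ bigM P)} := fun yp =>
      ⟨yp.2.1 • (yp.1 : G ⧸ bigM P), by
        obtain ⟨⟨_, ⟨w', rfl⟩⟩, p⟩ := yp
        intro e
        have h1 : ((p.1 * ((w' : G) * g) : G) : G ⧸ bigM P) = ((1 : G) : G ⧸ bigM P) := e
        have h2 := QuotientGroup.eq.1 h1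
        rw [mul_one, inv_mem_iff] at h2
        refine hg ?_
        have h3 := mul_mem (inv_mem (h.W_le_bigM w'.2)) (mul_mem (inv_mem (h.P_le_bigM p.2)) h2)
        simpa [mul_assoc] using h3⟩
    have hFinj : Function.Injective F := by
      rintro ⟨⟨_, ⟨w', rfl⟩⟩, p⟩ ⟨⟨_, ⟨w'', rfl⟩⟩, p'⟩ he
      have he' : p.1 • (w' : G) • a = p'.1 • (w'' : G) • a := congrArg Subtype.val he
      have h1 : (p.1 * (w' : G) * (p.1)⁻¹) • p.1 • a =
          (p'.1 * (w'' : G) * (p'.1)⁻¹) • p'.1 • a := by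
        simpa [smul_smul] using he'
      obtain rfl : p = p' := Subtype.ext
        (h.orbit_inj hg (h.conj_P_W p.2 w'.2) (h.conj_P_W p'.2 w''.2) p.2 p'.2 h1)
      exact Prod.ext (Subtype.ext (MulAction.injective p.1 he')) rfl
    have hcard : Nat.card (orbit (W P) a × P) =
        Nat.card {y : G ⧸ bigM P // y ≠ ((1 : G) : G ⧸ bigM P)} := by
      haveI := Fintype.ofFinite (G ⧸ bigM P)
      rw [Nat.card_prod, Nat.card_coe_set_eq, ← hc, Nat.card_eq_fintype_card
        (α := {y : G ⧸ bigM P // y ≠ ((1 : G) : G ⧸ bigM P)}), Fintype.card_subtype_compl,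
        Fintype.card_subtype_eq, ← Nat.card_eq_fintype_card, ← Subgroup.index_eq_card, hN,
        mul_comm]
      omega
    haveI := Fintype.ofFinite (orbit (W P) a × P)
    haveI := Fintype.ofFinite {y : G ⧸ bigM P // y ≠ ((1 : G) : G ⧸ bigM P)}
    have hbij := (Fintype.bijective_iff_injective_and_card F).2
      ⟨hFinj, by rw [← Nat.card_eq_fintype_card, ← Nat.card_eq_fintype_card, hcard]⟩
    intro y hy
    obtain ⟨⟨⟨_, ⟨w', rfl⟩⟩, p⟩, he⟩ := hbij.2 ⟨y, hy⟩
    refine ⟨⟨p.1 * (w' : G) * (p.1)⁻¹, h.conj_P_W p.2 w'.2⟩, p, ?_⟩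
    have he' : p.1 • (w' : G) • a = y := congrArg Subtype.val he
    rw [← he']
    simp [smul_smul]
  have hbase : ∀ z : W P, (z : G) • ((1 : G) : G ⧸ bigM P) = ((1 : G) : G ⧸ bigM P) := fun z =>
    smul_base (h.W_le_bigM z.2)
  have hnotD : ∀ z : W P, z ≠ 1 → (∀ p, φ p z = z ∨ φ p z = z⁻¹) → z ∉ D := by
    intro z hz1 hze hzD
    refine hz1 (Subtype.ext (h.eq_one_of_fix hM fun y => ?_))
    rcases eq_or_ne y ((1 : G) : G ⧸ bigM P) with rfl | hy
    · exact hbase z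
    obtain ⟨w', p, rfl⟩ := hcover y hy
    refine hfix z p ?_ w'
    rcases hze p with e | e <;> rw [e]
    · exact hzD
    · exact D.inv_mem hzD
  -- combine the two eigen elements
  obtain ⟨k, hk⟩ : ∃ k : ℤ, x * x₂ ^ k ∈ D := by
    have hidx : D.index = c := index_stabilizer (W P) a
    have h1 : (D ⊔ Subgroup.zpowers x₂).index ∣ c := hidx ▸ Subgroup.index_dvd_of_le le_sup_left
    rcases (Nat.dvd_prime hcp).1 h1 with e | e
    · rw [Subgroup.index_eq_one] at e
      obtain ⟨d, hd, z, hz, he⟩ := Subgroup.mem_sup.1 (e ▸ Subgroup.mem_top x⁻¹)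
      obtain ⟨k, rfl⟩ := Subgroup.mem_zpowers_iff.1 hz
      refine ⟨k, ?_⟩
      have : x * x₂ ^ k = d⁻¹ := by
        rw [eq_inv_iff_mul_eq_one, mul_assoc, mul_comm (x₂ ^ k) d, he, mul_inv_cancel]
      rw [this]
      exact D.inv_mem hd
    · exfalso
      refine hnotD x₂ hx₂1 hx₂e ?_
      have hle : D ≤ D ⊔ Subgroup.zpowers x₂ := le_sup_left
      have heq : D = D ⊔ Subgroup.zpowers x₂ := by
        refine hle.eq_or_lt.resolve_right fun hlt => ?_
        have := Subgroup.index_strictAnti hlt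
        omega
      rw [heq]
      exact Subgroup.mem_sup_right (Subgroup.mem_zpowers x₂)
  set z := x * x₂ ^ k with hz
  have hzv : φ ⟨v, hv⟩ z = x⁻¹ * x₂ ^ k := by rw [hz, map_mul, map_zpow, hxinv, hx₂v]
  have hz1 : z ≠ 1 := by
    intro e
    rw [e, map_one] at hzv
    refine hx1 (hodd2 x ?_)
    exact mul_right_cancel (b := x₂ ^ k) (by rw [← hz, e, hzv])
  -- the agreeing elements of `P`
  let H : Set P := {p | φ p x = x ↔ φ p x₂ = x₂}
  have hzH : ∀ p ∈ H, φ p z ∈ D := by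
    intro p hp
    rw [hz, map_mul, map_zpow]
    by_cases e : φ p x = x
    · rw [e, hp.1 e]; exact hk
    · have e2 : φ p x₂ ≠ x₂ := fun h' => e (hp.2 h')
      rw [(hxe p).resolve_left e, (hx₂e p).resolve_left e2, inv_zpow, ← mul_inv]
      exact D.inv_mem hk
  have hHhalf : 2 * Hᶜ.ncard ≤ Nat.card P := by
    have hflip : ∀ (p p' : P) (y : W P), (φ p y = y ∨ φ p y = y⁻¹) →
        (φ p' y = y ∨ φ p' y = y⁻¹) → y ≠ 1 →
        (φ (p * p') y = y ↔ (φ p y = y ↔ φ p' y = y)) := by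
      intro p p' y hp hp' hy1
      have hmul : φ (p * p') y = φ p (φ p' y) := Subtype.ext (by
        show p.1 * p'.1 * (y : G) * (p.1 * p'.1)⁻¹ =
          p.1 * (p'.1 * (y : G) * (p'.1)⁻¹) * (p.1)⁻¹
        group)
      have hy2 : y⁻¹ ≠ y := fun e => hy1 (hodd2 y e.symm)
      rw [hmul]
      rcases hp' with e' | e' <;> rcases hp with e | e <;>
        simp [e', e, map_inv, hy2]
    rcases Hᶜ.eq_empty_or_nonempty with he | ⟨p₀, hp₀⟩
    · rw [he, Set.ncard_empty]; omega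
    have hle : Hᶜ.ncard ≤ H.ncard := by
      refine Set.ncard_le_ncard_of_injOn (fun p => p * p₀) (fun p hp => ?_)
        (fun p _ p' _ he => mul_right_cancel he) (Set.toFinite _)
      simp only [H, Set.mem_compl_iff, Set.mem_setOf_eq] at hp hp₀ ⊢
      rw [hflip p p₀ x (hxe p) (hxe p₀) hx1, hflip p p₀ x₂ (hx₂e p) (hx₂e p₀) hx₂1]
      tauto
    have := Set.ncard_add_ncard_compl H
    omega
  -- the moved points
  let S : Set (G ⧸ bigM P) := {y | (z : G) • y ≠ y}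
  have hS : 2 * S.ncard ≤ Nat.card P * c := by
    have hsub : S ⊆ (fun yp : (G ⧸ bigM P) × P => yp.2.1 • yp.1) '' (orbit (W P) a ×ˢ Hᶜ) := by
      intro y hy
      have hyb : y ≠ ((1 : G) : G ⧸ bigM P) := fun e => hy (by rw [e]; exact hbase z)
      obtain ⟨w', p, rfl⟩ := hcover y hyb
      let w₀ : W P := ⟨p.1⁻¹ * (w' : G) * p.1, by
        simpa using h.conj_P_W (inv_mem p.2) w'.2⟩
      refine ⟨((w₀ : G) • a, p), ⟨MulAction.mem_orbit a w₀, fun hp => ?_⟩, ?_⟩
      · exact hy (hfix z p (hzH p hp) w')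
      · simp [w₀, smul_smul, mul_assoc]
    have := (Set.ncard_le_ncard hsub).trans (Set.ncard_image_le (Set.toFinite _))
    rw [Set.ncard_prod, ← hc] at this
    calc 2 * S.ncard ≤ c * (2 * Hᶜ.ncard) := by rw [mul_left_comm]; omega
      _ ≤ c * Nat.card P := Nat.mul_le_mul_left c hHhalf
      _ = _ := mul_comm _ _
  have hΩ : Nat.card (G ⧸ bigM P) = 1 + Nat.card P * c := by
    rw [← Subgroup.index_eq_card]; exact hN
  have hc0 : 0 < c := hcp.pos
  have hq8 : 8 ≤ Nat.card P := by rcases h.card with e | e <;> omega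
  -- conjugates fixing a common point lie in `W` and commute
  have hmoved : ∀ e : G, {y : G ⧸ bigM P | (e * z * e⁻¹) • y ≠ y}.ncard = S.ncard := by
    intro e
    rw [← Set.ncard_image_of_injective S (MulAction.injective e)]
    congr 1
    ext y
    constructor
    · intro hy
      refine ⟨e⁻¹ • y, fun h' => hy ?_, smul_inv_smul e y⟩
      rw [mul_smul, mul_smul, h', smul_inv_smul]
    · rintro ⟨y', hy', rfl⟩ h'
      refine hy' (MulAction.injective e ?_)
      simpa [mul_smul] using h'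
  have hinW : ∀ e f : G, (e * z * e⁻¹) • (f : G ⧸ bigM P) = (f : G ⧸ bigM P) →
      f⁻¹ * (e * z * e⁻¹) * f ∈ W P := by
    intro e f hef
    set y := f⁻¹ * (e * z * e⁻¹) * f with hy
    have hyM : y ∈ bigM P := by
      have := QuotientGroup.eq.1
        (show (((e * z * e⁻¹) * f : G) : G ⧸ bigM P) = (f : G ⧸ bigM P) from hef).symm
      rw [hy]
      simpa [mul_assoc] using this
    by_contra hnot
    have hone : ∀ y' : G ⧸ bigM P, ∀ y'' : G ⧸ bigM P, y • y' = y' → y • y'' = y'' →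
        ∀ (w' w'' : W P) (p p' : P), (w' : G) • p.1 • a = y' → (w'' : G) • p'.1 • a = y'' →
          p = p' := by
      intro y' y'' h1 h2 w' w'' p p' e1 e2
      by_contra hpp
      exact hnot (h.mem_W_of_fix hg hyM w'.2 w''.2 p.2 p'.2 (fun e3 => hpp (Subtype.ext e3))
        (by rw [e1]; exact h1) (by rw [e2]; exact h2))
    set Fy := {y' : G ⧸ bigM P | y • y' = y'} with hFy
    have hcompl : Fy.ncard + {y' : G ⧸ bigM P | y • y' ≠ y'}.ncard = Nat.card (G ⧸ bigM P) :=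
      Set.ncard_add_ncard_compl Fy
    have hmv : {y' : G ⧸ bigM P | y • y' ≠ y'}.ncard = S.ncard := by
      rw [← hmoved (f⁻¹ * e)]
      congr 2
      funext y'
      rw [hy, show f⁻¹ * (e * z * e⁻¹) * f = f⁻¹ * e * z * (f⁻¹ * e)⁻¹ by group]
    have hsmall : Fy.ncard ≤ 1 + c := by
      rcases (Fy \ {((1 : G) : G ⧸ bigM P)}).eq_empty_or_nonempty with he | ⟨y', hy', hy'b⟩
      · have := Set.le_ncard_diff {((1 : G) : G ⧸ bigM P)} Fy
        rw [he, Set.ncard_empty, Set.ncard_singleton] at this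
        omega
      obtain ⟨w', p, e1⟩ := hcover y' (by simpa using hy'b)
      have hsub : Fy ⊆ {((1 : G) : G ⧸ bigM P)} ∪ (fun y'' => p.1 • y'') '' orbit (W P) a := by
        intro y'' hy''
        rcases eq_or_ne y'' ((1 : G) : G ⧸ bigM P) with rfl | hb'
        · exact Or.inl rfl
        obtain ⟨w'', p', e2⟩ := hcover y'' hb'
        obtain rfl := hone y' y'' hy' hy'' w' w'' p p' e1 e2
        let w₀ : W P := ⟨p.1⁻¹ * (w'' : G) * p.1, by
          simpa using h.conj_P_W (inv_mem p.2) w''.2⟩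
        refine Or.inr ⟨(w₀ : G) • a, MulAction.mem_orbit a w₀, ?_⟩
        rw [← e2]
        simp [w₀, smul_smul, mul_assoc]
      refine (Set.ncard_le_ncard hsub).trans ((Set.ncard_union_le _ _).trans ?_)
      rw [Set.ncard_singleton]
      exact Nat.add_le_add_left (Set.ncard_image_le (Set.toFinite _)) _
    have hq4 : 8 * c ≤ Nat.card P * c := Nat.mul_le_mul_right c hq8
    omega
  have hconj : ∀ e e' : G, Commute (e * z * e⁻¹) (e' * z * e'⁻¹) := by
    intro e e'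
    obtain ⟨d, hd⟩ : ∃ d : G ⧸ bigM P, d ∉ {y : G ⧸ bigM P | (e * z * e⁻¹) • y ≠ y} ∪
        {y : G ⧸ bigM P | (e' * z * e'⁻¹) • y ≠ y} := by
      by_contra hall
      push Not at hall
      have h1 := Set.ncard_union_le {y : G ⧸ bigM P | (e * z * e⁻¹) • y ≠ y}
        {y : G ⧸ bigM P | (e' * z * e'⁻¹) • y ≠ y}
      rw [Set.eq_univ_of_forall hall, Set.ncard_univ, hΩ, hmoved, hmoved] at h1
      omega
    simp only [Set.mem_union, Set.mem_setOf_eq, not_or, not_not] at hd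
    obtain ⟨f, rfl⟩ := QuotientGroup.mk_surjective d
    have h1 := hcomm _ (hinW e f hd.1) _ (hinW e' f hd.2)
    show e * z * e⁻¹ * (e' * z * e'⁻¹) = e' * z * e'⁻¹ * (e * z * e⁻¹)
    calc _ = f * (f⁻¹ * (e * z * e⁻¹) * f * (f⁻¹ * (e' * z * e'⁻¹) * f)) * f⁻¹ := by group
      _ = f * (f⁻¹ * (e' * z * e'⁻¹) * f * (f⁻¹ * (e * z * e⁻¹) * f)) * f⁻¹ := by rw [h1]
      _ = _ := by group
  -- the normal closure is odd
  set T : Set G := Set.range fun e : G => e * (z : G) * e⁻¹ with hT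
  set N := Subgroup.closure T with hNdef
  have hNn : N.Normal := by
    refine ⟨fun y hy e => ?_⟩
    have hle : N ≤ N.comap (MulAut.conj e).toMonoidHom := by
      rw [hNdef, Subgroup.closure_le]
      rintro _ ⟨f, rfl⟩
      refine Subgroup.subset_closure ⟨e * f, ?_⟩
      simp [mul_assoc]
    exact hle hy
  have hcent : N ≤ Subgroup.centralizer (N : Set G) := by
    rw [hNdef, Subgroup.centralizer_closure, Subgroup.closure_le]
    rintro _ ⟨f, rfl⟩
    refine Subgroup.mem_centralizer_iff.2 fun y hy => ?_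
    obtain ⟨f', rfl⟩ := hy
    exact (hconj f' f).eq
  have hpow : ∀ y ∈ N, y ^ Nat.card (W P) = 1 := by
    intro y hy
    induction hy using Subgroup.closure_induction with
    | mem y hy =>
      obtain ⟨f, rfl⟩ := hy
      rw [conj_pow, ← Subgroup.coe_pow, pow_card_eq_one', Subgroup.coe_one, mul_one,
        mul_inv_cancel]
    | one => exact one_pow _
    | mul y y' hy hy' iy iy' =>
      have hyy : Commute y y' := (Subgroup.mem_centralizer_iff.1 (hcent hy) y' hy').symm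
      rw [hyy.mul_pow, iy, iy', one_mul]
    | inv y _ iy => rw [inv_pow, iy, inv_one]
  have hNodd : ¬ 2 ∣ Nat.card N := by
    intro hd
    obtain ⟨t, ht⟩ := exists_prime_orderOf_dvd_card' (G := N) 2 hd
    rw [← orderOf_coe] at ht
    exact h.not_dvd_card_W (ht ▸ orderOf_dvd_of_pow_eq_one (hpow t t.2))
  have hNbot := h.core N hNn hNodd
  refine hz1 (Subtype.ext ?_)
  have : (z : G) ∈ N := Subgroup.subset_closure ⟨1, by simp⟩
  rwa [hNbot, Subgroup.mem_bot] at this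

/-- The centralizer of an involution is abelian when `W` is abelian and centralised by `P`. -/
theorem Free.comm_centralizer (h : Free P) (hcomm : ∀ a ∈ W P, ∀ b ∈ W P, a * b = b * a)
    (hcen : ∀ w ∈ W P, ∀ v ∈ P, v * w * v⁻¹ = w) {v : G} (hv : v ∈ P) (hv1 : v ≠ 1) :
    ∀ a ∈ C{v}, ∀ b ∈ C{v}, a * b = b * a := by
  intro a ha b hb
  obtain ⟨k, hk, p, hp, rfl⟩ := (h.exists_complement hv hv1).2 a ha
  obtain ⟨l, hl, r, hr, rfl⟩ := (h.exists_complement hv hv1).2 b hb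
  have hc : ∀ w ∈ W P, ∀ p ∈ P, p * w = w * p := fun w hw p hp =>
    mul_inv_eq_iff_eq_mul.1 (hcen w hw p hp)
  have hk' := h.K_le_W hv hv1 hk
  have hl' := h.K_le_W hv hv1 hl
  calc k * p * (l * r) = k * (p * l) * r := by group
    _ = k * (l * p) * r := by rw [hc l hl' p hp]
    _ = (k * l) * (p * r) := by group
    _ = (l * k) * (r * p) := by rw [hcomm k hk' l hl', h.comm hp hr]
    _ = l * (k * r) * p := by group
    _ = l * (r * k) * p := by rw [hc k hk' r hr]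
    _ = _ := by group

/-- **Small index forces abelian centralizers.** -/
theorem Free.comm_of_small (h : Free P) (htr : Trans P) (hM : bigM P ≠ ⊤)
    (h8 : Nat.card P = 8 → (bigM P).index ≤ 30) (h16 : (bigM P).index ≤ 141) :
    (∀ v ∈ P, v ≠ 1 → ∀ a ∈ C{v}, ∀ b ∈ C{v}, a * b = b * a) ∨
      (Nat.card P = 16 ∧ (bigM P).index = 113) := by
  obtain ⟨g, hg⟩ : ∃ g : G, g ∉ bigM P := by
    by_contra hall
    push Not at hall
    exact hM (eq_top_iff.2 fun g _ => hall g)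
  obtain ⟨s, hs, hodd, hN⟩ := h.index_eq htr hM hg
  set c := (orbit (W P) (g : G ⧸ bigM P)).ncard with hc
  have hc0 : 0 < c := hodd.pos
  by_cases hc1 : c = 1
  · left
    have hW := h.W_eq_bot_of_orbit hM hg hc1
    intro v hv hv1
    refine h.comm_centralizer ?_ ?_ hv hv1 <;>
      · intro a ha b _
        rw [hW, Subgroup.mem_bot] at ha
        subst ha
        simp
  have hc3 : 3 ≤ c := by obtain ⟨j, hj⟩ := hodd; omega
  have key : s = 1 ∧ (c = 3 ∨ c = 5 ∨ (Nat.card P = 16 ∧ c = 7)) := by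
    obtain ⟨j, hj⟩ := hodd
    rcases h.card with e | e
    · have hb := h8 e
      rw [hN, e] at hb
      rw [e] at hs
      have hsc : s * c ≤ 3 := by rw [mul_assoc] at hb; omega
      have hs0 : 0 < s := Nat.pos_of_dvd_of_pos hs (by norm_num)
      have : s * 3 ≤ s * c := Nat.mul_le_mul_left s hc3
      have : c ≤ s * c := Nat.le_mul_of_pos_left c hs0
      exact ⟨by omega, Or.inl (by omega)⟩
    · have hb := h16
      rw [hN, e] at hb
      rw [e] at hs
      have hsc : s * c ≤ 8 := by rw [mul_assoc] at hb; omega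
      have hs0 : 0 < s := Nat.pos_of_dvd_of_pos hs (by norm_num)
      have : s * 3 ≤ s * c := Nat.mul_le_mul_left s hc3
      have : c ≤ s * c := Nat.le_mul_of_pos_left c hs0
      have hs2 : s ≠ 2 := fun e2 => by rw [e2] at hs; omega
      have : c = 3 ∨ c = 5 ∨ c = 7 := by omega
      exact ⟨by omega, by omega⟩
  obtain ⟨rfl, hcases⟩ := key
  rw [mul_one] at hN
  rcases hcases with e | e | ⟨e, e'⟩
  · left
    have hWc := h.W_comm_of_orbit hM hg (by omega)
    exact fun v hv hv1 => h.comm_centralizer hWc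
      (h.centralises htr hM hg hWc (hc ▸ e ▸ Nat.prime_three) hN) hv hv1
  · left
    have hWc := h.W_comm_of_orbit hM hg (by omega)
    exact fun v hv hv1 => h.comm_centralizer hWc
      (h.centralises htr hM hg hWc (hc ▸ e ▸ Nat.prime_five) hN) hv hv1
  · right
    exact ⟨e, by rw [hN, e, e']⟩

end CfsgLib.AbTwoOne
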