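import Cfsg.Agent.BlocksB.RankOneInvolution.Count
import Cfsg.Agent.BlocksB.RankOneInvolution.Lines
import Cfsg.Agent.BlocksB.RankOneInvolution.Support
import Cfsg.Agent.Char.Kernel

/-!
# A character of degree `q - 1` taking the value `-1` on the involutions

Then `P` centralises `W`, which is abelian, so the involution centralizers are abelian.
-/

set_option autoImplicit false
set_option linter.style.haveILetI false
set_option linter.unusedSectionVars false

namespace CfsgLib.AbTwoOne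

open Cfsg Subgroup

universe u v

variable {G : Type u} [Group G] [Finite G] {P : Subgroup G}
  {V : Type v} [AddCommGroup V] [Module ℂ V] [FiniteDimensional ℂ V] {ρ : Representation ℂ G V}

local notation "C{" x "}" => Subgroup.centralizer ({x} : Set G)
local notation "N(" U ")" => Subgroup.normalizer (SetLike.coe U)

theorem eq_one_of_inv_eq {H : Subgroup G} (hH : ¬ 2 ∣ Nat.card H) {g : G} (hg : g ∈ H)
    (h : g⁻¹ = g) : g = 1 := by
  have h1 : orderOf g ∣ 2 := orderOf_dvd_of_pow_eq_one (by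
    rw [pow_two]; nth_rewrite 1 [← h]; exact inv_mul_cancel g)
  refine orderOf_eq_one_iff.1 (((Nat.dvd_prime Nat.prime_two).1 h1).resolve_right fun e => ?_)
  exact odd_orderOf hH hg (by rw [e])

/-- `P` centralises every invariant subgroup of `W`. -/
theorem Lines.centralises (L : Lines P ρ) (h : Free P) (htr : Trans P) :
    ∀ (R : Subgroup G), R ≤ W P → N(P) ≤ N(R) → ∀ r ∈ R, ∀ v ∈ P, v * r * v⁻¹ = r := by
  classical
  haveI : Fact (Nat.Prime 2) := ⟨Nat.prime_two⟩
  suffices ∀ (k : ℕ) (R : Subgroup G), Nat.card R ≤ k → R ≤ W P → N(P) ≤ N(R) →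
      ∀ r ∈ R, ∀ v ∈ P, v * r * v⁻¹ = r from fun R => this _ R le_rfl
  intro k
  induction k with
  | zero => intro R hR; exact absurd hR (by simpa using (Nat.card_pos (α := R)).ne')
  | succ k ih =>
  intro R hRk hRW hRN
  by_contra hcon
  have hsmall : ∀ R' : Subgroup G, R' < R → N(P) ≤ N(R') →
      ∀ r ∈ R', ∀ v ∈ P, v * r * v⁻¹ = r := by
    intro R' hlt hN'
    refine ih R' ?_ (hlt.le.trans hRW) hN'
    have h1 : Nat.card R' < Nat.card R := by
      refine lt_of_le_of_ne (Nat.le_of_dvd Nat.card_pos (card_dvd_of_le hlt.le)) fun e => ?_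
      exact hlt.ne (eq_of_le_of_card_ge hlt.le e.ge)
    omega
  have hRodd : ¬ 2 ∣ Nat.card R := fun hd => h.not_dvd_card_W (hd.trans (card_dvd_of_le hRW))
  have hconjR : ∀ {n r : G}, n ∈ N(P) → r ∈ R → n * r * n⁻¹ ∈ R := fun {n r} hn hr =>
    (mem_normalizer_iff.1 (hRN hn) r).1 hr
  have hvR : ∀ {v r : G}, v ∈ P → r ∈ R → v * r * v⁻¹ ∈ R := fun {v r} hv hr =>
    hconjR (le_normalizer hv) hr
  have hvn : ∀ {n v : G}, n ∈ N(P) → v ∈ P → n * v * n⁻¹ ∈ P := fun {n v} hn hv =>
    (mem_normalizer_iff.1 hn v).1 hv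
  -- `R = [R, P]`
  set T := closure {g : G | ∃ r ∈ R, ∃ v ∈ P, g = r * (v * r⁻¹ * v⁻¹)} with hT
  have hTR : T ≤ R := by
    rw [hT, closure_le]
    rintro _ ⟨r, hr, v, hv, rfl⟩
    exact mul_mem hr (hvR hv (inv_mem hr))
  have hTN : N(P) ≤ N(T) := by
    have hle : ∀ n ∈ N(P), T ≤ T.comap (MulAut.conj n).toMonoidHom := by
      intro n hn
      rw [hT, closure_le]
      rintro _ ⟨r, hr, v, hv, rfl⟩
      refine subset_closure ⟨n * r * n⁻¹, hconjR hn hr, n * v * n⁻¹, hvn hn hv, ?_⟩
      show n * (r * (v * r⁻¹ * v⁻¹)) * n⁻¹ = _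
      group
    intro n hn
    rw [mem_normalizer_iff]
    refine fun g => ⟨fun hg => hle n hn hg, fun hg => ?_⟩
    have h1 : n⁻¹ * (n * g * n⁻¹) * n⁻¹⁻¹ ∈ T := hle n⁻¹ (inv_mem hn) hg
    simpa [mul_assoc] using h1
  have hTeq : T = R := by
    refine hTR.eq_or_lt.resolve_right fun hlt => hcon fun r hr v hv => ?_
    set d := r * (v * r⁻¹ * v⁻¹) with hd
    have hdT : d ∈ T := subset_closure ⟨r, hr, v, hv, rfl⟩
    have h1 := hsmall T hlt hTN d hdT v hv
    have h2 : v * d * v⁻¹ = d⁻¹ := by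
      rw [hd, h.inv_eq hv]
      calc v * (r * (v * r⁻¹ * v)) * v = (v * r * v) * r⁻¹ * (v * v) := by group
        _ = (r * (v * r⁻¹ * v))⁻¹ := by
          rw [h.sq v hv, mul_one]
          simp [mul_assoc, h.inv_eq hv]
    have h3 : d = 1 := eq_one_of_inv_eq hRodd (hTR hdT) (h2.symm.trans h1)
    rw [hd] at h3
    have h4 := eq_inv_of_mul_eq_one_left h3
    calc v * r * v⁻¹ = (v * r⁻¹ * v⁻¹)⁻¹ := by group
      _ = r := h4.symm
  -- the elements centralised by `P`
  set S := R ⊓ Subgroup.centralizer (P : Set G) with hS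
  have hSfix : ∀ {s v : G}, s ∈ S → v ∈ P → v * s * v⁻¹ = s := fun {s v} hs hv =>
    mul_inv_eq_iff_eq_mul.2 (mem_centralizer_iff.1 hs.2 v hv)
  have hSmk : ∀ {s : G}, s ∈ R → (∀ v ∈ P, v * s * v⁻¹ = s) → s ∈ S := fun {s} hs hfix =>
    ⟨hs, mem_centralizer_iff.2 fun v hv => mul_inv_eq_iff_eq_mul.1 (hfix v hv)⟩
  have hcomR : ∀ {a b : G}, a ∈ R → b ∈ R → a * b * a⁻¹ * b⁻¹ ∈ S := by
    set D := ⁅R, R⁆ with hD
    have hDR : D ≤ R := commutator_le.2 fun a ha b hb => by
      rw [commutatorElement_def]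
      exact mul_mem (mul_mem (mul_mem ha hb) (inv_mem ha)) (inv_mem hb)
    have hDN : N(P) ≤ N(D) := by
      intro n hn
      rw [mem_normalizer_iff_map_conj_eq, hD, map_commutator]
      have : R.map (MulAut.conj n).toMonoidHom = R := (mem_normalizer_iff_map_conj_eq).1 (hRN hn)
      exact congrArg₂ (fun A B : Subgroup G => ⁅A, B⁆) this this
    have hlt : D < R := by
      haveI : Group.IsSolvable (W P) := h.W_solvable
      haveI : Group.IsSolvable R :=
        Group.isSolvable_of_isSolvable_injective (Subgroup.inclusion_injective hRW)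
      haveI : Nontrivial R := R.nontrivial_iff_ne_bot.2 fun e => hcon fun r hr v hv => by
        rw [e, mem_bot] at hr; subst hr; group
      rw [hD, ← Subgroup.map_subtype_commutator R]
      conv_rhs => rw [← R.range_subtype, MonoidHom.range_eq_map]
      exact (Subgroup.map_lt_map_iff_of_injective R.subtype_injective).2
        (Group.IsSolvable.commutator_lt_top_of_nontrivial R)
    intro a b ha hb
    have hmem : a * b * a⁻¹ * b⁻¹ ∈ D := by
      rw [← commutatorElement_def]; exact commutator_mem_commutator ha hb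
    exact hSmk (hDR hmem) (hsmall D hlt hDN _ hmem)
  have hScen : ∀ {s r : G}, s ∈ S → r ∈ R → s * r = r * s := by
    intro s r hs hr
    have hle : R ≤ Subgroup.centralizer ({s} : Set G) := by
      rw [← hTeq, hT, closure_le]
      rintro _ ⟨r, hr, v, hv, rfl⟩
      refine mem_centralizer_singleton_iff.2 ?_
      have e1 : r⁻¹ * s * r ∈ S := by
        have : r⁻¹ * s * r = (r⁻¹ * s * r * s⁻¹) * s := by group
        rw [this]
        exact mul_mem (by simpa using hcomR (inv_mem hr) hs.1) hs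
      have e2 := hSfix e1 hv
      have e3 := hSfix hs hv
      calc r * (v * r⁻¹ * v⁻¹) * s = r * (v * r⁻¹ * v⁻¹) * (v * s * v⁻¹) := by rw [e3]
        _ = r * (v * (r⁻¹ * s * r) * v⁻¹) * (v * r⁻¹ * v⁻¹) := by group
        _ = r * (r⁻¹ * s * r) * (v * r⁻¹ * v⁻¹) := by rw [e2]
        _ = _ := by group
    exact (mem_centralizer_singleton_iff.1 (hle hr)).symm
  -- `R / S` and its eigen elements
  haveI : Fintype P := Fintype.ofFinite P
  set N := S.subgroupOf R with hN
  haveI hNn : N.Normal := ⟨fun s hs r => by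
    show (r : G) * s * (r : G)⁻¹ ∈ S
    have hs' : (s : G) ∈ S := hs
    rw [← hScen hs' r.2, mul_inv_cancel_right]
    exact hs'⟩
  letI : CommGroup (R ⧸ N) :=
    { (inferInstance : Group (R ⧸ N)) with
      mul_comm := by
        rintro ⟨a⟩ ⟨b⟩
        refine QuotientGroup.eq.2 ?_
        show ((a : G) * b)⁻¹ * ((b : G) * a) ∈ S
        have := hcomR (inv_mem b.2) (inv_mem a.2)
        simpa [mul_assoc] using this }
  have hqodd : ¬ 2 ∣ Nat.card (R ⧸ N) := fun hd => hRodd (hd.trans (card_quotient_dvd_card N))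
  let cj : P → R →* R := fun v =>
    MonoidHom.mk' (fun a => ⟨(v : G) * a * (v : G)⁻¹, hvR v.2 a.2⟩) fun a b => Subtype.ext (by
      show (v : G) * ((a : G) * b) * (v : G)⁻¹ = (v : G) * a * (v : G)⁻¹ * ((v : G) * b * (v : G)⁻¹)
      group)
  let ψ : P → R ⧸ N →* R ⧸ N := fun v => QuotientGroup.map N N (cj v) fun a ha => by
    show (v : G) * a * (v : G)⁻¹ ∈ S
    have ha' : (a : G) ∈ S := ha
    rw [hSfix ha' v.2]; exact ha'
  have hψsq : ∀ v x, ψ v (ψ v x) = x := by
    rintro v ⟨a⟩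
    show ((cj v (cj v a) : R) : R ⧸ N) = (a : R ⧸ N)
    congr 1
    refine Subtype.ext ?_
    show (v : G) * ((v : G) * a * (v : G)⁻¹) * (v : G)⁻¹ = a
    rw [h.inv_eq v.2, ← mul_assoc, ← mul_assoc, h.sq _ v.2, one_mul, mul_assoc, h.sq _ v.2,
      mul_one]
  have hψcomm : ∀ v w x, ψ v (ψ w x) = ψ w (ψ v x) := by
    rintro v w ⟨a⟩
    show ((cj v (cj w a) : R) : R ⧸ N) = ((cj w (cj v a) : R) : R ⧸ N)
    congr 1
    refine Subtype.ext ?_
    show (v : G) * ((w : G) * a * (w : G)⁻¹) * (v : G)⁻¹ =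
      (w : G) * ((v : G) * a * (v : G)⁻¹) * (w : G)⁻¹
    calc _ = ((v : G) * w) * a * ((v : G) * w)⁻¹ := by group
      _ = ((w : G) * v) * a * ((w : G) * v)⁻¹ := by rw [h.comm v.2 w.2]
      _ = _ := by group
  let Fix : G → P → Prop := fun x v => (v : G) * x * (v : G)⁻¹ = x
  let Eig : G → Prop := fun x => x ∈ R ∧
    ∀ v : P, Fix x v ∨ (v : G) * x * (v : G)⁻¹ * x ∈ S
  have hgen : R ≤ closure ({x | Eig x} ∪ (S : Set G)) := by
    set U := closure ({x | Eig x} ∪ (S : Set G)) with hU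
    have h1 := eigen_closure hqodd ψ hψsq hψcomm Finset.univ
    intro r hr
    have hle : closure {x : R ⧸ N | ∀ i ∈ (Finset.univ : Finset P), ψ i x = x ∨ ψ i x = x⁻¹} ≤
        (U.subgroupOf R).map (QuotientGroup.mk' N) := by
      rw [closure_le]
      intro x hx
      obtain ⟨a, rfl⟩ := QuotientGroup.mk'_surjective N x
      refine ⟨a, subset_closure (Or.inl ⟨a.2, fun v => ?_⟩), rfl⟩
      rcases hx v (Finset.mem_univ v) with e | e
      · left
        have e' : (cj v a)⁻¹ * a ∈ N := QuotientGroup.eq.1 e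
        have hs : ((v : G) * a * (v : G)⁻¹)⁻¹ * (a : G) ∈ S := e'
        set s := ((v : G) * a * (v : G)⁻¹)⁻¹ * (a : G) with hsdef
        have e2 : s⁻¹ = s := by
          have e3 := hSfix hs v.2
          calc s⁻¹ = (a : G)⁻¹ * ((v : G) * a * (v : G)⁻¹) := by rw [hsdef]; group
            _ = (v : G) * (((v : G) * a * (v : G)⁻¹)⁻¹ * a) * (v : G)⁻¹ := by
              rw [h.inv_eq v.2]
              simp [mul_assoc, h.inv_eq v.2]
              rw [← mul_assoc (v : G) (v : G), h.sq _ v.2, one_mul]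
            _ = s := e3
        exact inv_mul_eq_one.1 (eq_one_of_inv_eq hRodd (hs.1) e2)
      · right
        have e' : (cj v a)⁻¹ * a⁻¹ ∈ N := QuotientGroup.eq.1 e
        have hs : ((v : G) * a * (v : G)⁻¹)⁻¹ * (a : G)⁻¹ ∈ S := e'
        have h2 := inv_mem hs
        rw [mul_inv_rev, inv_inv, inv_inv] at h2
        have h3 : (v : G) * a * (v : G)⁻¹ * a = (a : G) * ((v : G) * a * (v : G)⁻¹) := by
          have := hScen h2 (inv_mem a.2)
          calc (v : G) * a * (v : G)⁻¹ * a =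
              (a : G)⁻¹ * ((a : G) * ((v : G) * a * (v : G)⁻¹)) * a := by group
            _ = (a : G) * ((v : G) * a * (v : G)⁻¹) * (a : G)⁻¹ * a := by rw [← this]
            _ = _ := by group
        show (v : G) * a * (v : G)⁻¹ * a ∈ S
        rw [h3]; exact h2
    rw [h1] at hle
    obtain ⟨a, ha, he⟩ := hle (mem_top (QuotientGroup.mk' N ⟨r, hr⟩))
    have h2 : a⁻¹ * ⟨r, hr⟩ ∈ N := QuotientGroup.eq.1 he
    have h3 : (a : G)⁻¹ * r ∈ U := subset_closure (Or.inr h2)
    simpa using mul_mem (show (a : G) ∈ U from ha) h3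
  -- two eigen elements commute
  have hmixed : ∀ {x y : G}, Eig x → Eig y → ∀ v : P, ¬ Fix x v → Fix y v → x * y = y * x := by
    intro x y hx hy v hxv hyv
    have hs := (hx.2 v).resolve_left hxv
    set s := (v : G) * x * (v : G)⁻¹ * x with hsdef
    set c := x * y * x⁻¹ * y⁻¹ with hcdef
    have hcS : c ∈ S := hcomR hx.1 hy.1
    have hv' : (v : G) * x * (v : G)⁻¹ = x⁻¹ * s := by
      rw [← hScen hs (inv_mem hx.1), hsdef, mul_inv_cancel_right]
    have e1 : c = x⁻¹ * y * x * y⁻¹ := by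
      calc c = (v : G) * c * (v : G)⁻¹ := (hSfix hcS v.2).symm
        _ = ((v : G) * x * (v : G)⁻¹) * ((v : G) * y * (v : G)⁻¹) *
            ((v : G) * x * (v : G)⁻¹)⁻¹ * ((v : G) * y * (v : G)⁻¹)⁻¹ := by rw [hcdef]; group
        _ = x⁻¹ * (s * y) * s⁻¹ * x * y⁻¹ := by rw [hv', show (v : G) * y * (v : G)⁻¹ = y from hyv]; group
        _ = x⁻¹ * (y * s) * s⁻¹ * x * y⁻¹ := by rw [hScen hs hy.1]
        _ = _ := by group
    have e2 : c⁻¹ = x⁻¹ * y * x * y⁻¹ := by
      calc c⁻¹ = x⁻¹ * (x * c⁻¹) := by group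
        _ = x⁻¹ * (c⁻¹ * x) := by rw [hScen (inv_mem hcS) hx.1]
        _ = _ := by rw [hcdef]; group
    have hc1 := eq_one_of_inv_eq hRodd hcS.1 (e2.trans e1.symm)
    rw [hcdef, mul_inv_eq_one, mul_inv_eq_iff_eq_mul] at hc1
    exact hc1
  have hpair : ∀ {x y : G}, Eig x → Eig y → x * y = y * x := by
    intro x y hx hy
    by_cases hxS : x ∈ S
    · exact hScen hxS hy.1
    by_cases hyS : y ∈ S
    · exact (hScen hyS hx.1).symm
    by_cases hsame : ∀ v : P, Fix x v ↔ Fix y v
    swap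
    · simp only [not_forall] at hsame
      obtain ⟨v, hv⟩ := hsame
      by_cases hxv : Fix x v
      · exact (hmixed hy hx v (fun e => hv ⟨fun _ => e, fun _ => hxv⟩) hxv).symm
      · exact hmixed hx hy v hxv (by_contra fun e => hv ⟨fun e' => absurd e' hxv, fun e' => absurd e' e⟩)
    -- the sign character
    have hneg1 : (-1 : ℂˣ) ≠ 1 := fun e => by
      have := congrArg Units.val e
      norm_num at this
    have hmul : ∀ v w : P, (Fix x (v * w) ↔ (Fix x v ↔ Fix x w)) := by
      intro v w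
      have hexp : ((v * w : P) : G) * x * ((v * w : P) : G)⁻¹ =
          (v : G) * ((w : G) * x * (w : G)⁻¹) * (v : G)⁻¹ := by
        rw [Subgroup.coe_mul]; group
      show ((v * w : P) : G) * x * ((v * w : P) : G)⁻¹ = x ↔ _
      rw [hexp]
      have hinv : ∀ u : P, ¬ Fix x u → ∃ t ∈ S, (u : G) * x * (u : G)⁻¹ = t * x⁻¹ := fun u hu =>
        ⟨_, (hx.2 u).resolve_left hu, by group⟩
      by_cases hw : Fix x w
      · rw [show (w : G) * x * (w : G)⁻¹ = x from hw]
        exact ⟨fun e => iff_of_true e hw, fun e => e.2 hw⟩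
      obtain ⟨t, ht, hwe⟩ := hinv w hw
      rw [hwe]
      by_cases hv : Fix x v
      · refine ⟨fun e => absurd ?_ hw, fun e => absurd (e.1 hv) hw⟩
        show (w : G) * x * (w : G)⁻¹ = x
        rw [hwe]
        calc t * x⁻¹ = ((v : G) * t * (v : G)⁻¹) * ((v : G) * x * (v : G)⁻¹)⁻¹ := by
              rw [hSfix ht v.2, show (v : G) * x * (v : G)⁻¹ = x from hv]
          _ = (v : G) * (t * x⁻¹) * (v : G)⁻¹ := by group
          _ = x := e
      · obtain ⟨s, hs, hve⟩ := hinv v hv
        refine ⟨fun _ => iff_of_false hv hw, fun _ => ?_⟩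
        have e1 : (v : G) * (t * x⁻¹) * (v : G)⁻¹ = t * s⁻¹ * x := by
          calc (v : G) * (t * x⁻¹) * (v : G)⁻¹
              = ((v : G) * t * (v : G)⁻¹) * ((v : G) * x * (v : G)⁻¹)⁻¹ := by group
            _ = t * (x * s⁻¹) := by rw [hSfix ht v.2, hve]; group
            _ = _ := by rw [← hScen (inv_mem hs) hx.1]; group
        set u := t * s⁻¹ with hu
        have huS : u ∈ S := mul_mem ht (inv_mem hs)
        -- applying the involution again
        have e2 : ((v * w : P) : G) * x * ((v * w : P) : G)⁻¹ = u * x := by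
          rw [hexp, hwe, e1]
        have e3 : u * (u * x) = x := by
          calc u * (u * x) = (((v * w : P) : G) * u * ((v * w : P) : G)⁻¹) *
              (((v * w : P) : G) * x * ((v * w : P) : G)⁻¹) := by rw [hSfix huS (v * w).2, e2]
            _ = ((v * w : P) : G) * (u * x) * ((v * w : P) : G)⁻¹ := by group
            _ = ((v * w : P) : G) * (((v * w : P) : G) * x * ((v * w : P) : G)⁻¹) *
                ((v * w : P) : G)⁻¹ := by rw [e2]
            _ = x := by
              rw [h.inv_eq (v * w).2, ← mul_assoc, ← mul_assoc, h.sq _ (v * w).2, one_mul,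
                mul_assoc, h.sq _ (v * w).2, mul_one]
        have hu1 : u = 1 := by
          refine eq_one_of_inv_eq hRodd huS.1 (inv_eq_of_mul_eq_one_right ?_)
          rwa [← mul_assoc, mul_eq_right] at e3
        rw [e1, hu1, one_mul]
    let χ : P →* ℂˣ := MonoidHom.mk' (fun v => if Fix x v then 1 else -1) fun v w => by
      by_cases hv : Fix x v <;> by_cases hw : Fix x w <;> simp [hmul, hv, hw]
    have hχ : ∀ v : P, χ v = 1 ↔ Fix x v := fun v => by
      by_cases hv : Fix x v <;> simp [χ, hv, hneg1]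
    set c := x * y * x⁻¹ * y⁻¹ with hcdef
    have hcS : c ∈ S := hcomR hx.1 hy.1
    have hc1 : c = 1 := L.commutator_eq_one χ
      (fun v => by by_cases hv : Fix x v <;> simp [χ, hv])
      (x := x) (y := y) (c := c) (by rw [hcdef]; group)
      (fun v hv => (mul_inv_eq_iff_eq_mul.1 ((hχ v).1 hv)).symm)
      (fun v hv => (mul_inv_eq_iff_eq_mul.1 ((hsame v).1 ((hχ v).1 hv))).symm)
      (fun v => (mul_inv_eq_iff_eq_mul.1 (hSfix hcS v.2)).symm) (hScen hcS hx.1).symm
      (hScen hcS hy.1).symm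
      (m := Nat.card R) (Nat.odd_iff.2 (Nat.two_dvd_ne_zero.1 hRodd))
      (orderOf_dvd_iff_pow_eq_one.1 (Subgroup.orderOf_dvd_natCard R hcS.1))
    rw [hcdef, mul_inv_eq_one, mul_inv_eq_iff_eq_mul] at hc1
    exact hc1
  have hRcomm : ∀ a b : R, a * b = b * a := by
    have hle : R ≤ Subgroup.centralizer (R : Set G) := by
      refine le_centralizer_iff.1 (hgen.trans ?_)
      rw [closure_le]
      rintro y (hy | hy) <;> refine mem_centralizer_iff.2 fun g hg => ?_
      · have hle2 : R ≤ Subgroup.centralizer ({y} : Set G) := by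
          refine hgen.trans ?_
          rw [closure_le]
          rintro x (hx | hx) <;> refine mem_centralizer_singleton_iff.2 ?_
          · exact hpair hx hy
          · exact hScen hx hy.1
        exact mem_centralizer_singleton_iff.1 (hle2 hg)
      · exact (hScen hy hg).symm
    exact fun a b => Subtype.ext (mem_centralizer_iff.1 (hle b.2) a a.2)
  -- so `P` has no fixed points on `R`
  letI : CommGroup R := { (inferInstance : Group R) with mul_comm := hRcomm }
  have hfix : ∀ a ∈ R, (∀ v ∈ P, v * a * v⁻¹ = a) → a = 1 := by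
    intro a ha hfix
    let Nm : R →* R := MonoidHom.mk' (fun b => ∏ v : P, cj v b) fun b c => by
      simp only [map_mul, Finset.prod_mul_distrib]
    have hker : ∀ b : R, Nm b = 1 := by
      intro b
      have hle : R ≤ Nm.ker.map R.subtype := by
        conv_lhs => rw [← hTeq, hT]
        rw [closure_le]
        rintro _ ⟨r, hr, v, hv, rfl⟩
        refine ⟨⟨r, hr⟩ * cj ⟨v, hv⟩ ⟨r, hr⟩⁻¹, ?_, rfl⟩
        have e1 : Nm (cj ⟨v, hv⟩ ⟨r, hr⟩) = Nm ⟨r, hr⟩ := by
          show ∏ w : P, cj w (cj ⟨v, hv⟩ ⟨r, hr⟩) = ∏ w : P, cj w ⟨r, hr⟩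
          refine Fintype.prod_equiv (Equiv.mulRight ⟨v, hv⟩) _ _ fun w => Subtype.ext ?_
          show (w : G) * (v * r * v⁻¹) * (w : G)⁻¹ = ((w : G) * v) * r * ((w : G) * v)⁻¹
          group
        show Nm _ = 1
        rw [map_mul Nm, map_inv (cj _), map_inv Nm, e1, mul_inv_cancel]
      obtain ⟨c, hc, hcb⟩ := hle b.2
      rw [← show c = b from Subtype.ext hcb]
      exact hc
    have h1 : (⟨a, ha⟩ : R) ^ Nat.card P = 1 := by
      rw [← hker ⟨a, ha⟩]
      show _ = ∏ v : P, cj v ⟨a, ha⟩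
      rw [Finset.prod_congr rfl fun v _ => show cj v ⟨a, ha⟩ = ⟨a, ha⟩ from
        Subtype.ext (hfix v v.2), Finset.prod_const, Finset.card_univ, ← Nat.card_eq_fintype_card]
    obtain ⟨k, hk, -⟩ := h.card_eq_pow
    have hcop : Nat.Coprime (2 ^ k) (Nat.card R) :=
      ((Nat.prime_two.coprime_iff_not_dvd).2 hRodd).pow_left k
    have h2 : orderOf (⟨a, ha⟩ : R) = 1 := Nat.eq_one_of_dvd_coprimes hcop
      (hk ▸ orderOf_dvd_of_pow_eq_one h1) (orderOf_dvd_natCard _)
    exact congrArg Subtype.val (orderOf_eq_one_iff.1 h2)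
  have hbot : R = ⊥ := L.eq_bot_of_abelian (fun a => Subtype.ext (h.sq _ a.2))
    (by obtain ⟨k, hk, hk3⟩ := h.card_eq_pow; rw [hk]; exact (even_two.pow_of_ne_zero (by omega)))
    hRcomm (Nat.odd_iff.2 (Nat.two_dvd_ne_zero.1 hRodd)) (fun v hv a ha => hvR hv ha)
    (fun u hu hu1 w hw hw1 => by
      obtain ⟨n, hn, he⟩ := htr u hu hu1 w hw hw1
      exact ⟨n, hRN hn, he⟩) hfix
  refine hcon fun r hr v hv => ?_
  rw [hbot, mem_bot] at hr
  subst hr
  group

/-- A representation with one line for each nontrivial character of `P` has abelian involution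
centralizers. -/
theorem Lines.comm_centralizers (L : Lines P ρ) (h : Free P) (htr : Trans P) :
    ∀ v ∈ P, v ≠ 1 → ∀ a ∈ C{v}, ∀ b ∈ C{v}, a * b = b * a := by
  haveI : Fintype P := Fintype.ofFinite P
  have hcen := L.centralises h htr (W P) le_rfl h.normalizer_le
  intro v hv hv1
  refine h.comm_centralizer (fun a ha b hb => ?_) hcen hv hv1
  exact L.comm_of_centralizes
    (fun p => (mul_inv_eq_iff_eq_mul.1 (hcen a ha p p.2)).symm)
    (fun p => (mul_inv_eq_iff_eq_mul.1 (hcen b hb p p.2)).symm)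

end CfsgLib.AbTwoOne
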