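import Cfsg.Agent.BlocksB.RankOneInvolution.DegreeOne
import Cfsg.Agent.BlocksB.RankOneInvolution.Arith
import Cfsg.Agent.Invol.CoreOddEmbedded
import Cfsg.Agent.S2202
import Cfsg.Agent.S4765
import Cfsg.Agent.SL2Blocks.Basic
import Cfsg.Agent.SL2C.Basic
import Cfsg.Agent.PrimeGraph.SL2Char2
import Cfsg.Agent.Char.DegreeRatio

/-!
# With a freely acting normalizer the principal block has only odd degrees
-/

set_option autoImplicit false
set_option linter.style.haveILetI false
set_option linter.unusedSectionVars false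

namespace CfsgLib.AbTwoOne

open Cfsg Finset CfsgLib.Block CfsgLib.Block.Chr CfsgLib.Char
open scoped Classical

universe u

variable {G : Type u} [Group G] [Fintype G] {P : Subgroup G} {M : Ideal AlgInt} [M.IsPrime]

local notation "C{" x "}" => Subgroup.centralizer ({x} : Set G)

theorem Free.trans_of_ne_top (h : Free P) (hMne : bigM P ≠ ⊤) : Trans P := by
  intro u hu hu1 v hv hv1
  have hev : Even (Nat.card (bigM P)) := (h.stronglyEmbedded hMne).2.1
  have hcore : Odd (Nat.card (bigM P).normalCore) := by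
    have : (bigM P).normalCore = ⊥ := by
      refine (Subgroup.eq_bot_iff_forall _).2 fun g hg => h.core_bigM hMne hg
    rw [this, Subgroup.card_bot]
    exact odd_one
  obtain ⟨g, hg⟩ := isConj_iff.1 (CfsgLib.CoreOdd.isConj_all hev
    (fun i hi ho => h.centralizer_invol_le hi ho) hcore u v (h.orderOf_eq hu hu1)
    (h.orderOf_eq hv hv1))
  obtain ⟨n, hn, he⟩ := h.fusion hu (hg ▸ hv)
  exact ⟨n, hn, he.trans hg⟩

/-- The centralizers of the involutions of `P` are abelian. -/
theorem Free.abelian_centralizers (h : Free P) (hM : IsPModular 2 M) :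
    ∀ v ∈ P, v ≠ 1 → ∀ a ∈ C{v}, ∀ b ∈ C{v}, a * b = b * a := by
  letI := irrFintype (G := G)
  by_cases hMne : bigM P = ⊤
  · have hW := h.W_eq_bot hMne
    intro v hv hv1
    refine h.comm_centralizer ?_ ?_ hv hv1 <;>
      · intro a ha b _
        rw [hW, Subgroup.mem_bot] at ha
        subst ha
        simp
  have htr := h.trans_of_ne_top hMne
  obtain ⟨a, hc⟩ := exists_col h htr
  set q := Nat.card P with hq
  by_cases hdeg : ∃ χ : IrrCharacter G, a χ = -1 ∧ charDegree (χ : G → ℂ) + 1 = q
  · obtain ⟨χ, hχa, hχn⟩ := hdeg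
    obtain ⟨d, ρ, hρ, hρχ⟩ := χ.2
    have hd : Module.finrank ℂ (Fin d → ℂ) = charDegree (χ : G → ℂ) := by
      have h1 := (irr_one χ).1
      rw [← hρχ, ρ.char_one] at h1
      exact_mod_cast hρχ ▸ h1
    have hchar : ∀ v ∈ P, v ≠ 1 → ρ.character v = -1 := fun v hv hv1 => by
      rw [hρχ, hc.val χ v hv hv1, hχa]; simp
    have hker : ρ.ker = ⊥ := by
      refine h.core _ inferInstance fun hd2 => ?_
      haveI : Fact (Nat.Prime 2) := ⟨Nat.prime_two⟩
      obtain ⟨t, ht⟩ := exists_prime_orderOf_dvd_card' (G := ρ.ker) 2 hd2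
      rw [← Subgroup.orderOf_coe] at ht
      obtain ⟨g, hg⟩ := h.two_group_le (IsPGroup.of_card (p := 2) (n := 1)
        (show Nat.card (Subgroup.zpowers (t : G)) = 2 ^ 1 by rw [Nat.card_zpowers, ht, pow_one]))
      have hv := hg _ (Subgroup.mem_zpowers _)
      have hv1 : g * t * g⁻¹ ≠ 1 := fun e => by
        rw [conj_eq_one_iff.1 e, orderOf_one] at ht; omega
      have hk : g * t * g⁻¹ ∈ ρ.ker := (inferInstance : ρ.ker.Normal).conj_mem _ t.2 g
      have h1 := hchar _ hv hv1
      rw [Representation.character, MonoidHom.mem_ker.1 hk, LinearMap.trace_one] at h1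
      have h2 : ((Module.finrank ℂ (Fin d → ℂ) + 1 : ℕ) : ℂ) = 0 := by push_cast; rw [h1]; ring
      norm_cast at h2
    have L : Lines P ρ :=
      { comm := fun a b => Subtype.ext (h.comm a.2 b.2)
        char := hchar
        dim := by rw [hd, hχn]
        faithful := fun g hg => by
          have : g ∈ ρ.ker := hg
          rwa [hker, Subgroup.mem_bot] at this }
    exact L.comm_centralizers h htr
  push Not at hdeg
  set t := (univ.filter (· ∈ principalBlock M G)).erase (oneIrr G) with ht
  have hmem : oneIrr G ∈ univ.filter (· ∈ principalBlock M G) :=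
    mem_filter.2 ⟨mem_univ _, oneIrr_mem_principalBlock⟩
  have hn1 : charDegree ((oneIrr G : IrrCharacter G) : G → ℂ) = 1 := by
    have := (irr_one (oneIrr G)).1
    rw [oneIrr_apply] at this
    exact_mod_cast this.symm
  have hsq := hc.sum_sq h hM
  have hone := hc.sum_degree h hM
  have hid := hc.class_equation h hM htr
  rw [← add_sum_erase _ _ hmem, hc.one h, ← ht, ← hq] at hsq hid
  rw [← add_sum_erase _ _ hmem, hc.one h, hn1, ← ht] at hone
  simp only [hn1, one_mul, Int.cast_one, one_pow, Nat.cast_one, div_one] at hsq hone hid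
  have hcg : ∀ χ ∈ t, ∃ m : ℕ, (charDegree (χ : G → ℂ) : ℤ) + ((q : ℤ) - 1) * a χ = (q : ℤ) * m :=
    fun χ _ => hc.congr h χ
  have hpos : ∀ χ ∈ t, 0 < charDegree (χ : G → ℂ) := fun χ _ => (irr_one χ).2
  have hbound : (q = 8 → (bigM P).index ≤ 30) ∧ (bigM P).index ≤ 141 ∧
      ¬ (q = 16 ∧ (bigM P).index = 113) := by
    rcases h.card with e | e <;> rw [← hq] at e <;> rw [e] at hsq hid hcg hdeg <;>
      norm_num [-Subtype.forall] at hsq hid hcg
    · have := bound_eight a (fun χ : IrrCharacter G => charDegree (χ : G → ℂ)) (bigM P).index hpos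
        (by linarith) hone hcg (fun χ _ hχ hn => hdeg χ hχ (by omega)) (by linarith)
      exact ⟨fun _ => this, by omega, by omega⟩
    · have := bound_sixteen a (fun χ : IrrCharacter G => charDegree (χ : G → ℂ)) (bigM P).index hpos
        (by linarith) hone hcg (fun χ _ hχ hn => hdeg χ hχ (by omega)) (by linarith)
      exact ⟨fun h8 => by omega, this.1, fun hh => this.2 hh.2⟩
  rcases h.comm_of_small htr hMne (fun e => hbound.1 e) hbound.2.1 with hr | hr
  · exact hr
  · exact absurd hr hbound.2.2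

/-- **All degrees in the principal block are odd.** -/
theorem Free.odd_degree (h : Free P) (hM : IsPModular 2 M) {χ : IrrCharacter G}
    (hχ : χ ∈ principalBlock M G) : Odd (charDegree (χ : G → ℂ)) := by
  haveI : Fact (Nat.Prime 2) := ⟨Nat.prime_two⟩
  have hab := h.abelian_centralizers hM
  have heven : Even (Nat.card G) := by
    obtain ⟨v, hv, hv1⟩ := h.exists_ne_one
    rw [even_iff_two_dvd, ← h.orderOf_eq hv hv1]
    exact orderOf_dvd_natCard v
  have hall : ∀ t : G, orderOf t = 2 → IsMulCommutative ↥(C{t}) := by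
    intro t ht
    obtain ⟨g, hg⟩ := h.two_group_le (IsPGroup.of_card (p := 2) (n := 1)
      (show Nat.card (Subgroup.zpowers t) = 2 ^ 1 by rw [Nat.card_zpowers, ht, pow_one]))
    have hv := hg _ (Subgroup.mem_zpowers t)
    have hv1 : g * t * g⁻¹ ≠ 1 := fun e => by rw [conj_eq_one_iff.1 e, orderOf_one] at ht; omega
    refine ⟨⟨fun a b => Subtype.ext ?_⟩⟩
    have h1 := hab _ hv hv1 _ (conj_mem_centralizer (n := g) a.2) _ (conj_mem_centralizer (n := g) b.2)
    show (a : G) * b = (b : G) * a
    calc (a : G) * b = g⁻¹ * ((g * a * g⁻¹) * (g * b * g⁻¹)) * g := by group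
      _ = g⁻¹ * ((g * b * g⁻¹) * (g * a * g⁻¹)) * g := by rw [h1]
      _ = _ := by group
  rw [← Nat.not_even_iff_odd, even_iff_two_dvd]
  intro h2
  rcases Cfsg.Agent.S2202.result heven hall with hc | hn |
    ⟨F, _, _, A, _, _, hF2, hAodd, ⟨e⟩⟩
  · obtain ⟨g, hg⟩ := (hc h.sylow).exists_generator
    have h1 : orderOf g = Nat.card P := by
      rw [orderOf_eq_card_of_forall_mem_zpowers hg]; rfl
    have h3 : orderOf g ∣ 2 := orderOf_dvd_of_pow_eq_one (Subtype.ext (by
      simp only [pow_two, Subgroup.coe_mul, Subgroup.coe_one]; exact h.sq _ g.2))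
    have := Nat.le_of_dvd two_pos h3
    rcases h.card with e' | e' <;> omega
  · haveI : P.Normal := hn h.sylow
    obtain ⟨d, ρ, hρ, hρχ⟩ := χ.2
    have hdvd := finrank_dvd_index_of_abelian ρ P fun a ha b hb => h.comm ha hb
    have hd : Module.finrank ℂ (Fin d → ℂ) = charDegree (χ : G → ℂ) := by
      have h1 := (irr_one χ).1
      rw [← hρχ, ρ.char_one] at h1
      exact_mod_cast hρχ ▸ h1
    rw [hd] at hdvd
    exact h.odd_index (h2.trans hdvd)
  -- the direct factor is trivial
  let f : A →* G := e.symm.toMonoidHom.comp (MonoidHom.inr (Matrix.SpecialLinearGroup (Fin 2) F) A)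
  have hfn : f.range.Normal := by
    refine ⟨?_⟩
    rintro _ ⟨x, rfl⟩ g
    refine ⟨x, e.injective ?_⟩
    simp only [f, MonoidHom.comp_apply, MulEquiv.coe_toMonoidHom, map_mul, map_inv,
      MulEquiv.apply_symm_apply]
    refine Prod.ext ?_ ?_ <;> simp [mul_comm]
  have hfcard : ¬ 2 ∣ Nat.card f.range := fun hd => by
    have := hd.trans (Subgroup.card_range_dvd f)
    exact (Nat.not_even_iff_odd.2 hAodd) (even_iff_two_dvd.2 this)
  have hA1 : ∀ x : A, x = 1 := fun x => by
    have h1 : f x ∈ f.range := ⟨x, rfl⟩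
    rw [h.core _ hfn hfcard, Subgroup.mem_bot] at h1
    have h3 := congrArg e h1
    simp only [f, MonoidHom.comp_apply, MulEquiv.coe_toMonoidHom, MulEquiv.apply_symm_apply,
      map_one] at h3
    exact congrArg Prod.snd h3
  haveI : Unique A := { default := 1, uniq := hA1 }
  haveI := hF2
  let e' : G ≃* Matrix.ProjectiveSpecialLinearGroup (Fin 2) F :=
    (e.trans MulEquiv.prodUnique).trans CfsgLib.SL2Char2.slEquivPSL
  obtain ⟨n, -, hFn⟩ := FiniteField.card F 2
  have hcardG : Nat.card G = Fintype.card F * (Fintype.card F ^ 2 - 1) := by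
    rw [Nat.card_congr (e.trans MulEquiv.prodUnique).toEquiv]
    exact CfsgLib.SL2C.card_SL2_mul
  have hfac : (Nat.card G).factorization 2 = (n : ℕ) := by
    rw [hcardG, hFn, Nat.factorization_mul (by positivity) ?_, Finsupp.add_apply,
      Nat.prime_two.factorization_pow, Finsupp.single_eq_same,
      Nat.factorization_eq_zero_of_not_dvd ?_, add_zero]
    · intro hd
      have h4 : 2 ∣ (2 ^ (n : ℕ)) ^ 2 := dvd_pow (dvd_pow_self 2 n.pos.ne') two_ne_zero
      have h5 : 1 ≤ (2 ^ (n : ℕ)) ^ 2 := Nat.one_le_pow _ _ (by positivity)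
      omega
    · have : 2 ≤ 2 ^ (n : ℕ) := by
        calc 2 = 2 ^ 1 := rfl
          _ ≤ 2 ^ (n : ℕ) := Nat.pow_le_pow_right two_pos n.pos
      have : 4 ≤ (2 ^ (n : ℕ)) ^ 2 := by nlinarith
      omega
  have hF4 : 4 ≤ Fintype.card F := by
    have h1 : 3 ≤ (Nat.card G).factorization 2 := by
      obtain ⟨k, hk, hk3⟩ := h.card_eq_pow
      refine hk3.trans ((Nat.prime_two.pow_dvd_iff_le_factorization Nat.card_pos.ne').1 ?_)
      rw [← hk]
      exact Subgroup.card_subgroup_dvd_card P
    rw [hfac] at h1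
    rw [hFn]
    calc 4 ≤ 2 ^ 3 := by norm_num
      _ ≤ _ := Nat.pow_le_pow_right two_pos h1
  have hdegEq : charDegree ((irrComp e'.symm χ : IrrCharacter _) :
      Matrix.ProjectiveSpecialLinearGroup (Fin 2) F → ℂ) = charDegree (χ : G → ℂ) := by
    simp only [charDegree, irrComp_coe, map_one]
  have hq := (Cfsg.Agent.S4765.result 2 F hF4).2 (irrComp e'.symm χ) (hdegEq ▸ h2)
  rw [hdegEq] at hq
  have hsing := CfsgLib.SL2Blocks.blockOf_eq_singleton_of_degree hM χ (by
    rw [hq, hfac, hFn, Nat.prime_two.factorization_pow, Finsupp.single_eq_same])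
  have hPB : blockOf M (χ : G → ℂ) = principalBlock M G :=
    (eq_blockOf_of_mem isPBlock_principalBlock hχ).symm
  rw [hPB] at hsing
  have h1 : oneIrr G ∈ ({χ} : Set (IrrCharacter G)) := hsing ▸ oneIrr_mem_principalBlock
  rw [Set.mem_singleton_iff] at h1
  subst h1
  have : charDegree ((oneIrr G : IrrCharacter G) : G → ℂ) = 1 := by
    have := (irr_one (oneIrr G)).1
    rw [oneIrr_apply] at this
    exact_mod_cast this.symm
  rw [this] at h2
  omega

end CfsgLib.AbTwoOne
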