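import Cfsg.Agent.BlocksB.RankOneInvolution.Columns
import Cfsg.Agent.BlocksB.PrincipalNorm
import Cfsg.Agent.Char.LinearTwist
import Cfsg.Agent.Char.CenterValues
import Cfsg.Agent.S0215
import Mathlib.GroupTheory.Transfer
import Mathlib.GroupTheory.SchurZassenhaus

/-!
# Twisting the principal block by linear characters, and two quotients
-/

set_option autoImplicit false
set_option linter.style.haveILetI false
set_option linter.unusedSectionVars false

namespace CfsgLib.AbTwoOne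

open Cfsg Finset CfsgLib.Block CfsgLib.Block.Chr CfsgLib.Char CfsgLib.PrincipalNorm
open scoped Classical

universe u

variable {G : Type u} [Group G] [Fintype G] {M : Ideal AlgInt} [M.IsPrime]

local notation "C{" x "}" => Subgroup.centralizer ({x} : Set G)
local notation "N(" U ")" => Subgroup.normalizer (SetLike.coe U)

/-- An element normalising an abelian Sylow subgroup and fixing an element with 2-nilpotent
centralizer centralises the Sylow subgroup. -/
theorem centralizes_of_npc (P : Sylow 2 G) (hab : IsMulCommutative (P : Subgroup G)) {x : G}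
    (hxP : x ∈ (P : Subgroup G)) (hnpc : HasNormalPComplement 2 ↥C{x}) :
    ∀ n ∈ N((P : Subgroup G)), n * x = x * n → ∀ v ∈ (P : Subgroup G), n * v * n⁻¹ = v := by
  haveI : Fact (Nat.Prime 2) := ⟨Nat.prime_two⟩
  intro n hn hnx v hv
  have hle : (P : Subgroup G) ≤ C{x} := fun w hw => Subgroup.mem_centralizer_singleton_iff.2
    (congrArg Subtype.val (hab.is_comm.comm (⟨w, hw⟩ : (P : Subgroup G)) ⟨x, hxP⟩))
  obtain ⟨S, N, hN, hNS⟩ := hnpc
  haveI := hN
  let Q : Sylow 2 ↥C{x} := P.subtype hle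
  have hcard : Nat.card S = Nat.card Q := Sylow.card_eq_multiplicity S |>.trans
    (Sylow.card_eq_multiplicity Q).symm
  have hNodd : ¬ 2 ∣ Nat.card N := fun hd => S.not_dvd_index (hNS.index_eq_card.symm ▸ hd)
  have hcop : Nat.Coprime (Nat.card N) (Nat.card Q) := by
    obtain ⟨k, hk⟩ := IsPGroup.iff_card.1 Q.isPGroup'
    rw [hk]
    exact ((Nat.prime_two.coprime_iff_not_dvd).2 hNodd).symm.pow_right k
  have hQ : Subgroup.IsComplement' N (Q : Subgroup ↥C{x}) :=
    Subgroup.isComplement'_of_coprime (by rw [← hcard]; exact hNS.card_mul) hcop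
  have hncx : n ∈ C{x} := Subgroup.mem_centralizer_singleton_iff.2 hnx
  obtain ⟨⟨⟨k, hk⟩, ⟨p, hp⟩⟩, he, -⟩ := hQ.existsUnique (⟨n, hncx⟩ : ↥C{x})
  have hpP : (p : G) ∈ (P : Subgroup G) := hp
  have hnk : (k : G) * p = n := congrArg Subtype.val he
  have hkN : (k : G) ∈ N((P : Subgroup G)) := by
    have : (k : G) = n * (p : G)⁻¹ := by rw [← hnk, mul_inv_cancel_right]
    rw [this]
    exact mul_mem hn (inv_mem (Subgroup.le_normalizer hpP))
  have hcomm : ∀ a ∈ (P : Subgroup G), ∀ b ∈ (P : Subgroup G), a * b = b * a := fun a ha b hb =>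
    congrArg Subtype.val (hab.is_comm.comm (⟨a, ha⟩ : (P : Subgroup G)) ⟨b, hb⟩)
  set c : ↥C{x} := k * ⟨v, hle hv⟩ * k⁻¹ * (⟨v, hle hv⟩ : ↥C{x})⁻¹ with hc
  have hcN : c ∈ N := by
    rw [hc, show k * ⟨v, hle hv⟩ * k⁻¹ * (⟨v, hle hv⟩ : ↥C{x})⁻¹ =
      k * (⟨v, hle hv⟩ * k⁻¹ * (⟨v, hle hv⟩ : ↥C{x})⁻¹) by group]
    exact N.mul_mem hk (hN.conj_mem _ (N.inv_mem hk) _)
  have hcQ : c ∈ (Q : Subgroup ↥C{x}) := by
    show (c : G) ∈ (P : Subgroup G)
    simp only [hc, Subgroup.coe_mul, Subgroup.coe_inv]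
    exact mul_mem ((Subgroup.mem_normalizer_iff.1 hkN v).1 hv) (inv_mem hv)
  have hc1 : c = 1 := by
    have : c ∈ N ⊓ (Q : Subgroup ↥C{x}) := ⟨hcN, hcQ⟩
    rwa [hQ.disjoint.eq_bot, Subgroup.mem_bot] at this
  have hkv : (k : G) * v * (k : G)⁻¹ = v := by
    have h1 := congrArg Subtype.val hc1
    simp only [hc, Subgroup.coe_mul, Subgroup.coe_inv, Subgroup.coe_one] at h1
    exact mul_inv_eq_one.1 h1
  calc n * v * n⁻¹ = (k : G) * ((p : G) * v * (p : G)⁻¹) * (k : G)⁻¹ := by rw [← hnk]; group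
    _ = (k : G) * v * (k : G)⁻¹ := by rw [hcomm _ hpP v hv, mul_inv_cancel_right]
    _ = v := hkv

/-- The elements of the Sylow subgroup fixed by its normalizer. -/
def fixedPart (P : Subgroup G) : Subgroup G := P ⊓ Subgroup.centralizer (N(P) : Set G)

theorem mem_fixedPart {P : Subgroup G} {z : G} :
    z ∈ fixedPart P ↔ z ∈ P ∧ ∀ n ∈ N(P), n * z * n⁻¹ = z := by
  rw [fixedPart, Subgroup.mem_inf, Subgroup.mem_centralizer_iff]
  exact and_congr_right fun _ => forall₂_congr fun n _ => mul_inv_eq_iff_eq_mul.symm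

theorem fixed_fusion (P : Sylow 2 G) [IsMulCommutative (P : Subgroup G)] {z g : G}
    (hz : z ∈ fixedPart (P : Subgroup G)) (hg : g⁻¹ * z * g ∈ (P : Subgroup G)) :
    g⁻¹ * z * g = z := by
  haveI : Fact (Nat.Prime 2) := ⟨Nat.prime_two⟩
  obtain ⟨n, hn, he⟩ := P.conj_eq_normalizer_conj_of_mem z g (mem_fixedPart.1 hz).1 hg
  have h1 := (mem_fixedPart.1 hz).2 n⁻¹ (inv_mem hn)
  rw [inv_inv] at h1
  rw [he, h1]

/-- The transfer is injective on the fixed part. -/
theorem exists_transfer (P : Sylow 2 G) [IsMulCommutative (P : Subgroup G)] :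
    ∃ (T : G →* (P : Subgroup G)) (m : ℕ), Odd m ∧
      ∀ z ∈ fixedPart (P : Subgroup G), (T z : G) = z ^ m := by
  haveI : Fact (Nat.Prime 2) := ⟨Nat.prime_two⟩
  letI : CommGroup (P : Subgroup G) :=
    { (inferInstance : Group (P : Subgroup G)) with mul_comm := fun a b => IsMulCommutative.is_comm.comm a b }
  refine ⟨MonoidHom.transfer (MonoidHom.id (P : Subgroup G)), (P : Subgroup G).index, ?_, ?_⟩
  · rw [← Nat.not_even_iff_odd, even_iff_two_dvd]
    exact P.not_dvd_index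
  · intro z hz
    rw [MonoidHom.transfer_eq_pow (ϕ := MonoidHom.id (P : Subgroup G)) z fun k g₀ hmem => ?_]
    · rfl
    · exact fixed_fusion P (Subgroup.pow_mem _ hz k) hmem

theorem eq_one_of_odd_pow {A : Type*} [Group A] {a : A} {m k : ℕ} (hm : Odd m)
    (h2 : a ^ 2 ^ k = 1) (h : a ^ m = 1) : a = 1 := by
  refine orderOf_eq_one_iff.1 (Nat.eq_one_of_dvd_coprimes ?_ (orderOf_dvd_of_pow_eq_one h2)
    (orderOf_dvd_of_pow_eq_one h))
  exact Nat.Coprime.pow_left k ((Nat.prime_two.coprime_iff_not_dvd).2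
    fun hd => Nat.not_even_iff_odd.2 hm (even_iff_two_dvd.2 hd))

/-- Twist by a linear character trivial on the regular elements. -/
theorem twist_mem (hM : IsPModular 2 M) {χ : IrrCharacter G} (hχ : χ ∈ principalBlock M G)
    (P : Sylow 2 G) (lam : G →* ℂˣ) (T : G →* (P : Subgroup G)) (ψ : (P : Subgroup G) →* ℂˣ)
    (hlam : lam = ψ.comp T) :
    (⟨(χ : G → ℂ) * fun g => (lam g : ℂ), IsIrrCharacter.mul_hom χ.2 lam⟩ : IrrCharacter G) ∈
      principalBlock M G := by
  haveI : Fact (Nat.Prime 2) := ⟨Nat.prime_two⟩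
  rw [mem_principal_iff hM] at hχ ⊢
  convert hχ using 1
  simp only [regSum]
  refine sum_congr rfl fun g hg => ?_
  have h1 : T g = 1 := by
    obtain ⟨k, hk⟩ := IsPGroup.iff_card.1 P.isPGroup'
    refine orderOf_eq_one_iff.1 (Nat.eq_one_of_dvd_coprimes ?_ (orderOf_map_dvd T g)
      (orderOf_dvd_natCard (T g)))
    rw [hk]
    exact ((Nat.prime_two.coprime_iff_not_dvd).2 (mem_filter.1 hg).2).symm.pow_right k
  show (χ : G → ℂ) g * (lam g : ℂ) = (χ : G → ℂ) g
  rw [hlam, MonoidHom.comp_apply, h1, map_one, Units.val_one, mul_one]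

theorem sum_parity [Fintype (IrrCharacter G)] (hM : IsPModular 2 M) (P : Sylow 2 G) {x : G}
    (hx : orderOf x = 2) (hPx : (P : Subgroup G) ≤ C{x}) (hnpc : HasNormalPComplement 2 ↥C{x}) :
    ∃ a : IrrCharacter G → ℤ, (∀ χ : IrrCharacter G, (χ : G → ℂ) x = (a χ : ℂ) ∧
        (Odd (a χ) ↔ Odd (charDegree (χ : G → ℂ)))) ∧
      (∀ χ ∈ principalBlock M G, a χ ≠ 0) ∧
      ∑ χ ∈ univ.filter (· ∈ principalBlock M G), a χ * a χ = (Nat.card P : ℤ) := by
  haveI : Fact (Nat.Prime 2) := ⟨Nat.prime_two⟩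
  choose a ha hpar using fun χ : IrrCharacter G => exists_int_parity χ hx
  refine ⟨a, fun χ => ⟨ha χ, hpar χ⟩, fun χ hχ h0 => ?_, ?_⟩
  · exact apply_ne_zero hM P.not_dvd_index hPx hχ (by rw [ha, h0, Int.cast_zero])
  · have h1 := sum_sq_column hM P hx hPx hnpc
    rw [sum_congr rfl fun χ _ => by rw [ha χ]] at h1
    exact_mod_cast h1

/-- **Twisting**: a large fixed part forces all degrees odd. -/
theorem odd_of_fixedPart (hM : IsPModular 2 M) (P : Sylow 2 G) [IsMulCommutative (P : Subgroup G)]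
    {x : G} (hx : orderOf x = 2) (hxP : x ∈ (P : Subgroup G))
    (hnpc : HasNormalPComplement 2 ↥C{x})
    (hbig : Nat.card P < 5 * Nat.card (fixedPart (P : Subgroup G))) :
    ∀ χ ∈ principalBlock M G, Odd (charDegree (χ : G → ℂ)) := by
  haveI : Fact (Nat.Prime 2) := ⟨Nat.prime_two⟩
  letI := irrFintype (G := G)
  have hcomm : ∀ a b : (P : Subgroup G), a * b = b * a := fun a b => IsMulCommutative.is_comm.comm a b
  have hle : ∀ v ∈ (P : Subgroup G), (P : Subgroup G) ≤ C{v} := fun v hv w hw =>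
    Subgroup.mem_centralizer_singleton_iff.2 (congrArg Subtype.val (hcomm ⟨w, hw⟩ ⟨v, hv⟩))
  obtain ⟨a, ha, hne, hsum⟩ := sum_parity hM P hx (hle x hxP) hnpc
  obtain ⟨T, m, hm, hT⟩ := exists_transfer P
  set Z := (fixedPart (P : Subgroup G)).subgroupOf (P : Subgroup G) with hZ
  have hcardZ : Nat.card Z = Nat.card (fixedPart (P : Subgroup G)) :=
    Nat.card_congr (Subgroup.subgroupOfEquivOfLe inf_le_left).toEquiv
  letI : CommGroup (P : Subgroup G) :=
    { (inferInstance : Group (P : Subgroup G)) with mul_comm := hcomm }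
  haveI : NeZero (Monoid.exponent (P : Subgroup G) : ℂ) :=
    ⟨Nat.cast_ne_zero.2 Monoid.exponent_ne_zero_of_finite⟩
  choose ext hext using MonoidHom.domRestrict_surjective (M := ℂ) Z
  let tw : IrrCharacter G → (Z →* ℂˣ) → IrrCharacter G := fun χ φ =>
    ⟨(χ : G → ℂ) * fun g => (((ext φ).comp T) g : ℂ), IsIrrCharacter.mul_hom χ.2 _⟩
  have hinj : ∀ χ ∈ principalBlock M G, Function.Injective (tw χ) := by
    intro χ hχ φ φ' he
    refine MonoidHom.ext fun z => ?_
    have hzF : ((z : (P : Subgroup G)) : G) ∈ fixedPart (P : Subgroup G) := z.2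
    have h0 : (χ : G → ℂ) ((z : (P : Subgroup G)) : G) ≠ 0 :=
      apply_ne_zero hM P.not_dvd_index (hle _ (z : (P : Subgroup G)).2) hχ
    have h1 : (χ : G → ℂ) _ * ((ext φ (T ((z : (P : Subgroup G)) : G)) : ℂˣ) : ℂ) =
        (χ : G → ℂ) _ * ((ext φ' (T ((z : (P : Subgroup G)) : G)) : ℂˣ) : ℂ) :=
      congrFun (congrArg Subtype.val he) ((z : (P : Subgroup G)) : G)
    have h2 := Units.ext (mul_left_cancel₀ h0 h1)
    have hTz : T ((z : (P : Subgroup G)) : G) = (z : (P : Subgroup G)) ^ m :=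
      Subtype.ext (by rw [hT _ hzF, Subgroup.coe_pow])
    rw [hTz, map_pow, map_pow] at h2
    have e1 : ext φ (z : (P : Subgroup G)) = φ z := DFunLike.congr_fun (hext φ) z
    have e2 : ext φ' (z : (P : Subgroup G)) = φ' z := DFunLike.congr_fun (hext φ') z
    rw [e1, e2] at h2
    obtain ⟨k, hk⟩ := IsPGroup.iff_card.1 P.isPGroup'
    have hzk : z ^ 2 ^ k = 1 :=
      Subtype.ext (by rw [Subgroup.coe_pow, Subgroup.coe_one, ← hk]; exact pow_card_eq_one')
    refine mul_inv_eq_one.1 (eq_one_of_odd_pow (a := φ z * (φ' z)⁻¹) hm (k := k) ?_ ?_)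
    · rw [mul_pow, inv_pow, ← map_pow, ← map_pow, hzk, map_one, map_one, inv_one, mul_one]
    · rw [mul_pow, inv_pow, h2, mul_inv_cancel]
  have hmem : ∀ χ ∈ principalBlock M G, ∀ φ, tw χ φ ∈ principalBlock M G := fun χ hχ φ =>
    twist_mem hM hχ P _ T (ext φ) rfl
  have hval : ∀ χ φ, a (tw χ φ) * a (tw χ φ) = a χ * a χ := by
    intro χ φ
    have hu : ((((ext φ).comp T) x : ℂˣ) : ℂ) * (((ext φ).comp T) x : ℂˣ) = 1 := by
      have hxx : x * x = 1 := by
        have := pow_orderOf_eq_one x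
        rwa [hx, pow_two] at this
      rw [← Units.val_mul, ← map_mul, hxx, map_one, Units.val_one]
    have h1 : (a (tw χ φ) : ℂ) = (a χ : ℂ) * (((ext φ).comp T) x : ℂˣ) := by
      rw [← (ha (tw χ φ)).1, ← (ha χ).1]; rfl
    have h2 : ((a (tw χ φ) * a (tw χ φ) : ℤ) : ℂ) = ((a χ * a χ : ℤ) : ℂ) := by
      push_cast
      rw [h1]
      linear_combination ((a χ : ℂ) * (a χ : ℂ)) * hu
    exact_mod_cast h2
  intro χ hχ
  by_contra hodd
  have h1a : a (oneIrr G) = 1 := by
    exact_mod_cast ((oneIrr_apply (G := G) x).symm.trans (ha _).1).symm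
  have ha4 : 4 ≤ a χ * a χ := by
    have h1 : ¬ Odd (a χ) := fun e => hodd ((ha χ).2.1 e)
    obtain ⟨j, hj⟩ := Int.not_odd_iff_even.1 h1
    have := hne χ hχ
    have hj0 : j ≠ 0 := fun e => this (by rw [hj, e]; rfl)
    have : 1 ≤ j * j := by nlinarith [mul_self_pos.2 hj0]
    rw [hj]; nlinarith
  haveI := Fintype.ofFinite Z
  haveI := CfsgLib.SL2C.finite_dual (A := Z)
  haveI := Fintype.ofFinite (Z →* ℂˣ)
  set O1 := (univ : Finset (Z →* ℂˣ)).image (tw (oneIrr G)) with hO1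
  set O2 := (univ : Finset (Z →* ℂˣ)).image (tw χ) with hO2
  have hcd : (univ : Finset (Z →* ℂˣ)).card = Nat.card (fixedPart (P : Subgroup G)) := by
    rw [card_univ, ← Nat.card_eq_fintype_card, ← hcardZ, CfsgLib.Char.card_hom_eq_index_commutator]
    have : commutator Z = ⊥ := by
      rw [commutator_def, Subgroup.commutator_eq_bot_iff_le_centralizer]
      exact fun a _ => Subgroup.mem_centralizer_iff.2 fun b _ => mul_comm b a
    rw [this, Subgroup.index_bot]
  have hs1 : ∑ ξ ∈ O1, a ξ * a ξ = (Nat.card (fixedPart (P : Subgroup G)) : ℤ) := by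
    rw [hO1, sum_image fun _ _ _ _ e => hinj _ oneIrr_mem_principalBlock e,
      sum_congr rfl fun φ _ => (hval _ φ).trans (by rw [h1a, mul_one]), sum_const, hcd,
      nsmul_eq_mul, mul_one]
  have hs2 : 4 * (Nat.card (fixedPart (P : Subgroup G)) : ℤ) ≤ ∑ ξ ∈ O2, a ξ * a ξ := by
    rw [hO2, sum_image fun _ _ _ _ e => hinj χ hχ e, sum_congr rfl fun φ _ => hval χ φ, sum_const,
      hcd, nsmul_eq_mul, mul_comm (4 : ℤ)]
    exact mul_le_mul_of_nonneg_left ha4 (Int.natCast_nonneg _)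
  have hdisj : Disjoint O1 O2 := by
    rw [Finset.disjoint_left]
    rintro ξ h1 h2
    obtain ⟨φ, -, rfl⟩ := mem_image.1 h1
    obtain ⟨φ', -, he⟩ := mem_image.1 h2
    have e := hval χ φ'
    rw [he, hval, h1a] at e
    omega
  have hsub : O1 ∪ O2 ⊆ univ.filter (· ∈ principalBlock M G) := by
    intro ξ hξ
    refine mem_filter.2 ⟨mem_univ _, ?_⟩
    rcases mem_union.1 hξ with h | h <;> obtain ⟨φ, -, rfl⟩ := mem_image.1 h
    · exact hmem _ oneIrr_mem_principalBlock φ
    · exact hmem _ hχ φ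
  have h5 := sum_le_sum_of_subset_of_nonneg hsub (f := fun ξ => a ξ * a ξ)
    fun ξ _ _ => mul_self_nonneg _
  rw [sum_union hdisj, hsum] at h5
  omega

/-- Inflation from the quotient by a normal subgroup of odd order. -/
theorem exists_quotient_principal (hM : IsPModular 2 M) (N : Subgroup G) [N.Normal]
    (hN : ¬ 2 ∣ Nat.card N) [Fintype (G ⧸ N)] {χ : IrrCharacter G} (hχ : χ ∈ principalBlock M G) :
    ∃ φ ∈ principalBlock M (G ⧸ N),
      charDegree (φ : G ⧸ N → ℂ) = charDegree (χ : G → ℂ) := by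
  haveI : Fact (Nat.Prime 2) := ⟨Nat.prime_two⟩
  letI := irrFintype (G := G)
  letI := irrFintype (G := G ⧸ N)
  have h1 := sum_quotient hM N hN (fun f : G → ℂ => if f = (χ : G → ℂ) then (1 : ℕ) else 0)
  rw [finsum_set_eq, finsum_set_eq] at h1
  have hpos : 0 < ∑ ξ ∈ univ.filter (· ∈ principalBlock M G),
      if (ξ : G → ℂ) = (χ : G → ℂ) then (1 : ℕ) else 0 := by
    rw [sum_eq_single χ]
    · simp
    · intro ξ _ hne
      exact if_neg fun e => hne (Subtype.ext e)
    · intro h; exact absurd (mem_filter.2 ⟨mem_univ χ, hχ⟩) h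
  rw [h1] at hpos
  obtain ⟨φ, hφ, hne⟩ := exists_ne_zero_of_sum_ne_zero hpos.ne'
  refine ⟨φ, (mem_filter.1 hφ).2, ?_⟩
  have he : (φ : G ⧸ N → ℂ) ∘ QuotientGroup.mk = (χ : G → ℂ) := by
    by_contra h; exact hne (if_neg h)
  rw [charDegree, charDegree, ← he]
  rfl

/-- Inflation from the quotient by a central involution of the fixed part. -/
theorem exists_central_quotient (hM : IsPModular 2 M) (P : Sylow 2 G)
    [IsMulCommutative (P : Subgroup G)] {z : G} (hz : orderOf z = 2)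
    (hzF : z ∈ fixedPart (P : Subgroup G)) (hzc : z ∈ Subgroup.center G)
    [(Subgroup.zpowers z).Normal] [Fintype (G ⧸ Subgroup.zpowers z)] {χ : IrrCharacter G}
    (hχ : χ ∈ principalBlock M G) :
    ∃ φ ∈ principalBlock M (G ⧸ Subgroup.zpowers z),
      charDegree (φ : G ⧸ Subgroup.zpowers z → ℂ) = charDegree (χ : G → ℂ) := by
  haveI : Fact (Nat.Prime 2) := ⟨Nat.prime_two⟩
  set Z := Subgroup.zpowers z with hZ
  have hzz : z * z = 1 := by rw [← pow_two, ← hz, pow_orderOf_eq_one]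
  have hmemZ : ∀ {y : G}, y ∈ Z → y = 1 ∨ y = z := by
    intro y hy
    obtain ⟨k, rfl⟩ := Subgroup.mem_zpowers_iff.1 hy
    rcases Int.even_or_odd k with ⟨j, rfl⟩ | ⟨j, rfl⟩
    · left; rw [zpow_add, ← (Commute.refl z).mul_zpow, hzz, one_zpow]
    · right; rw [two_mul, zpow_add, zpow_add, zpow_one, ← (Commute.refl z).mul_zpow, hzz, one_zpow,
        one_mul]
  obtain ⟨T, m, hm, hT⟩ := exists_transfer P
  obtain ⟨χ', hχ', hdeg, hker⟩ : ∃ χ' ∈ principalBlock M G,
      charDegree ((χ' : IrrCharacter G) : G → ℂ) = charDegree (χ : G → ℂ) ∧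
      (χ' : G → ℂ) z = (χ' : G → ℂ) 1 := by
    have h1 := IsIrrCharacter.apply_center_mul χ.2 hzc z
    rw [hzz] at h1
    have hn := irr_one_ne_zero χ
    have h2 : ((χ : G → ℂ) z - (χ : G → ℂ) 1) * ((χ : G → ℂ) z + (χ : G → ℂ) 1) = 0 := by
      field_simp at h1
      linear_combination -h1
    rcases mul_eq_zero.1 h2 with h3 | h3
    · exact ⟨χ, hχ, rfl, sub_eq_zero.1 h3⟩
    have hTz : (T z : (P : Subgroup G)) = ⟨z, (mem_fixedPart.1 hzF).1⟩ := by
      refine Subtype.ext ?_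
      rw [hT z hzF]
      obtain ⟨j, rfl⟩ := hm
      show z ^ (2 * j + 1) = z
      rw [pow_succ, pow_mul, pow_two, hzz, one_pow, one_mul]
    haveI := CfsgLib.Char.finite_irrCharacter (P : Subgroup G)
    obtain ⟨ψ, hψ⟩ := CfsgLib.SL2C.exists_char_ne_one (A := (P : Subgroup G))
      (fun a b => IsMulCommutative.is_comm.comm a b)
      (show T z ≠ 1 by
        rw [hTz]; intro e
        rw [show z = 1 from congrArg Subtype.val e, orderOf_one] at hz
        omega)
    have hval : ((ψ (T z) : ℂˣ) : ℂ) = -1 := by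
      have : ((ψ (T z) : ℂˣ) : ℂ) * (ψ (T z) : ℂˣ) = 1 := by
        rw [← Units.val_mul, ← map_mul, ← map_mul, hzz, map_one, map_one, Units.val_one]
      exact (mul_self_eq_one_iff.1 this).resolve_left fun e => hψ (Units.ext e)
    refine ⟨_, twist_mem hM hχ P (ψ.comp T) T ψ rfl, ?_, ?_⟩
    · simp [charDegree]
    · show (χ : G → ℂ) z * ((ψ (T z) : ℂˣ) : ℂ) = (χ : G → ℂ) 1 * ((ψ (T 1) : ℂˣ) : ℂ)
      rw [map_one T, map_one ψ, Units.val_one, mul_one, hval, eq_neg_of_add_eq_zero_left h3,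
        neg_mul_neg, mul_one]
  obtain ⟨φ, hφ⟩ := exists_quotient_irr Z χ' (fun n hn => by
    rcases hmemZ hn with rfl | rfl
    · rfl
    · exact hker)
  refine ⟨φ, ?_, ?_⟩
  swap
  · rw [← hdeg, charDegree, charDegree, hφ 1]
    rfl
  rw [mem_principal_iff hM] at hχ' ⊢
  convert hχ' using 1
  symm
  refine sum_bij (fun g _ => (g : G ⧸ Z)) (fun g hg => ?_) (fun g hg g' hg' he => ?_)
    (fun q hq => ?_) fun g _ => hφ g
  · refine mem_filter.2 ⟨mem_univ _, fun hd => (mem_filter.1 hg).2 ?_⟩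
    exact hd.trans (orderOf_map_dvd (QuotientGroup.mk' Z) g)
  · rcases hmemZ (QuotientGroup.eq.1 he) with e | e
    · exact inv_mul_eq_one.1 e
    exfalso
    have hcm : Commute g⁻¹ g' := by
      have : g' = g * z := eq_mul_of_inv_mul_eq e
      rw [this]
      exact (Commute.inv_left (Commute.refl g)).mul_right
        (Subgroup.mem_center_iff.1 hzc g⁻¹)
    have hodd : ¬ 2 ∣ orderOf (g⁻¹ * g') := by
      intro hd
      have h2 := hd.trans (hcm.orderOf_mul_dvd_lcm)
      rw [orderOf_inv] at h2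
      exact ((Nat.prime_two.dvd_mul).1 (h2.trans (Nat.lcm_dvd_mul _ _))).elim
        (mem_filter.1 hg).2 (mem_filter.1 hg').2
    rw [e, hz] at hodd
    exact hodd dvd_rfl
  · obtain ⟨g, rfl⟩ := QuotientGroup.mk_surjective q
    have hodd := (mem_filter.1 hq).2
    set k := orderOf (g : G ⧸ Z) with hk
    have hgk : g ^ k ∈ Z := by
      rw [← QuotientGroup.eq_one_iff, QuotientGroup.mk_pow, hk, pow_orderOf_eq_one]
    rcases hmemZ hgk with e | e
    · exact ⟨g, mem_filter.2 ⟨mem_univ _, fun hd => hodd (hd.trans (orderOf_dvd_of_pow_eq_one e))⟩, rfl⟩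
    · refine ⟨g * z, mem_filter.2 ⟨mem_univ _, fun hd => hodd (hd.trans (orderOf_dvd_of_pow_eq_one ?_))⟩, ?_⟩
      · have hcm : Commute g z := Subgroup.mem_center_iff.1 hzc g
        obtain ⟨j, hj⟩ : Odd k := by rw [← Nat.not_even_iff_odd, even_iff_two_dvd]; exact hodd
        rw [hcm.mul_pow, e, hj, pow_succ, pow_mul, pow_two, hzz, one_pow, one_mul, hzz]
      · show ((g * z : G) : G ⧸ Z) = (g : G ⧸ Z)
        refine QuotientGroup.eq.2 ?_
        rw [mul_inv_rev, mul_assoc, inv_mul_cancel, mul_one]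
        exact Z.inv_mem (Subgroup.mem_zpowers z)

/-- With trivial core an involution of the fixed part is central. -/
theorem central_of_fixedPart (P : Sylow 2 G) [IsMulCommutative (P : Subgroup G)]
    (hcore : ∀ K : Subgroup G, K.Normal → ¬ 2 ∣ Nat.card K → K = ⊥) {z : G} (hz : orderOf z = 2)
    (hzF : z ∈ fixedPart (P : Subgroup G)) : z ∈ Subgroup.center G := by
  obtain ⟨N, hNn, hNodd, hN⟩ := Cfsg.Agent.S0215.result P z hz (mem_fixedPart.1 hzF).1 fun g hg => by
    have h1 := fixed_fusion P hzF (g := g⁻¹) (by rwa [inv_inv])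
    rwa [inv_inv] at h1
  have hbot := hcore N hNn fun hd => Nat.not_even_iff_odd.2 hNodd (even_iff_two_dvd.2 hd)
  refine Subgroup.mem_center_iff.2 fun g => ?_
  have h1 := hN g
  rw [hbot, Subgroup.mem_bot, mul_inv_eq_one, mul_inv_eq_iff_eq_mul] at h1
  exact h1.symm

/-- Lifting elements normalising the image of a Sylow subgroup. -/
theorem exists_lift_normalizer {H : Type u} [Group H] (P : Sylow 2 G) (f : G →* H) {n : G}
    (hn : f n ∈ Subgroup.normalizer (((P : Subgroup G).map f : Subgroup H) : Set H)) :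
    ∃ n' ∈ N((P : Subgroup G)), f n' = f n := by
  haveI : Fact (Nat.Prime 2) := ⟨Nat.prime_two⟩
  set L := ((P : Subgroup G).map f).comap f with hL
  have hle : (P : Subgroup G) ≤ L := Subgroup.le_comap_map f _
  have hle' : ((n • P : Sylow 2 G) : Subgroup G) ≤ L := by
    rw [Sylow.coe_subgroup_smul]
    intro y hy
    rw [Subgroup.mem_pointwise_smul_iff_inv_smul_mem] at hy
    rw [hL, Subgroup.mem_comap]
    have h1 : f n⁻¹ * f y * f n ∈ (P : Subgroup G).map f := by
      rw [← map_mul, ← map_mul]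
      exact Subgroup.mem_map_of_mem f (by simpa using hy)
    have h2 := (Subgroup.mem_normalizer_iff.1 hn _).1 h1
    simpa [mul_assoc] using h2
  obtain ⟨l, hl⟩ := MulAction.exists_smul_eq L ((n • P).subtype hle') (P.subtype hle)
  have hl' : (l : G) • (n • P) = P := by
    rw [Sylow.smul_subtype] at hl
    exact Sylow.subtype_injective hl
  rw [smul_smul, Sylow.smul_eq_iff_mem_normalizer] at hl'
  obtain ⟨p, hp, hpe⟩ := Subgroup.mem_map.1 (show f l ∈ (P : Subgroup G).map f from l.2)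
  refine ⟨p⁻¹ * ((l : G) * n), mul_mem (inv_mem (Subgroup.le_normalizer hp)) hl', ?_⟩
  rw [map_mul, map_mul, map_inv, hpe, ← mul_assoc, inv_mul_cancel, one_mul]

end CfsgLib.AbTwoOne
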