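import Cfsg.Agent.BlocksB.RankOneInvolution.Hard
import Cfsg.Agent.BlocksB.RankOneInvolution.Reduce
import Cfsg.Agent.BlocksB.RankOneInvolution.Action
import Cfsg.Agent.BlocksB.E16Nine.Main
import Cfsg.Agent.S4721
import Cfsg.Agent.Solvable.Basics

/-!
# An abelian Sylow 2-subgroup and an involution with 2-nilpotent centralizer
-/

set_option autoImplicit false
set_option linter.style.haveILetI false
set_option linter.unusedSectionVars false

namespace CfsgLib.AbTwoOne

open Cfsg Finset CfsgLib.Block CfsgLib.Block.Chr CfsgLib.Char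
open scoped Classical

universe u

variable {G : Type u} [Group G] [Fintype G] {M : Ideal AlgInt} [M.IsPrime]

local notation "C{" x "}" => Subgroup.centralizer ({x} : Set G)
local notation "N(" U ")" => Subgroup.normalizer (SetLike.coe U)

/-- The hypotheses `Free` in an image. -/
theorem free_of_map {H : Type u} [Group H] [Finite H] (P : Sylow 2 G)
    (hcomm : ∀ a ∈ (P : Subgroup G), ∀ b ∈ (P : Subgroup G), a * b = b * a) (f : G →* H)
    (hf : Function.Surjective f) (hcard : Nat.card ((P : Subgroup G).map f) = 8 ∨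
      Nat.card ((P : Subgroup G).map f) = 16)
    (hsq : ∀ v ∈ (P : Subgroup G), f (v * v) = 1)
    (hcore : ∀ K : Subgroup H, K.Normal → ¬ 2 ∣ Nat.card K → K = ⊥)
    (hfree : ∀ n ∈ N((P : Subgroup G)), ∀ v ∈ (P : Subgroup G), f v ≠ 1 →
      f (n * v * n⁻¹) = f v → ∀ w ∈ (P : Subgroup G), n * w * n⁻¹ = w) :
    Free ((P : Subgroup G).map f) := by
  haveI : Fact (Nat.Prime 2) := ⟨Nat.prime_two⟩
  refine ⟨?_, hcard, (P.mapSurjective hf).not_dvd_index, hcore, ?_⟩
  · rintro _ ⟨v, hv, rfl⟩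
    rw [← map_mul]
    exact hsq v hv
  · rintro n hn _ ⟨v, hv, rfl⟩ hv1 hfix _ ⟨w, hw, rfl⟩
    obtain ⟨n₀, rfl⟩ := hf n
    obtain ⟨n', hn', he⟩ := exists_lift_normalizer P f hn
    rw [← he] at hfix ⊢
    rw [← map_inv, ← map_mul, ← map_mul] at hfix ⊢
    rw [hfree n' hn' v hv hv1 hfix w hw]

theorem core_quotient (K : Subgroup (G ⧸ pPrimeCore 2 G)) [(pPrimeCore 2 G).Normal]
    (hK : K.Normal) (hodd : ¬ 2 ∣ Nat.card K) : K = ⊥ := by
  haveI : Fact (Nat.Prime 2) := ⟨Nat.prime_two⟩
  set O := pPrimeCore 2 G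
  set L := K.comap (QuotientGroup.mk' O) with hL
  have hLn : L.Normal := hK.comap _
  have hcop : (Nat.card L).Coprime 2 := by
    refine ((Nat.prime_two.coprime_iff_not_dvd).2 fun hd => ?_).symm
    obtain ⟨t, ht⟩ := exists_prime_orderOf_dvd_card' (G := L) 2 hd
    rw [← Subgroup.orderOf_coe] at ht
    by_cases htO : ((t : G) : G ⧸ O) = 1
    · have h1 : (t : G) ∈ O := (QuotientGroup.eq_one_iff _).1 htO
      have h2 := Subgroup.orderOf_dvd_natCard O h1
      rw [ht] at h2
      exact Nat.prime_two.ne_one (Nat.eq_one_of_dvd_coprimes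
        (CfsgLib.Solvable.coprime_card_pPrimeCore (G := G) 2) h2 dvd_rfl)
    · have h1 : orderOf ((t : G) : G ⧸ O) = 2 :=
        ((Nat.dvd_prime Nat.prime_two).1 (ht ▸ orderOf_map_dvd (QuotientGroup.mk' O) (t : G))).resolve_left
          fun e => htO (orderOf_eq_one_iff.1 e)
      have h2 : orderOf ((t : G) : G ⧸ O) ∣ Nat.card K := Subgroup.orderOf_dvd_natCard K t.2
      rw [h1] at h2
      exact hodd h2
  have hle := CfsgLib.Solvable.le_pPrimeCore 2 hLn hcop
  refine (Subgroup.eq_bot_iff_forall _).2 fun q hq => ?_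
  obtain ⟨g, rfl⟩ := QuotientGroup.mk'_surjective O q
  exact (QuotientGroup.eq_one_iff g).2 (hle hq)

/-- All degrees odd, or one of two counts. -/
theorem odd_or_count (hM : IsPModular 2 M) (P : Sylow 2 G) [hab : IsMulCommutative (P : Subgroup G)]
    (hq : Nat.card (P : Subgroup G) = 8 ∨ Nat.card (P : Subgroup G) = 16) {x : G}
    (hx : orderOf x = 2) (hxP : x ∈ (P : Subgroup G)) (hnpc : HasNormalPComplement 2 ↥C{x}) :
    (∀ χ ∈ principalBlock M G, Odd (charDegree (χ : G → ℂ))) ∨
      (Nat.card (P : Subgroup G) = 16 ∧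
        (Nat.card (principalBlock M G) = 8 ∨ Nat.card (principalBlock M G) = 16)) := by
  haveI : Fact (Nat.Prime 2) := ⟨Nat.prime_two⟩
  set Z := fixedPart (P : Subgroup G) with hZ
  by_cases hbig : Nat.card (P : Subgroup G) < 5 * Nat.card Z
  · exact Or.inl (odd_of_fixedPart hM P hx hxP hnpc hbig)
  have hcomm : ∀ a ∈ (P : Subgroup G), ∀ b ∈ (P : Subgroup G), a * b = b * a := fun a ha b hb =>
    congrArg Subtype.val (hab.is_comm.comm (⟨a, ha⟩ : (P : Subgroup G)) ⟨b, hb⟩)
  have hxfree := centralizes_of_npc P hab hxP hnpc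
  letI : CommGroup (P : Subgroup G) :=
    { (inferInstance : Group (P : Subgroup G)) with mul_comm := fun a b => hab.is_comm.comm a b }
  -- the automorphisms induced by the normalizer
  set ν := (P : Subgroup G).normalizerMonoidHom with hν
  set E := ν.range with hE
  have hνapp : ∀ (n : N((P : Subgroup G))) (v : (P : Subgroup G)),
      ((ν n v : (P : Subgroup G)) : G) = (n : G) * v * (n : G)⁻¹ := fun n v => rfl
  have hcardE : Nat.card E = (Subgroup.centralizer ((P : Subgroup G) : Set G)).relIndex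
      N((P : Subgroup G)) := by
    rw [hE, ← Subgroup.index_ker, hν, Subgroup.normalizerMonoidHom_ker]
    rfl
  have hodd : Odd (Nat.card E) := by
    have hle : (P : Subgroup G) ≤ Subgroup.centralizer ((P : Subgroup G) : Set G) := fun a ha =>
      Subgroup.mem_centralizer_iff.2 fun b hb => hcomm b hb a ha
    rw [hcardE, ← Nat.not_even_iff_odd, even_iff_two_dvd]
    exact fun hd => P.not_dvd_index ((hd.trans (Subgroup.relIndex_dvd_of_le_left _ hle)).trans
      (Subgroup.relIndex_dvd_index_of_le Subgroup.le_normalizer))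
  have htriv : ∀ n : N((P : Subgroup G)), ν n = 1 →
      ∀ w ∈ (P : Subgroup G), (n : G) * w * (n : G)⁻¹ = w := fun n hn w hw => by
    have := hνapp n ⟨w, hw⟩
    rw [hn] at this
    exact this.symm
  set x' : (P : Subgroup G) := ⟨x, hxP⟩ with hx'def
  have hx' : orderOf x' = 2 := by rw [← Subgroup.orderOf_coe]; exact hx
  have hfreex : ∀ α ∈ E, α x' = x' → α = 1 := by
    rintro _ ⟨n, rfl⟩ he
    have h1 : (n : G) * x * (n : G)⁻¹ = x := (hνapp n x').symm.trans (congrArg Subtype.val he)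
    refine MulEquiv.ext fun v => Subtype.ext ?_
    rw [hνapp, hxfree _ n.2 (mul_inv_eq_iff_eq_mul.1 h1) _ v.2]
    rfl
  have hfixZ : ∀ y : (P : Subgroup G), (∀ α ∈ E, α y = y) → (y : G) ∈ Z := fun y hy =>
    mem_fixedPart.2 ⟨y.2, fun n hn =>
      (hνapp ⟨n, hn⟩ y).symm.trans (congrArg Subtype.val (hy _ ⟨⟨n, hn⟩, rfl⟩))⟩
  have hOn : (pPrimeCore 2 G).Normal := CfsgLib.Solvable.pPrimeCore_normal 2
  set O := pPrimeCore 2 G with hO
  haveI := hOn
  haveI : Fintype (G ⧸ O) := Fintype.ofFinite _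
  have hOodd : ¬ 2 ∣ Nat.card O := fun hd => Nat.prime_two.ne_one (Nat.eq_one_of_dvd_coprimes
    (CfsgLib.Solvable.coprime_card_pPrimeCore (G := G) 2) hd dvd_rfl)
  have hPO : ∀ v ∈ (P : Subgroup G), (v : G ⧸ O) = 1 → v = 1 := by
    intro v hv he
    obtain ⟨k, hk⟩ := IsPGroup.iff_card.1 P.isPGroup'
    refine orderOf_eq_one_iff.1 (Nat.eq_one_of_dvd_coprimes ?_
      (Subgroup.orderOf_dvd_natCard O ((QuotientGroup.eq_one_iff v).1 he))
      (hk ▸ Subgroup.orderOf_dvd_natCard (P : Subgroup G) hv))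
    exact ((Nat.prime_two.coprime_iff_not_dvd).2 hOodd).symm.pow_right k
  set f := QuotientGroup.mk' O with hfdef
  have hfinj : ∀ a ∈ (P : Subgroup G), ∀ b ∈ (P : Subgroup G), f a = f b → a = b :=
    fun a ha b hb he => mul_inv_eq_one.1 (hPO _ (mul_mem ha (inv_mem hb))
      (by show f (a * b⁻¹) = 1; rw [map_mul, map_inv, he, mul_inv_cancel]))
  have hcardP : Nat.card ((P : Subgroup G).map f) = Nat.card (P : Subgroup G) := by
    refine (Nat.card_congr (Equiv.ofBijective
      (fun v : (P : Subgroup G) => (⟨f v, Subgroup.mem_map_of_mem f v.2⟩ : (P : Subgroup G).map f))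
      ⟨fun a b he => Subtype.ext (hfinj a a.2 b b.2 (congrArg Subtype.val he)), ?_⟩)).symm
    rintro ⟨_, v, hv, rfl⟩
    exact ⟨⟨v, hv⟩, rfl⟩
  -- the degrees, read in the quotient
  have hquot : (∀ φ ∈ principalBlock M (G ⧸ O), Odd (charDegree (φ : G ⧸ O → ℂ))) →
      ∀ χ ∈ principalBlock M G, Odd (charDegree (χ : G → ℂ)) := fun hall χ hχ => by
    obtain ⟨φ, hφ, he⟩ := exists_quotient_principal hM O hOodd hχ
    exact he ▸ hall φ hφ
  by_cases hZ1 : Nat.card Z = 1
  · have hfix : ∀ y : (P : Subgroup G), (∀ α ∈ E, α y = y) → y = 1 := fun y hy => by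
      have h1 := hfixZ y hy
      rw [Subgroup.eq_bot_of_card_eq Z hZ1, Subgroup.mem_bot] at h1
      exact Subtype.ext h1
    have hfreeG : (∀ α ∈ E, ∀ y, y ≠ 1 → α y = y → α = 1) →
        ∀ n ∈ N((P : Subgroup G)), ∀ v ∈ (P : Subgroup G), v ≠ 1 → n * v * n⁻¹ = v →
          ∀ w ∈ (P : Subgroup G), n * w * n⁻¹ = w := fun hfr n hn v hv hv1 he =>
      htriv ⟨n, hn⟩ (hfr _ ⟨⟨n, hn⟩, rfl⟩ ⟨v, hv⟩ (fun e => hv1 (congrArg Subtype.val e))
        (Subtype.ext he))
    rcases classify E hq hodd hx' hfreex hfix with ⟨hel, hfr⟩ | ⟨h16, h3, hfr⟩ | ⟨h16, hel, h9⟩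
    · have hF : Free ((P : Subgroup G).map f) := by
        refine free_of_map P hcomm f (QuotientGroup.mk'_surjective O) (by rw [hcardP]; exact hq)
          (fun v hv => ?_) (fun K hK h2 => core_quotient K hK h2) fun n hn v hv hv1 he => ?_
        · rw [show v * v = 1 from congrArg Subtype.val (hel ⟨v, hv⟩), map_one]
        · exact hfreeG hfr n hn v hv (fun e => hv1 (by rw [e, map_one]))
            (hfinj _ ((Subgroup.mem_normalizer_iff.1 hn v).1 hv) v hv he)
      exact Or.inl (hquot fun φ hφ => hF.odd_degree hM hφ)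
    · refine Or.inr ⟨h16, Or.inl ?_⟩
      have hCN := hcardE.symm.trans h3
      have hcent : ∀ {n : G}, n ∈ Subgroup.centralizer ((P : Subgroup G) : Set G) →
          n ∈ N((P : Subgroup G)) := fun {n} hn =>
        Subgroup.centralizer_le_normalizer (SetLike.coe (P : Subgroup G)) hn
      obtain ⟨X, Y, hB, hdisj, hX, hY, -⟩ := Cfsg.Agent.S4721.result 2 M hM P hab
        (by omega) hCN (by
          obtain ⟨g, hgN, hg⟩ : ∃ g ∈ N((P : Subgroup G)),
              g ∉ Subgroup.centralizer ((P : Subgroup G) : Set G) := by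
            by_contra hall
            push Not at hall
            rw [Subgroup.relIndex_eq_one.2 hall] at hCN
            omega
          refine ⟨g, hgN, ?_⟩
          set C := Subgroup.centralizer ((P : Subgroup G) : Set G)
          set L := C ⊔ Subgroup.zpowers g
          have hLN : L ≤ N((P : Subgroup G)) :=
            sup_le (fun n hn => hcent hn) (Subgroup.zpowers_le.2 hgN)
          have h1 : C.relIndex L * L.relIndex N((P : Subgroup G)) = 3 := by
            rw [Subgroup.relIndex_mul_relIndex _ _ _ le_sup_left hLN, hCN]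
          refine le_antisymm hLN (Subgroup.relIndex_eq_one.1 ?_)
          rcases (Nat.dvd_prime Nat.prime_three).1 (Dvd.intro _ h1) with e | e
          · exact absurd (Subgroup.relIndex_eq_one.1 e
              (Subgroup.mem_sup_right (Subgroup.mem_zpowers g))) hg
          · rw [e] at h1; omega)
        (by omega) (fun y hy hy1 => by
          refine le_antisymm (fun n hn => ?_) fun n hn => ?_
          · refine Subgroup.mem_centralizer_iff.2 fun w hw => ?_
            exact (mul_inv_eq_iff_eq_mul.1 (hfreeG hfr n hn.2 y hy hy1 (mul_inv_eq_iff_eq_mul.2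
              (Subgroup.mem_centralizer_singleton_iff.1 hn.1)) w hw)).symm
          · exact ⟨Subgroup.mem_centralizer_singleton_iff.2
              (Subgroup.mem_centralizer_iff.1 hn y hy).symm, hcent hn⟩)
      haveI := CfsgLib.Char.finite_irrCharacter G
      rw [hB, Nat.card_coe_set_eq, Set.ncard_union_eq hdisj, ← Nat.card_coe_set_eq,
        ← Nat.card_coe_set_eq, hX, hY]
      omega
    · refine Or.inr ⟨h16, Or.inr ?_⟩
      obtain ⟨W₁, W₂, hnine⟩ := CfsgLib.E16.exists_nine
        (V := (P : Subgroup G)) ⟨h16, fun v hv => congrArg Subtype.val (hel ⟨v, hv⟩),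
          P.not_dvd_index⟩ (hcardE.symm.trans h9)
      exact (CfsgLib.E16.nine_counts hM hnine).1
  -- two fixed points
  have hZ2 : Nat.card Z = 2 ∧ Nat.card (P : Subgroup G) = 16 := by
    have hdvd : Nat.card Z ∣ Nat.card (P : Subgroup G) := Subgroup.card_dvd_of_le inf_le_left
    have hpos : 0 < Nat.card Z := Nat.card_pos
    have h5 := not_lt.1 hbig
    rcases hq with e | e <;> rw [e] at hdvd h5
    · have : Nat.card Z ≤ 1 := by omega
      omega
    · refine ⟨?_, e⟩
      have : Nat.card Z ≤ 3 := by omega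
      interval_cases hk : Nat.card Z <;> omega
  obtain ⟨hZc, h16⟩ := hZ2
  obtain ⟨z, hz⟩ := exists_prime_orderOf_dvd_card' (G := Z) 2 (by rw [hZc])
  rw [← Subgroup.orderOf_coe] at hz
  have hz1 : (z : G) ≠ 1 := fun e => by rw [e, orderOf_one] at hz; omega
  have hzP : (z : G) ∈ (P : Subgroup G) := (mem_fixedPart.1 z.2).1
  set z' : (P : Subgroup G) := ⟨z, hzP⟩ with hz'def
  have hZmem : ∀ y ∈ Z, y = 1 ∨ y = (z : G) := by
    intro y hy
    haveI := Fintype.ofFinite Z
    have huniv : ({1, z} : Finset Z) = univ := eq_univ_of_card _ (by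
      rw [card_pair (fun e => hz1 (congrArg Subtype.val e).symm), ← Nat.card_eq_fintype_card, hZc])
    have h1 : (⟨y, hy⟩ : Z) ∈ ({1, z} : Finset Z) := by rw [huniv]; exact mem_univ _
    rcases mem_insert.1 h1 with e | e
    · exact Or.inl (congrArg Subtype.val e)
    · exact Or.inr (congrArg Subtype.val (mem_singleton.1 e))
  obtain ⟨hsq, hfr⟩ := classify_two E h16 hodd hx' (z := z')
    (by rw [← Subgroup.orderOf_coe]; exact hz) hfreex
    (by rintro _ ⟨n, rfl⟩; exact Subtype.ext ((hνapp n z').trans ((mem_fixedPart.1 z.2).2 n n.2)))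
    fun y hy => by
      rcases hZmem _ (hfixZ y hy) with e | e
      · exact Or.inl (Subtype.ext e)
      · exact Or.inr (Subtype.ext e)
  -- the quotient by the core
  set P₁ := P.mapSurjective (QuotientGroup.mk'_surjective O) with hP₁
  haveI hab₁ : IsMulCommutative (P₁ : Subgroup (G ⧸ O)) := ⟨⟨by
    rintro ⟨_, a, ha, rfl⟩ ⟨_, b, hb, rfl⟩
    refine Subtype.ext ?_
    show f a * f b = f b * f a
    rw [← map_mul, ← map_mul, hcomm a ha b hb]⟩⟩
  set z₁ := f (z : G) with hz₁def
  have hz₁1 : z₁ ≠ 1 := fun e => hz1 (hPO _ hzP e)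
  have hz₁ : orderOf z₁ = 2 :=
    ((Nat.dvd_prime Nat.prime_two).1 (hz ▸ orderOf_map_dvd f (z : G))).resolve_left
      fun e => hz₁1 (orderOf_eq_one_iff.1 e)
  have hz₁F : z₁ ∈ fixedPart (P₁ : Subgroup (G ⧸ O)) := by
    refine mem_fixedPart.2 ⟨Subgroup.mem_map_of_mem f hzP, fun n hn => ?_⟩
    obtain ⟨n₀, rfl⟩ := QuotientGroup.mk'_surjective O n
    obtain ⟨n', hn', he⟩ := exists_lift_normalizer P f hn
    rw [← he, hz₁def, ← map_inv, ← map_mul, ← map_mul, (mem_fixedPart.1 z.2).2 n' hn']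
  have hcore₁ : ∀ K : Subgroup (G ⧸ O), K.Normal → ¬ 2 ∣ Nat.card K → K = ⊥ := fun K hK h2 =>
    core_quotient K hK h2
  have hzc := central_of_fixedPart P₁ hcore₁ hz₁ hz₁F
  set Z₁ := Subgroup.zpowers z₁ with hZ₁
  haveI hZ₁n : Z₁.Normal := ⟨fun y hy g => by
    obtain ⟨k, rfl⟩ := Subgroup.mem_zpowers_iff.1 hy
    rw [Subgroup.mem_center_iff.1 ((Subgroup.center (G ⧸ O)).zpow_mem hzc k) g,
      mul_inv_cancel_right]
    exact Subgroup.zpow_mem _ (Subgroup.mem_zpowers z₁) k⟩
  haveI : Fintype ((G ⧸ O) ⧸ Z₁) := Fintype.ofFinite _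
  set g := (QuotientGroup.mk' Z₁).comp f with hgdef
  have hgs : Function.Surjective g :=
    (QuotientGroup.mk'_surjective Z₁).comp (QuotientGroup.mk'_surjective O)
  have hgker : ∀ v ∈ (P : Subgroup G), g v = 1 ↔ v = 1 ∨ v = (z : G) := by
    intro v hv
    constructor
    · intro he
      have h1 : f v ∈ Z₁ := (QuotientGroup.eq_one_iff _).1 he
      obtain ⟨k, hk⟩ := Subgroup.mem_zpowers_iff.1 h1
      rw [hz₁def, ← map_zpow] at hk
      have h2 := hfinj _ (Subgroup.zpow_mem _ hzP k) v hv hk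
      rw [← h2]
      exact hZmem _ (Subgroup.zpow_mem _ z.2 k)
    · rintro (rfl | rfl)
      · exact map_one g
      · exact (QuotientGroup.eq_one_iff _).2 (Subgroup.mem_zpowers z₁)
  have hgcard : Nat.card ((P : Subgroup G).map g) = 8 := by
    set gP := g.comp (P : Subgroup G).subtype with hgP
    have hr : gP.range = (P : Subgroup G).map g := by
      rw [hgP, MonoidHom.range_comp, Subgroup.range_subtype]
    have hk : Nat.card gP.ker = 2 := by
      refine (Nat.card_congr ?_).trans hZc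
      exact
        { toFun := fun v => ⟨((v : (P : Subgroup G)) : G), by
            rcases (hgker _ (v : (P : Subgroup G)).2).1 v.2 with e | e <;> rw [e]
            · exact one_mem _
            · exact z.2⟩
          invFun := fun y => ⟨⟨y, (mem_fixedPart.1 y.2).1⟩,
            (hgker _ (mem_fixedPart.1 y.2).1).2 (hZmem _ y.2)⟩
          left_inv := fun v => rfl
          right_inv := fun y => rfl }
    have h1 := gP.ker.card_mul_index
    rw [hk, Subgroup.index_ker, hr, h16] at h1
    omega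
  have hF : Free ((P : Subgroup G).map g) := by
    refine free_of_map P hcomm g hgs (Or.inl hgcard) (fun v hv => ?_) ?_ fun n hn v hv hv1 he => ?_
    · rw [hgker _ (mul_mem hv hv)]
      exact (hsq ⟨v, hv⟩).imp (congrArg Subtype.val) (congrArg Subtype.val)
    · intro K hK hKodd
      set K' := K.comap (QuotientGroup.mk' Z₁) with hK'
      haveI : K'.Normal := hK.comap _
      obtain ⟨T, m, hm, hT⟩ := exists_transfer P₁
      have hL : K' ⊓ T.ker = ⊥ := by
        refine hcore₁ _ inferInstance fun hd => ?_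
        obtain ⟨t, ht⟩ := exists_prime_orderOf_dvd_card' (G := ↥(K' ⊓ T.ker)) 2 hd
        rw [← Subgroup.orderOf_coe] at ht
        have htK : ((t : G ⧸ O) : (G ⧸ O) ⧸ Z₁) ∈ K := t.2.1
        have h1 : ((t : G ⧸ O) : (G ⧸ O) ⧸ Z₁) = 1 := by
          by_contra hne
          have h2 : orderOf ((t : G ⧸ O) : (G ⧸ O) ⧸ Z₁) = 2 :=
            ((Nat.dvd_prime Nat.prime_two).1
              (by
                have h5 : orderOf ((t : G ⧸ O) : (G ⧸ O) ⧸ Z₁) ∣ orderOf (t : G ⧸ O) :=
                  orderOf_map_dvd (QuotientGroup.mk' Z₁) (t : G ⧸ O)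
                rwa [ht] at h5)).resolve_left
              fun e => hne (orderOf_eq_one_iff.1 e)
          have h5 := Subgroup.orderOf_dvd_natCard K htK
          rw [h2] at h5
          exact hKodd h5
        obtain ⟨k, hk⟩ := Subgroup.mem_zpowers_iff.1 ((QuotientGroup.eq_one_iff _).1 h1)
        have hzk : z₁ ^ k ∈ fixedPart (P₁ : Subgroup (G ⧸ O)) := Subgroup.zpow_mem _ hz₁F k
        have h3 : ((T (z₁ ^ k) : (P₁ : Subgroup (G ⧸ O))) : G ⧸ O) = (z₁ ^ k) ^ m := hT _ hzk
        rw [hk, show T (t : G ⧸ O) = 1 from t.2.2, Subgroup.coe_one] at h3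
        have h4 : (t : G ⧸ O) = 1 := eq_one_of_odd_pow hm (k := 1)
          (by have h6 := pow_orderOf_eq_one (t : G ⧸ O); rwa [ht] at h6) h3.symm
        rw [h4, orderOf_one] at ht
        omega
      refine (Subgroup.eq_bot_iff_forall _).2 fun q hq' => ?_
      obtain ⟨y, rfl⟩ := QuotientGroup.mk'_surjective Z₁ q
      obtain ⟨k, hk⟩ := IsPGroup.iff_card.1 P₁.isPGroup'
      have hy : y ^ (2 ^ k) ∈ K' ⊓ T.ker := ⟨Subgroup.pow_mem K' hq' _, by
        show T (y ^ 2 ^ k) = 1
        rw [map_pow, ← hk]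
        exact pow_card_eq_one'⟩
      rw [hL, Subgroup.mem_bot] at hy
      refine orderOf_eq_one_iff.1 (Nat.eq_one_of_dvd_coprimes ?_
        ((orderOf_map_dvd (QuotientGroup.mk' Z₁) y).trans (orderOf_dvd_of_pow_eq_one hy))
        (Subgroup.orderOf_dvd_natCard K hq'))
      exact Nat.Coprime.pow_left k ((Nat.prime_two.coprime_iff_not_dvd).2 hKodd)
    · have hv' : (n * v * n⁻¹) ∈ (P : Subgroup G) := (Subgroup.mem_normalizer_iff.1 hn v).1 hv
      have h1 : g (v⁻¹ * (n * v * n⁻¹)) = 1 := by rw [map_mul, map_inv, he, inv_mul_cancel]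
      refine htriv ⟨n, hn⟩ (hfr _ ⟨⟨n, hn⟩, rfl⟩ ⟨v, hv⟩
        (fun e => hv1 (by rw [show v = 1 from congrArg Subtype.val e, map_one]))
        (fun e => hv1 ((hgker v hv).2 (Or.inr (congrArg Subtype.val e)))) ?_)
      rcases (hgker _ (mul_mem (inv_mem hv) hv')).1 h1 with e | e
      · exact Or.inl (Subtype.ext ((hνapp _ _).trans (inv_mul_eq_one.1 e).symm))
      · exact Or.inr (Subtype.ext ((hνapp _ _).trans (eq_mul_of_inv_mul_eq e)))
  refine Or.inl (hquot fun φ hφ => ?_)
  obtain ⟨φ', hφ', he⟩ := exists_central_quotient hM P₁ hz₁ hz₁F hzc hφ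
  exact he ▸ hF.odd_degree hM hφ'

/-- The number of characters in the principal block. -/
theorem card_principal (hM : IsPModular 2 M) (P : Sylow 2 G)
    [hab : IsMulCommutative (P : Subgroup G)] {x : G} (hx : orderOf x = 2)
    (hxP : x ∈ (P : Subgroup G)) (hnpc : HasNormalPComplement 2 ↥C{x}) :
    (Nat.card (P : Subgroup G) = 8 → Nat.card (principalBlock M G) = 8) ∧
      (Nat.card (P : Subgroup G) = 16 →
        Nat.card (principalBlock M G) = 8 ∨ Nat.card (principalBlock M G) = 16) := by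
  letI := irrFintype (G := G)
  by_cases hq : Nat.card (P : Subgroup G) = 8 ∨ Nat.card (P : Subgroup G) = 16
  swap
  · exact ⟨fun e => absurd (Or.inl e) hq, fun e => absurd (Or.inr e) hq⟩
  rcases odd_or_count hM P hq hx hxP hnpc with hall | ⟨h16, hcnt⟩
  swap
  · exact ⟨fun e => by omega, fun _ => hcnt⟩
  have hPx : (P : Subgroup G) ≤ C{x} := fun w hw => Subgroup.mem_centralizer_singleton_iff.2
    (congrArg Subtype.val (hab.is_comm.comm (⟨w, hw⟩ : (P : Subgroup G)) ⟨x, hxP⟩))
  obtain ⟨a, ha, -, hsum⟩ := sum_parity hM P hx hPx hnpc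
  set B := univ.filter (· ∈ principalBlock M G) with hB
  have key := card_of_odd (fun i : B => a i.1) fun i =>
    (ha i.1).2.2 (hall i.1 (mem_filter.1 i.2).2)
  have hc : Fintype.card B = Nat.card (principalBlock M G) := by
    rw [Fintype.card_coe, hB, ← Nat.card_eq_finsetCard]
    exact Nat.card_congr (Equiv.subtypeEquivRight fun χ => by simp)
  have hs : ∑ i : B, a i.1 * a i.1 = (Nat.card (P : Subgroup G) : ℤ) := by
    rw [Finset.sum_coe_sort B fun χ => a χ * a χ]
    exact hsum
  rw [hc, hs] at key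
  exact ⟨fun e => key.1 (by rw [e]; norm_num), fun e => key.2 (by rw [e]; norm_num)⟩

end CfsgLib.AbTwoOne
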