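import Cfsg.Agent.S0205
import Cfsg.Agent.S0217
import Cfsg.Agent.Signalizer.Basic
import Cfsg.Agent.Signalizer.Local
import Cfsg.Agent.Solvable.Basics
import Mathlib.GroupTheory.Transfer
import Mathlib.GroupTheory.SchurZassenhaus

/-!
# An elementary abelian Sylow 2-subgroup on which the normalizer acts freely

Every involution centralizer has a normal complement to the Sylow subgroup, the cores of these
centralizers generate a subgroup `W` of odd order, and `M = W N(P)` contains the centralizers of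
its involutions and controls their fusion.
-/

set_option autoImplicit false
set_option linter.style.haveILetI false
set_option linter.unusedSectionVars false

namespace CfsgLib.AbTwoOne

open Cfsg Subgroup

universe u

variable {G : Type u} [Group G]

local notation "C{" x "}" => Subgroup.centralizer ({x} : Set G)
local notation "N(" V ")" => Subgroup.normalizer (SetLike.coe V)

/-- The standing hypotheses. -/
structure Free (P : Subgroup G) : Prop where
  sq : ∀ v ∈ P, v * v = 1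
  card : Nat.card P = 8 ∨ Nat.card P = 16
  odd_index : ¬ 2 ∣ P.index
  core : ∀ K : Subgroup G, K.Normal → ¬ 2 ∣ Nat.card K → K = ⊥
  free : ∀ n ∈ N(P), ∀ v ∈ P, v ≠ 1 → n * v * n⁻¹ = v → ∀ w ∈ P, n * w * n⁻¹ = w

variable {P : Subgroup G}

theorem Free.comm (h : Free P) {a b : G} (ha : a ∈ P) (hb : b ∈ P) : a * b = b * a := by
  have h3 := h.sq _ (mul_mem ha hb)
  calc a * b = a * (a * b * (a * b)) * b := by rw [h3, mul_one]
    _ = (a * a) * (b * a) * (b * b) := by group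
    _ = b * a := by rw [h.sq a ha, h.sq b hb, one_mul, mul_one]

theorem Free.inv_eq (h : Free P) {v : G} (hv : v ∈ P) : v⁻¹ = v :=
  inv_eq_of_mul_eq_one_right (h.sq v hv)

theorem Free.le_centralizer (h : Free P) {v : G} (hv : v ∈ P) : P ≤ C{v} := fun w hw =>
  mem_centralizer_singleton_iff.2 (h.comm hw hv)

theorem Free.orderOf_eq (h : Free P) {v : G} (hv : v ∈ P) (h1 : v ≠ 1) : orderOf v = 2 :=
  orderOf_eq_prime (hp := ⟨Nat.prime_two⟩) (by rw [pow_two, h.sq v hv]) h1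

theorem Free.card_eq_pow (h : Free P) : ∃ k : ℕ, Nat.card P = 2 ^ k ∧ 3 ≤ k := by
  rcases h.card with e | e
  · exact ⟨3, by rw [e]; norm_num, le_rfl⟩
  · exact ⟨4, by rw [e]; norm_num, by norm_num⟩

theorem Free.isPGroup (h : Free P) : IsPGroup 2 P := by
  obtain ⟨k, hk, -⟩ := h.card_eq_pow
  exact IsPGroup.of_card hk

/-- The Sylow subgroup. -/
noncomputable def Free.sylow [Finite G] (h : Free P) : Sylow 2 G := h.isPGroup.toSylow h.odd_index

@[simp] theorem Free.coe_sylow [Finite G] (h : Free P) : (h.sylow : Subgroup G) = P := rfl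

theorem Free.exists_ne_one (h : Free P) : ∃ v ∈ P, v ≠ 1 := by
  by_contra hne
  push Not at hne
  have := h.card
  rw [show P = ⊥ from (Subgroup.eq_bot_iff_forall _).2 hne, Subgroup.card_bot] at this
  omega

section

variable [Finite G]

/-- The core of the centralizer. -/
noncomputable abbrev K (x : G) : Subgroup G := centralizerPPrimeCore 2 x

theorem Free.two_group_le (h : Free P) {H : Subgroup G} (hH : IsPGroup 2 H) :
    ∃ g : G, ∀ x ∈ H, g * x * g⁻¹ ∈ P := by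
  haveI : Fact (Nat.Prime 2) := ⟨Nat.prime_two⟩
  obtain ⟨S, hS⟩ := hH.exists_le_sylow
  obtain ⟨g, hg⟩ := MulAction.exists_smul_eq G S h.sylow
  refine ⟨g, fun x hx => ?_⟩
  have : g * x * g⁻¹ ∈ ((g • S : Sylow 2 G) : Subgroup G) := by
    rw [Sylow.coe_subgroup_smul, Subgroup.pointwise_smul_def]
    exact ⟨x, hS hx, by simp⟩
  rwa [hg] at this

/-- Burnside: the normalizer controls fusion. -/
theorem Free.fusion (h : Free P) {x g : G} (hx : x ∈ P) (hg : g * x * g⁻¹ ∈ P) :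
    ∃ n ∈ N(P), n * x * n⁻¹ = g * x * g⁻¹ := by
  haveI : Fact (Nat.Prime 2) := ⟨Nat.prime_two⟩
  haveI : IsMulCommutative (h.sylow : Subgroup G) :=
    ⟨⟨fun a b => Subtype.ext (h.comm a.2 b.2)⟩⟩
  obtain ⟨n, hn, he⟩ := h.sylow.conj_eq_normalizer_conj_of_mem x g⁻¹ hx
    (show g⁻¹⁻¹ * x * g⁻¹ ∈ P by simpa using hg)
  refine ⟨n⁻¹, inv_mem hn, ?_⟩
  simpa using he.symm

theorem normalizer_coe {V H : Subgroup G} (hVH : V ≤ H) {n : H}
    (hn : n ∈ Subgroup.normalizer ((V.subgroupOf H : Subgroup H) : Set H)) : (n : G) ∈ N(V) := by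
  rw [Subgroup.mem_normalizer_iff]
  intro v
  constructor
  · intro hv
    exact (Subgroup.mem_normalizer_iff.1 hn ⟨v, hVH hv⟩).1 hv
  · intro hv
    have hvH : v ∈ H := by
      have h1 := H.mul_mem (H.mul_mem (H.inv_mem n.2) (hVH hv)) n.2
      simpa [mul_assoc] using h1
    exact (Subgroup.mem_normalizer_iff.1 hn ⟨v, hvH⟩).2 hv

/-- The centralizer of an involution of `P` has a normal complement of `P`. -/
theorem Free.exists_complement (h : Free P) {x : G} (hx : x ∈ P) (hx1 : x ≠ 1) :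
    (∀ g ∈ C{x}, ¬ 2 ∣ orderOf g → g ∈ K x) ∧
      (∀ g ∈ C{x}, ∃ k ∈ K x, ∃ v ∈ P, g = k * v) := by
  haveI : Fact (Nat.Prime 2) := ⟨Nat.prime_two⟩
  have hle := h.le_centralizer hx
  let S : Sylow 2 ↥C{x} := h.sylow.subtype hle
  have hP : Subgroup.normalizer ((S : Subgroup ↥C{x}) : Set ↥C{x}) ≤
      Subgroup.centralizer ((S : Subgroup ↥C{x}) : Set ↥C{x}) := by
    intro n hn
    have hnN := normalizer_coe hle (show n ∈ Subgroup.normalizer
      ((P.subgroupOf C{x} : Subgroup ↥C{x}) : Set ↥C{x}) from hn)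
    rw [Subgroup.mem_centralizer_iff]
    intro v hv
    have h1 := h.free _ hnN x hx hx1
      (mul_inv_eq_iff_eq_mul.2 (Subgroup.mem_centralizer_singleton_iff.1 n.2)) v
      (show (v : G) ∈ P from hv)
    exact Subtype.ext (mul_inv_eq_iff_eq_mul.1 h1).symm
  set f := MonoidHom.transferSylow S hP
  have hndvd : ¬ 2 ∣ Nat.card f.ker := MonoidHom.not_dvd_card_ker_transferSylow _ hP
  have hcomp : Subgroup.IsComplement' f.ker (S : Subgroup ↥C{x}) :=
    MonoidHom.ker_transferSylow_isComplement' _ hP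
  have hle' : f.ker ≤ pPrimeCore 2 ↥C{x} := CfsgLib.Solvable.le_pPrimeCore 2 inferInstance
    ((Nat.prime_two.coprime_iff_not_dvd).2 hndvd).symm
  refine ⟨fun g hg hodd => ⟨⟨g, hg⟩, hle' ?_, rfl⟩, fun g hg => ?_⟩
  · rw [MonoidHom.mem_ker, ← orderOf_eq_one_iff]
    refine Nat.eq_one_of_dvd_coprimes ?_ (orderOf_map_dvd f _) (orderOf_dvd_natCard _)
    obtain ⟨k, hk⟩ := IsPGroup.iff_card.1 S.isPGroup'
    rw [Subgroup.orderOf_mk, hk]
    exact ((Nat.prime_two.coprime_iff_not_dvd).2 hodd).symm.pow_right k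
  · obtain ⟨⟨⟨k, hk⟩, ⟨v, hv⟩⟩, he, -⟩ := hcomp.existsUnique (⟨g, hg⟩ : ↥C{x})
    exact ⟨k, ⟨k, hle' hk, rfl⟩, v, hv, (congrArg Subtype.val he).symm⟩

theorem not_dvd_card_K (x : G) : ¬ 2 ∣ Nat.card (K x) := fun hd => by
  haveI : Fact (Nat.Prime 2) := ⟨Nat.prime_two⟩
  exact (Nat.prime_two).ne_one (Nat.eq_one_of_dvd_coprimes
    (CfsgLib.Signalizer.coprime_card_centralizerPPrimeCore (p := 2) x) hd dvd_rfl)

theorem odd_orderOf {H : Subgroup G} (hH : ¬ 2 ∣ Nat.card H) {g : G} (hg : g ∈ H) :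
    ¬ 2 ∣ orderOf g :=
  fun hd => hH (hd.trans (H.orderOf_dvd_natCard hg))

theorem K_le (x : G) : K x ≤ C{x} := CfsgLib.Signalizer.mem_centralizerPPrimeCore_le

/-- The subgroup generated by the cores. -/
noncomputable def W (P : Subgroup G) : Subgroup G :=
  ⨆ a : {a : G // a ∈ P ∧ a ≠ 1}, K (a : G)

theorem Free.K_le_W (_h : Free P) {x : G} (hx : x ∈ P) (hx1 : x ≠ 1) : K x ≤ W P :=
  le_iSup (fun a : {a : G // a ∈ P ∧ a ≠ 1} => K (a : G)) ⟨x, hx, hx1⟩

theorem Free.complete (h : Free P) :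
    ¬ 2 ∣ Nat.card (W P) ∧ ∀ a ∈ P, a ≠ 1 → W P ⊓ C{a} = K a := by
  haveI : Fact (Nat.Prime 2) := ⟨Nat.prime_two⟩
  refine Cfsg.Agent.S0217.result (p := 2) P (fun a ha b hb => h.comm ha hb)
    (fun a ha => by rw [pow_two, h.sq a ha]) (by rcases h.card with e | e <;> rw [e] <;> norm_num) K
    (fun a _ _ => K_le a) (fun a _ _ => not_dvd_card_K a) (fun a ha _ b hb x hx => ?_)
    (fun a _ _ => Cfsg.Agent.S0205.result
      (Nat.not_even_iff_odd.1 fun he => not_dvd_card_K a (even_iff_two_dvd.1 he)))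
    fun a ha ha1 b hb hb1 x hx => ?_
  · have hb' := CfsgLib.Signalizer.centralizer_le_normalizer_centralizerPPrimeCore (p := 2) a
      (h.le_centralizer ha hb)
    exact (mem_normalizer_iff.1 hb' x).1 hx
  · exact (h.exists_complement hb hb1).1 x hx.2 (odd_orderOf (not_dvd_card_K a) hx.1)

theorem Free.not_dvd_card_W (h : Free P) : ¬ 2 ∣ Nat.card (W P) := h.complete.1

theorem Free.W_inf (h : Free P) {v : G} (hv : v ∈ P) (hv1 : v ≠ 1) : W P ⊓ C{v} = K v :=
  h.complete.2 v hv hv1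

theorem Free.W_solvable (h : Free P) : Group.IsSolvable (W P) :=
  Cfsg.Agent.S0205.result
    (Nat.not_even_iff_odd.1 fun he => h.not_dvd_card_W (even_iff_two_dvd.1 he))

theorem Free.W_inf_P (h : Free P) : W P ⊓ P = ⊥ := by
  refine (Subgroup.eq_bot_iff_forall _).2 fun g hg => by_contra fun hg1 => ?_
  exact odd_orderOf h.not_dvd_card_W hg.1 (by rw [h.orderOf_eq hg.2 hg1])

theorem Free.eq_of_W_mul (h : Free P) {w w' v v' : G} (hw : w ∈ W P) (hw' : w' ∈ W P)
    (hv : v ∈ P) (hv' : v' ∈ P) (he : w * v = w' * v') : w = w' ∧ v = v' := by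
  have h1 : w'⁻¹ * w = v' * v⁻¹ := by
    apply mul_left_cancel (a := w')
    apply mul_right_cancel (b := v)
    simp [mul_assoc, he]
  have h2 : w'⁻¹ * w ∈ W P ⊓ P :=
    ⟨(W P).mul_mem ((W P).inv_mem hw') hw, h1 ▸ P.mul_mem hv' (P.inv_mem hv)⟩
  rw [h.W_inf_P, mem_bot] at h2
  obtain rfl : w = w' := (inv_mul_eq_one.1 h2).symm
  exact ⟨rfl, mul_left_cancel he⟩

theorem conj_mem_centralizer {n x g : G} (hg : g ∈ C{x}) : n * g * n⁻¹ ∈ C{n * x * n⁻¹} := by
  refine mem_centralizer_singleton_iff.2 ?_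
  have := mem_centralizer_singleton_iff.1 hg
  calc n * g * n⁻¹ * (n * x * n⁻¹) = n * (g * x) * n⁻¹ := by group
    _ = n * (x * g) * n⁻¹ := by rw [this]
    _ = _ := by group

theorem Free.normalizer_le (h : Free P) : N(P) ≤ N((W P)) := by
  have hle : ∀ n ∈ N(P), W P ≤ (W P).comap (MulAut.conj n).toMonoidHom := by
    intro n hn
    refine iSup_le fun a g hg => ?_
    have hna : n * a.1 * n⁻¹ ∈ P := (mem_normalizer_iff.1 hn _).1 a.2.1
    have hna1 : n * a.1 * n⁻¹ ≠ 1 := fun e => a.2.2 (conj_eq_one_iff.1 e)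
    refine h.K_le_W hna hna1 ((h.exists_complement hna hna1).1 _
      (conj_mem_centralizer (K_le _ hg)) ?_)
    show ¬ 2 ∣ orderOf ((MulAut.conj n) g)
    rw [MulEquiv.orderOf_eq]
    exact odd_orderOf (not_dvd_card_K _) hg
  intro n hn
  rw [Subgroup.mem_normalizer_iff]
  intro g
  refine ⟨fun hg => hle n hn hg, fun hg => ?_⟩
  have h1 : n⁻¹ * (n * g * n⁻¹) * n⁻¹⁻¹ ∈ W P := hle n⁻¹ (inv_mem hn) hg
  simpa [mul_assoc] using h1

theorem Free.conj_W (h : Free P) {n w : G} (hn : n ∈ N(P)) (hw : w ∈ W P) : n * w * n⁻¹ ∈ W P :=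
  (mem_normalizer_iff.1 (h.normalizer_le hn) w).1 hw

theorem Free.conj_P_W (h : Free P) {v w : G} (hv : v ∈ P) (hw : w ∈ W P) : v * w * v⁻¹ ∈ W P :=
  h.conj_W (le_normalizer hv) hw

/-- The subgroup `W N(P)`. -/
noncomputable def bigM (P : Subgroup G) : Subgroup G := W P ⊔ N(P)

theorem Free.mem_bigM_iff (h : Free P) {g : G} :
    g ∈ bigM P ↔ ∃ w ∈ W P, ∃ n ∈ N(P), g = w * n := by
  constructor
  · intro hg
    rw [bigM, ← SetLike.mem_coe, coe_mul_of_right_le_normalizer_left _ _ h.normalizer_le,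
      Set.mem_mul] at hg
    obtain ⟨w, hw, n, hn, rfl⟩ := hg
    exact ⟨w, hw, n, hn, rfl⟩
  · rintro ⟨w, hw, n, hn, rfl⟩
    exact mul_mem (mem_sup_left hw) (mem_sup_right hn)

theorem Free.W_le_bigM (_h : Free P) : W P ≤ bigM P := le_sup_left

theorem Free.normalizer_le_bigM (_h : Free P) : N(P) ≤ bigM P := le_sup_right

theorem Free.P_le_bigM (h : Free P) : P ≤ bigM P := le_normalizer.trans h.normalizer_le_bigM

theorem Free.bigM_le_normalizer (h : Free P) : bigM P ≤ N((W P)) :=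
  sup_le le_normalizer h.normalizer_le

theorem Free.centralizer_le_bigM (h : Free P) {v : G} (hv : v ∈ P) (hv1 : v ≠ 1) :
    C{v} ≤ bigM P := by
  intro g hg
  obtain ⟨k, hk, w, hw, rfl⟩ := (h.exists_complement hv hv1).2 g hg
  exact mul_mem (h.W_le_bigM (h.K_le_W hv hv1 hk)) (h.P_le_bigM hw)

/-- An involution of `M` is conjugate under `W` to an element of `P`. -/
theorem Free.exists_conj_P (h : Free P) {t : G} (ht : t ∈ bigM P) (ht2 : orderOf t = 2) :
    ∃ w ∈ W P, ∃ v ∈ P, v ≠ 1 ∧ t = w * v * w⁻¹ := by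
  haveI : Fact (Nat.Prime 2) := ⟨Nat.prime_two⟩
  have hle := h.P_le_bigM
  let S : Sylow 2 ↥(bigM P) := h.sylow.subtype hle
  have hp : IsPGroup 2 (Subgroup.zpowers (⟨t, ht⟩ : bigM P)) :=
    IsPGroup.of_card (n := 1) (by rw [Nat.card_zpowers, ← Subgroup.orderOf_coe, pow_one]; exact ht2)
  obtain ⟨T, hT⟩ := hp.exists_le_sylow
  obtain ⟨m, hm⟩ := MulAction.exists_smul_eq ↥(bigM P) T S
  have h1 : m * ⟨t, ht⟩ * m⁻¹ ∈ ((m • T : Sylow 2 ↥(bigM P)) : Subgroup ↥(bigM P)) := by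
    rw [Sylow.coe_subgroup_smul]
    exact Subgroup.smul_mem_pointwise_smul _ (MulAut.conj m) _ (hT (Subgroup.mem_zpowers _))
  rw [hm] at h1
  have h2 : (m : G) * t * (m : G)⁻¹ ∈ P := h1
  obtain ⟨w, hw, n, hn, he⟩ := h.mem_bigM_iff.1 (inv_mem m.2)
  have hte : t = w * (n * ((m : G) * t * (m : G)⁻¹) * n⁻¹) * w⁻¹ := by
    calc t = (m : G)⁻¹ * ((m : G) * t * (m : G)⁻¹) * ((m : G)⁻¹)⁻¹ := by group
      _ = _ := by rw [he]; group
  refine ⟨w, hw, _, (mem_normalizer_iff.1 hn _).1 h2, fun e => ?_, hte⟩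
  rw [e, mul_one, mul_inv_cancel] at hte
  rw [hte, orderOf_one] at ht2
  omega

theorem Free.centralizer_invol_le (h : Free P) {z : G} (hz : z ∈ bigM P) (hz2 : orderOf z = 2) :
    C{z} ≤ bigM P := by
  obtain ⟨w, hw, v, hv, hv1, rfl⟩ := h.exists_conj_P hz hz2
  intro g hg
  have h1 := conj_mem_centralizer (n := w⁻¹) hg
  rw [show w⁻¹ * (w * v * w⁻¹) * w⁻¹⁻¹ = v by group] at h1
  have h2 := mul_mem (mul_mem (h.W_le_bigM hw) (h.centralizer_le_bigM hv hv1 h1))
    (h.W_le_bigM (inv_mem hw))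
  simpa [mul_assoc] using h2

/-- An involution of `M` lies in no other conjugate of `M`. -/
theorem Free.mem_of_conj (h : Free P) {g t : G} (ht : t ∈ bigM P) (ht2 : orderOf t = 2)
    (hgt : g * t * g⁻¹ ∈ bigM P) : g ∈ bigM P := by
  obtain ⟨w, hw, v, hv, hv1, rfl⟩ := h.exists_conj_P ht ht2
  obtain ⟨w', hw', v', hv', hv1', he⟩ := h.exists_conj_P hgt (by
    rw [show g * (w * v * w⁻¹) * g⁻¹ = (MulAut.conj g) (w * v * w⁻¹) from rfl,
      MulEquiv.orderOf_eq]
    exact ht2)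
  set a := w'⁻¹ * g * w with ha
  have hav : a * v * a⁻¹ = v' := by
    calc a * v * a⁻¹ = w'⁻¹ * (g * (w * v * w⁻¹) * g⁻¹) * w' := by rw [ha]; group
      _ = v' := by rw [he]; group
  obtain ⟨n, hn, hne⟩ := h.fusion hv (hav ▸ hv')
  have h1 : n⁻¹ * a ∈ C{v} := mem_centralizer_singleton_iff.2 (by
    calc n⁻¹ * a * v = n⁻¹ * (a * v * a⁻¹) * a := by group
      _ = n⁻¹ * (n * v * n⁻¹) * a := by rw [hne]
      _ = _ := by group)
  have h2 : a ∈ bigM P := by
    have := mul_mem (h.normalizer_le_bigM hn) (h.centralizer_le_bigM hv hv1 h1)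
    simpa using this
  have h3 := mul_mem (mul_mem (h.W_le_bigM hw') h2) (h.W_le_bigM (inv_mem hw))
  simpa [ha, mul_assoc] using h3

/-- When `M` is everything, `W` is trivial. -/
theorem Free.W_eq_bot (h : Free P) (hM : bigM P = ⊤) : W P = ⊥ := by
  refine h.core _ ⟨fun w hw g => ?_⟩ h.not_dvd_card_W
  exact (mem_normalizer_iff.1 (h.bigM_le_normalizer (hM ▸ mem_top g)) w).1 hw

/-- When `M` is proper, no nontrivial element lies in all its conjugates. -/
theorem Free.core_bigM (h : Free P) (hM : bigM P ≠ ⊤) {g : G}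
    (hg : ∀ a : G, a * g * a⁻¹ ∈ bigM P) : g = 1 := by
  haveI : Fact (Nat.Prime 2) := ⟨Nat.prime_two⟩
  have hmem : g ∈ (bigM P).normalCore := hg
  have hodd : ¬ 2 ∣ Nat.card (bigM P).normalCore := by
    intro hd
    obtain ⟨z, hz⟩ := exists_prime_orderOf_dvd_card' (G := (bigM P).normalCore) 2 hd
    rw [← Subgroup.orderOf_coe] at hz
    refine hM (eq_top_iff.2 fun a _ => h.mem_of_conj (g := a)
      (Subgroup.normalCore_le _ z.2) hz ?_)
    exact Subgroup.normalCore_le _ ((inferInstance : (bigM P).normalCore.Normal).conj_mem _ z.2 a)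
  rw [h.core _ inferInstance hodd, mem_bot] at hmem
  exact hmem

end

end CfsgLib.AbTwoOne
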